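import Mathlib

/-!
# The ratio of group order to class number
-/

set_option autoImplicit false
set_option linter.style.haveILetI false

namespace Cfsg.Agent.Lib.ClassLowerSolv

variable {G : Type*} [Group G] [Finite G]

theorem card_commute_le (H : Subgroup G) (x : G) :
    Nat.card {y : G // Commute x y} ≤ Nat.card {h : H // Commute x (h : G)} * H.index := by
  classical
  set C := Subgroup.centralizer ({x} : Set G)
  have hC : Nat.card {y : G // Commute x y} = Nat.card C :=
    Nat.card_congr (Equiv.subtypeEquivRight fun y => Subgroup.mem_centralizer_singleton_iff.trans eq_comm |>.symm)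
  have hH : Nat.card {h : H // Commute x (h : G)} = Nat.card (H.subgroupOf C) :=
    Nat.card_congr
      { toFun := fun h => ⟨⟨h.1, Subgroup.mem_centralizer_singleton_iff.mpr h.2.eq.symm⟩, h.1.2⟩
        invFun := fun c => ⟨⟨c.1.1, c.2⟩, (Subgroup.mem_centralizer_singleton_iff.mp c.1.2).symm⟩
        left_inv := fun h => rfl
        right_inv := fun c => rfl }
  rw [hC, hH, ← (H.subgroupOf C).card_mul_index]
  refine Nat.mul_le_mul_left _ ?_
  exact (Subgroup.relIndex_le_of_le_right le_top (by rw [Subgroup.relIndex_top_right]; exact Subgroup.index_ne_zero_of_finite)).trans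
    H.relIndex_top_right.le

/-- The commuting probability does not increase on passing to an overgroup. -/
theorem commProb_le_subgroup (H : Subgroup G) : commProb G ≤ commProb H := by
  classical
  haveI := Fintype.ofFinite G
  haveI := Fintype.ofFinite H
  have e1 : Nat.card {p : G × G // Commute p.1 p.2} = ∑ x : G, Nat.card {y : G // Commute x y} := by
    rw [Nat.card_congr (Equiv.subtypeProdEquivSigmaSubtype fun x y : G => Commute x y),
      Nat.card_sigma]
  have e2 : Nat.card {p : H × H // Commute p.1 p.2} =
      ∑ h : H, Nat.card {k : H // Commute (h : G) k} := by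
    rw [Nat.card_congr (Equiv.subtypeProdEquivSigmaSubtype fun x y : H => Commute x y),
      Nat.card_sigma]
    refine Finset.sum_congr rfl fun h _ => Nat.card_congr (Equiv.subtypeEquivRight fun k => ?_)
    show h * k = k * h ↔ (h : G) * k = k * h
    rw [Subtype.ext_iff, Subgroup.coe_mul, Subgroup.coe_mul]
  have e3 : ∑ x : G, Nat.card {h : H // Commute x (h : G)} =
      ∑ h : H, Nat.card {y : G // Commute (h : G) y} := by
    simp only [Nat.card_eq_fintype_card, Fintype.card_subtype, Finset.card_filter]
    rw [Finset.sum_comm]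
    refine Finset.sum_congr rfl fun h _ => Finset.sum_congr rfl fun y _ => ?_
    exact if_congr ⟨Commute.symm, Commute.symm⟩ rfl rfl
  have key : Nat.card {p : G × G // Commute p.1 p.2} ≤
      Nat.card {p : H × H // Commute p.1 p.2} * H.index ^ 2 := by
    rw [e1, e2, sq, ← mul_assoc]
    calc ∑ x : G, Nat.card {y : G // Commute x y}
        ≤ ∑ x : G, Nat.card {h : H // Commute x (h : G)} * H.index :=
          Finset.sum_le_sum fun x _ => card_commute_le H x
      _ = (∑ h : H, Nat.card {y : G // Commute (h : G) y}) * H.index := by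
          rw [← Finset.sum_mul, e3]
      _ ≤ _ := by
          rw [Finset.sum_mul (s := Finset.univ) (f := fun h : H => Nat.card {k : H // Commute (h : G) k})]
          exact Nat.mul_le_mul_right _ (Finset.sum_le_sum fun h _ => card_commute_le H _)
  rw [commProb_def, commProb_def, div_le_div_iff₀ (by positivity [Nat.card_pos (α := G)])
    (by positivity [Nat.card_pos (α := H)])]
  rw [← H.card_mul_index]
  push_cast
  have hk : ((Nat.card {p : G × G // Commute p.1 p.2} : ℕ) : ℚ) ≤
      ((Nat.card {p : H × H // Commute p.1 p.2} * H.index ^ 2 : ℕ) : ℚ) := by exact_mod_cast key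
  push_cast at hk
  nlinarith [sq_nonneg ((Nat.card H : ℚ))]

theorem classes_mul_card_le (H : Subgroup G) :
    Nat.card (ConjClasses G) * Nat.card H ≤ Nat.card (ConjClasses H) * Nat.card G := by
  have h := commProb_le_subgroup H
  rw [commProb_def', commProb_def', div_le_div_iff₀ (by exact_mod_cast Nat.card_pos)
    (by exact_mod_cast Nat.card_pos)] at h
  exact_mod_cast h

/-- Bounds on the factors of a product give bounds on a subgroup of it. -/
theorem card_le_prod_mul_classes {ι : Type*} [Fintype ι] {K : ι → Type*} [∀ i, Group (K i)]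
    [∀ i, Finite (K i)] (φ : G →* ∀ i, K i) (hφ : Function.Injective φ) (g : ι → ℕ)
    (hg : ∀ i, Nat.card (K i) ≤ g i * Nat.card (ConjClasses (K i))) :
    Nat.card G ≤ (∏ i, g i) * Nat.card (ConjClasses G) := by
  have h1 : commProb (∀ i, K i) ≤ commProb φ.range := commProb_le_subgroup _
  have e : commProb φ.range = commProb G := by
    rw [commProb_def', commProb_def', Nat.card_congr (MonoidHom.ofInjective hφ).toEquiv,
      Nat.card_congr (Equiv.ofBijective (ConjClasses.map (MonoidHom.ofInjective hφ).toMonoidHom)
        ⟨fun a b h => ?_, ConjClasses.map_surjective (MonoidHom.ofInjective hφ).surjective⟩)]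
    obtain ⟨a, rfl⟩ := ConjClasses.mk_surjective a
    obtain ⟨b, rfl⟩ := ConjClasses.mk_surjective b
    obtain ⟨c, hc⟩ := isConj_iff.mp (ConjClasses.mk_eq_mk_iff_isConj.mp h)
    obtain ⟨d, rfl⟩ := (MonoidHom.ofInjective hφ).surjective c
    refine ConjClasses.mk_eq_mk_iff_isConj.mpr (isConj_iff.mpr ⟨d, ?_⟩)
    refine (MonoidHom.ofInjective hφ).injective ?_
    rw [map_mul, map_mul, map_inv]
    exact hc
  rw [e, commProb_pi, commProb_def'] at h1
  have h2 : ∀ i, (1 : ℚ) ≤ g i * commProb (K i) := fun i => by
    rw [commProb_def', mul_div_assoc', le_div_iff₀ (by exact_mod_cast Nat.card_pos), one_mul]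
    exact_mod_cast hg i
  have h3 : (1 : ℚ) ≤ (∏ i, (g i : ℚ)) * (Nat.card (ConjClasses G) / Nat.card G) := by
    refine le_trans ?_ (mul_le_mul_of_nonneg_left h1 (Finset.prod_nonneg fun i _ => by positivity))
    rw [← Finset.prod_mul_distrib]
    exact Finset.one_le_prod fun i _ => h2 i
  rw [mul_div_assoc', le_div_iff₀ (by exact_mod_cast Nat.card_pos), one_mul] at h3
  exact_mod_cast h3

/-- Passing from a subgroup of index `j` costs a factor `j ^ 2`. -/
theorem card_le_of_subgroup (H : Subgroup G) {g : ℕ}
    (hg : Nat.card H ≤ g * Nat.card (ConjClasses H)) :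
    Nat.card G ≤ H.index ^ 2 * g * Nat.card (ConjClasses G) := by
  have h := Subgroup.commProb_subgroup_le H
  rw [commProb_def', commProb_def'] at h
  have hH : (0 : ℚ) < Nat.card H := by exact_mod_cast Nat.card_pos
  have hG : (0 : ℚ) < Nat.card G := by exact_mod_cast Nat.card_pos
  rw [div_mul_eq_mul_div, div_le_div_iff₀ hH hG] at h
  have h2 : (Nat.card H : ℚ) ≤ g * Nat.card (ConjClasses H) := by exact_mod_cast hg
  have h3 : (Nat.card G : ℚ) * Nat.card H ≤
      (H.index ^ 2 * g * Nat.card (ConjClasses G)) * Nat.card H := by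
    nlinarith [Nat.cast_nonneg (α := ℚ) g]
  exact_mod_cast le_of_mul_le_mul_right h3 hH

end Cfsg.Agent.Lib.ClassLowerSolv
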