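import Mathlib

/-!
# Counting conjugacy classes from below
-/

set_option autoImplicit false
set_option linter.style.haveILetI false

namespace Cfsg.Agent.Lib.ClassLowerSolv

variable {G : Type*} [Group G] [Finite G]

/-- Elements centralised by `K` have at most `|G : K|` conjugates. -/
theorem card_conjugates_le {x : G} {K : Subgroup G} (hK : ∀ k ∈ K, k * x = x * k) :
    {y | IsConj x y}.ncard ≤ K.index := by
  classical
  let f : G ⧸ K → G := fun q => q.out * x * q.out⁻¹
  have hsub : {y | IsConj x y} ⊆ Set.range f := by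
    intro y hy
    obtain ⟨c, hc⟩ := isConj_iff.mp hy
    refine ⟨(c : G ⧸ K), ?_⟩
    obtain ⟨⟨k, hk⟩, hout⟩ := QuotientGroup.mk_out_eq_mul K c
    show (c : G ⧸ K).out * x * (c : G ⧸ K).out⁻¹ = y
    rw [hout, ← hc]
    calc c * k * x * (c * k)⁻¹ = c * (k * x * k⁻¹) * c⁻¹ := by group
      _ = c * x * c⁻¹ := by rw [hK k hk, mul_inv_cancel_right]
  refine (Set.ncard_le_ncard hsub (Set.finite_range f)).trans ?_
  rw [← Nat.card_coe_set_eq]
  exact Finite.card_range_le f

/-- A set centralised by `K` meets at least `|S| / |G : K|` classes. -/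
theorem card_le_classes_mul (S : Set G) (K : Subgroup G) (hK : ∀ x ∈ S, ∀ k ∈ K, k * x = x * k) :
    S.ncard ≤ (ConjClasses.mk '' S).ncard * K.index := by
  classical
  haveI := Fintype.ofFinite G
  have h := Finset.card_le_mul_card_image (f := ConjClasses.mk) S.toFinset K.index fun b hb => by
    rw [Finset.mem_image] at hb
    obtain ⟨x, hx, rfl⟩ := hb
    rw [Set.mem_toFinset] at hx
    refine le_trans ?_ (card_conjugates_le (hK x hx))
    rw [← Set.ncard_coe_finset]
    refine Set.ncard_le_ncard (fun y hy => ?_) (Set.toFinite _)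
    simp only [Finset.coe_filter, Set.mem_setOf_eq] at hy
    exact (ConjClasses.mk_eq_mk_iff_isConj.mp hy.2).symm
  rw [Set.ncard_eq_toFinset_card' S, Set.ncard_eq_toFinset_card', Set.toFinset_image, mul_comm]
  exact h

theorem card_le_classNumber_mul (B : Subgroup G) (K : Subgroup G)
    (hK : ∀ x ∈ B, ∀ k ∈ K, k * x = x * k) :
    Nat.card B ≤ Nat.card (ConjClasses G) * K.index := by
  refine le_trans (le_of_eq ?_) ((card_le_classes_mul (B : Set G) K hK).trans
    (Nat.mul_le_mul_right _ ?_))
  · rw [← Nat.card_coe_set_eq]; rfl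
  · exact (Set.ncard_le_ncard (Set.subset_univ _) Set.finite_univ).trans (Set.ncard_univ _).le

theorem classes_quotient_le (N : Subgroup G) [N.Normal] :
    Nat.card (ConjClasses (G ⧸ N)) ≤ Nat.card (ConjClasses G) :=
  Nat.card_le_card_of_surjective _
    (ConjClasses.map_surjective (f := QuotientGroup.mk' N) (QuotientGroup.mk'_surjective N))

/-- The nontrivial elements of a normal `V` inside `C`, and the classes outside `C`. -/
theorem classes_split (V C : Subgroup G) [C.Normal] (hVC : V ≤ C)
    (hcen : ∀ x ∈ V, ∀ c ∈ C, c * x = x * c) :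
    ∃ Y : ℕ, Nat.card V ≤ Y * C.index + 1 ∧
      Y + Nat.card (ConjClasses (G ⧸ C)) ≤ Nat.card (ConjClasses G) := by
  classical
  haveI := Fintype.ofFinite G
  set S : Set G := (V : Set G) \ {1} with hS
  set I := ConjClasses.mk '' S with hI
  refine ⟨I.ncard, ?_, ?_⟩
  · have h := card_le_classes_mul S C fun x hx c hc => hcen x hx.1 c hc
    rw [← hI] at h
    have : S.ncard + 1 = Nat.card V := by
      rw [hS, Set.ncard_diff_singleton_add_one (SetLike.mem_coe.mpr V.one_mem) (Set.toFinite _),
        ← Nat.card_coe_set_eq]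
      rfl
    omega
  · set π := ConjClasses.map (QuotientGroup.mk' C) with hπ
    set U : Set (ConjClasses G) := {c | π c ≠ 1} with hU
    have hsurj : Function.Surjective π :=
      ConjClasses.map_surjective (QuotientGroup.mk'_surjective C)
    have hone : π 1 = 1 := by
      show ConjClasses.map _ (ConjClasses.mk 1) = ConjClasses.mk 1
      show ConjClasses.mk (QuotientGroup.mk' C 1) = ConjClasses.mk 1
      rw [map_one]
    have hI1 : ∀ c ∈ I, π c = 1 := by
      rintro _ ⟨x, hx, rfl⟩
      show ConjClasses.mk (QuotientGroup.mk' C x) = ConjClasses.mk 1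
      rw [QuotientGroup.mk'_apply, (QuotientGroup.eq_one_iff x).mpr (hVC hx.1)]
    have h1I : (1 : ConjClasses G) ∉ I := by
      rintro ⟨x, hx, h⟩
      exact hx.2 (isConj_one_left.mp (ConjClasses.mk_eq_mk_iff_isConj.mp h) : x = 1)
    have hge : Nat.card (ConjClasses (G ⧸ C)) ≤ U.ncard + 1 := by
      have hsub : (Set.univ : Set (ConjClasses (G ⧸ C))) ⊆ insert 1 (π '' U) := by
        intro d _
        obtain ⟨c, rfl⟩ := hsurj d
        by_cases hc : π c = 1
        · exact Or.inl hc
        · exact Or.inr ⟨c, hc, rfl⟩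
      have := Set.ncard_le_ncard hsub (Set.toFinite _)
      rw [Set.ncard_univ] at this
      refine this.trans ((Set.ncard_insert_le _ _).trans ?_)
      exact Nat.add_le_add_right (Set.ncard_image_le (Set.toFinite _)) 1
    have hdisj : Disjoint (insert 1 I) U := Set.disjoint_left.mpr fun c hc hcU => by
      rcases hc with rfl | hc
      · exact hcU hone
      · exact hcU (hI1 c hc)
    have hle := Set.ncard_le_ncard (Set.subset_univ (insert 1 I ∪ U)) Set.finite_univ
    rw [Set.ncard_union_eq hdisj (Set.toFinite _) (Set.toFinite _), Set.ncard_univ,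
      Set.ncard_insert_of_notMem h1I (Set.toFinite _)] at hle
    omega

theorem two_le_classes [Nontrivial G] : 2 ≤ Nat.card (ConjClasses G) := by
  obtain ⟨x, hx⟩ := exists_ne (1 : G)
  haveI : Nontrivial (ConjClasses G) := ⟨ConjClasses.mk x, ConjClasses.mk 1, fun h =>
    hx (isConj_one_left.mp (ConjClasses.mk_eq_mk_iff_isConj.mp h))⟩
  exact Finite.one_lt_card

theorem small_step {n c k : ℕ} (hc : 0 < c) (hd : c ∣ n) (hn : n = k * (c + 1)) :
    n ≤ k * (k + 1) := by
  have hck : c ∣ k := by
    have h1 : c ∣ k * c + k := by rw [← Nat.mul_succ]; exact hn ▸ hd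
    exact (Nat.dvd_add_right (dvd_mul_left c k)).mp h1
  rcases Nat.eq_zero_or_pos k with h | h
  · subst h; simp at hn; omega
  · rw [hn]; exact Nat.mul_le_mul_left _ (Nat.succ_le_succ (Nat.le_of_dvd h hck))

theorem three_sorted {n a b c : ℕ} (hc : 0 < c) (hab : b ≤ a) (hbc : c ≤ b) (ha : a ∣ n)
    (hb : b ∣ n) (hcn : c ∣ n) (hs : a + b + c + 1 = n) : n ≤ 42 := by
  obtain ⟨z, hz⟩ := ha
  obtain ⟨w, hw⟩ := hb
  by_contra hbig
  push Not at hbig
  have hz2 : 2 ≤ z := by
    by_contra h
    interval_cases z <;> omega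
  have hz3 : z ≤ 3 := by
    by_contra h
    have : a * 4 ≤ a * z := Nat.mul_le_mul_left _ (by omega)
    omega
  have hw4 : w ≤ 4 := by
    by_contra h
    have h5 : b * 5 ≤ b * w := Nat.mul_le_mul_left _ (by omega)
    interval_cases z <;> omega
  interval_cases z <;> interval_cases w <;> try omega
  all_goals
    first
    | (have := small_step hc hcn (k := 6) (by omega); omega)
    | (have := small_step hc hcn (k := 4) (by omega); omega)
    | (have := small_step hc hcn (k := 3) (by omega); omega)

theorem two_sum {n a b : ℕ} (hb : 0 < b) (hab : b ≤ a) (ha : a ∣ n) (hbn : b ∣ n)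
    (hs : a + b + 1 = n) : n ≤ 42 := by
  obtain ⟨z, hz⟩ := ha
  by_contra hbig
  push Not at hbig
  have hz2 : z ≤ 2 := by
    by_contra h
    have : a * 3 ≤ a * z := Nat.mul_le_mul_left _ (by omega)
    omega
  interval_cases z
  · omega
  · omega
  · have := small_step hb hbn (k := 2) (by omega)
    omega

/-- A group with at most four classes has order at most `42`. -/
theorem card_le_of_classes_le_four (h : Nat.card (ConjClasses G) ≤ 4) : Nat.card G ≤ 42 := by
  classical
  haveI := Fintype.ofFinite G
  haveI := Fintype.ofFinite (ConjClasses G)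
  set f : ConjClasses G → ℕ := fun c => Nat.card c.carrier with hf
  have hdvd : ∀ c, f c ∣ Nat.card G := by
    intro c
    induction c using Quotient.inductionOn with
    | h x =>
      show Nat.card (ConjClasses.mk x).carrier ∣ _
      rw [← ConjAct.orbit_eq_carrier_conjClasses]
      exact ⟨_, by
        rw [Nat.card_coe_set_eq, ← MulAction.index_stabilizer]
        exact ((MulAction.stabilizer (ConjAct G) x).index_mul_card).symm⟩
  have hpos : ∀ c, 0 < f c := by
    intro c
    obtain ⟨x, rfl⟩ := ConjClasses.mk_surjective c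
    haveI : Nonempty (ConjClasses.mk x).carrier := ⟨⟨x, ConjClasses.mem_carrier_mk⟩⟩
    exact Nat.card_pos
  have h1 : f 1 = 1 := by
    have : (1 : ConjClasses G).carrier = {1} := by
      ext y
      rw [Set.mem_singleton_iff]
      show y ∈ (ConjClasses.mk (1 : G)).carrier ↔ _
      rw [ConjClasses.mem_carrier_iff_mk_eq, ConjClasses.mk_eq_mk_iff_isConj, isConj_one_left]
    simp [hf, this]
  have hsum : f 1 + ∑ c ∈ Finset.univ.erase 1, f c = Nat.card G := by
    rw [Finset.add_sum_erase _ _ (Finset.mem_univ _), Nat.card_eq_fintype_card (α := G),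
      ← sum_conjClasses_card_eq_card G]
    exact Finset.sum_congr rfl fun c _ => (Nat.card_coe_set_eq _).trans (Set.ncard_eq_toFinset_card' _)
  rw [h1] at hsum
  have hcard : (Finset.univ.erase (1 : ConjClasses G)).card ≤ 3 := by
    rw [Finset.card_erase_of_mem (Finset.mem_univ _), Finset.card_univ, ← Nat.card_eq_fintype_card]
    omega
  set s := Finset.univ.erase (1 : ConjClasses G)
  have key3 : ∀ a b c : ℕ, 0 < a → 0 < b → 0 < c → a ∣ Nat.card G → b ∣ Nat.card G →
      c ∣ Nat.card G → a + b + c + 1 = Nat.card G → Nat.card G ≤ 42 := by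
    intro a b c ha hb hc da db dc e
    rcases le_total a b with h1 | h1 <;> rcases le_total b c with h2 | h2 <;>
      rcases le_total a c with h3 | h3
    all_goals first
      | exact three_sorted ha (by omega : b ≤ c) (by omega : a ≤ b) dc db da (by omega)
      | exact three_sorted ha (by omega : c ≤ b) (by omega : a ≤ c) db dc da (by omega)
      | exact three_sorted hb (by omega : a ≤ c) (by omega : b ≤ a) dc da db (by omega)
      | exact three_sorted hb (by omega : c ≤ a) (by omega : b ≤ c) da dc db (by omega)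
      | exact three_sorted hc (by omega : a ≤ b) (by omega : c ≤ a) db da dc (by omega)
      | exact three_sorted hc (by omega : b ≤ a) (by omega : c ≤ b) da db dc (by omega)
  have hcases : s.card = 0 ∨ s.card = 1 ∨ s.card = 2 ∨ s.card = 3 := by omega
  rcases hcases with h0 | h0 | h0 | h0
  · rw [Finset.card_eq_zero] at h0
    rw [h0, Finset.sum_empty] at hsum
    omega
  · obtain ⟨x, hx⟩ := Finset.card_eq_one.mp h0
    rw [hx, Finset.sum_singleton] at hsum
    have := small_step (hpos x) (hdvd x) (k := 1) (by omega)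
    omega
  · obtain ⟨x, y, hxy, hx⟩ := Finset.card_eq_two.mp h0
    rw [hx, Finset.sum_pair hxy] at hsum
    rcases le_total (f x) (f y) with h2 | h2
    · exact two_sum (hpos x) h2 (hdvd y) (hdvd x) (by omega)
    · exact two_sum (hpos y) h2 (hdvd x) (hdvd y) (by omega)
  · obtain ⟨x, y, z, hxy, hxz, hyz, hx⟩ := Finset.card_eq_three.mp h0
    rw [hx, Finset.sum_insert (by simp [hxy, hxz]), Finset.sum_pair hyz] at hsum
    exact key3 _ _ _ (hpos x) (hpos y) (hpos z) (hdvd x) (hdvd y) (hdvd z) (by omega)

end Cfsg.Agent.Lib.ClassLowerSolv
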