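import Mathlib
import Cfsg.Agent.S0547
import Cfsg.Agent.Lib.Supersolvable.MinNormal

/-!
# Order bounds: automorphism groups and solvable permutation groups
-/

set_option autoImplicit false
set_option linter.style.haveILetI false

namespace Cfsg.Agent.Lib.ClassLowerSolv

open MulAction Pointwise

/-- A finite group has a generating set of at most `log₂` of its order elements. -/
theorem exists_gens (Q : Type*) [Group Q] [Finite Q] :
    ∃ S : Finset Q, Subgroup.closure (S : Set Q) = ⊤ ∧ (1 : Q) ∉ S ∧ 2 ^ S.card ≤ Nat.card Q := by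
  classical
  haveI := Fintype.ofFinite Q
  set Good : Finset Q → Prop := fun S =>
    (1 : Q) ∉ S ∧ 2 ^ S.card ≤ Nat.card (Subgroup.closure (S : Set Q)) with hGood
  obtain ⟨S, hS, hmax⟩ := Finset.exists_max_image (Finset.univ.filter Good) Finset.card
    ⟨∅, Finset.mem_filter.mpr ⟨Finset.mem_univ _, by simp [hGood]⟩⟩
  rw [Finset.mem_filter] at hS
  obtain ⟨-, h1, h2⟩ := hS
  have htop : Subgroup.closure (S : Set Q) = ⊤ := by
    by_contra hne
    obtain ⟨g, -, hg⟩ := SetLike.exists_of_lt (lt_top_iff_ne_top.mpr hne)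
    have hgS : g ∉ S := fun h => hg (Subgroup.subset_closure h)
    have hg1 : g ≠ 1 := fun h => hg (h ▸ one_mem _)
    have hlt : Subgroup.closure (S : Set Q) < Subgroup.closure ((insert g S : Finset Q) : Set Q) :=
      lt_of_le_of_ne (Subgroup.closure_mono (by simp)) fun h =>
        hg (h ▸ Subgroup.subset_closure (by simp))
    have hdvd := Subgroup.card_dvd_of_le hlt.le
    have hne' : Nat.card (Subgroup.closure (S : Set Q)) ≠
        Nat.card (Subgroup.closure ((insert g S : Finset Q) : Set Q)) := fun h =>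
      hlt.ne (Subgroup.eq_of_le_of_card_ge hlt.le h.ge)
    have hbig : 2 * Nat.card (Subgroup.closure (S : Set Q)) ≤
        Nat.card (Subgroup.closure ((insert g S : Finset Q) : Set Q)) := by
      obtain ⟨c, hc⟩ := hdvd
      rcases c with - | - | c
      · simp [Nat.card_pos.ne'] at hc
      · exact absurd (by simpa using hc.symm) hne'
      · rw [hc]; nlinarith
    have := hmax (insert g S) (Finset.mem_filter.mpr ⟨Finset.mem_univ _,
      by simp [h1, Ne.symm hg1], by rw [Finset.card_insert_of_notMem hgS, pow_succ]; omega⟩)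
    rw [Finset.card_insert_of_notMem hgS] at this
    omega
  refine ⟨S, htop, h1, h2.trans ?_⟩
  exact Subgroup.card_le_card_group _

/-- A group acting faithfully by automorphisms on `Q` has order at most `(|Q|-1)^log₂|Q|`. -/
theorem card_le_aut {G Q : Type*} [Group G] [Group Q] [Finite Q] (φ : G →* MulAut Q)
    (hφ : Function.Injective φ) :
    Nat.card G ≤ (Nat.card Q - 1) ^ Nat.log 2 (Nat.card Q) := by
  classical
  haveI := Fintype.ofFinite Q
  obtain ⟨S, hS, h1, hc⟩ := exists_gens Q
  let F : G → ({x : Q // x ∈ S} → {x : Q // x ≠ 1}) := fun g s => ⟨φ g s.1, fun h => h1 (by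
    have h0 : (s : Q) = 1 := (φ g).injective (h.trans (map_one _).symm)
    have h2 := s.2
    rwa [h0] at h2)⟩
  have hF : Function.Injective F := by
    intro g h hgh
    refine hφ (MulEquiv.ext fun x => ?_)
    have : (φ g).toMonoidHom = (φ h).toMonoidHom := MonoidHom.eq_of_eqOn_dense hS fun s hs =>
      congrArg Subtype.val (congrFun hgh ⟨s, hs⟩)
    exact DFunLike.congr_fun this x
  refine (Nat.card_le_card_of_injective F hF).trans ?_
  rw [Nat.card_fun, Nat.card_eq_finsetCard]
  have hq : Nat.card {x : Q // x ≠ 1} = Nat.card Q - 1 := by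
    rw [Nat.card_eq_fintype_card, Nat.card_eq_fintype_card, Fintype.card_subtype_compl,
      Fintype.card_subtype_eq]
  rw [hq]
  rcases Nat.lt_or_ge (Nat.card Q) 2 with hlt | hge
  · have h0 : Nat.log 2 (Nat.card Q) = 0 := Nat.log_of_lt hlt
    have hS0 : S.card = 0 := by
      by_contra hne
      have : 2 ^ 1 ≤ 2 ^ S.card := Nat.pow_le_pow_right (by norm_num) (Nat.pos_of_ne_zero hne)
      omega
    rw [h0, hS0]
  · exact Nat.pow_le_pow_right (by omega) (Nat.le_log_of_pow_le (by norm_num) hc)

theorem sq_log_le : ∀ L : ℕ, 2 ≤ L → (L + 1) ^ 2 ≤ 3 * (2 ^ L - 1) := by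
  intro L hL
  induction L, hL using Nat.le_induction with
  | base => norm_num
  | succ L hL ih =>
    have h2 : 4 ≤ 2 ^ L := le_trans (by norm_num) (Nat.pow_le_pow_right (by norm_num) hL)
    rw [pow_succ 2 L]
    have : 2 * L + 3 ≤ 3 * 2 ^ L := by
      have : L < 2 ^ L := Nat.lt_two_pow_self
      omega
    have e : (L + 1 + 1) ^ 2 = (L + 1) ^ 2 + (2 * L + 3) := by ring
    omega

theorem affine_numeric (s : ℕ) (hs : 1 ≤ s) : s * (s - 1) ^ Nat.log 2 s ≤ 8 ^ (s - 1) := by
  rcases Nat.lt_or_ge s 4 with h | h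
  · interval_cases s <;> simp +decide
  set L := Nat.log 2 s with hL
  have hL2 : 2 ≤ L := Nat.le_log_of_pow_le (by norm_num) (by omega)
  have hlt : s < 2 ^ (L + 1) := Nat.lt_pow_succ_log_self (by norm_num) s
  have hge : 2 ^ L ≤ s := Nat.pow_log_le_self 2 (by omega)
  calc s * (s - 1) ^ L ≤ 2 ^ (L + 1) * (2 ^ (L + 1)) ^ L :=
        Nat.mul_le_mul hlt.le (Nat.pow_le_pow_left (by omega) _)
    _ = 2 ^ ((L + 1) ^ 2) := by rw [← pow_succ', ← pow_mul, sq]
    _ ≤ 2 ^ (3 * (s - 1)) := Nat.pow_le_pow_right (by norm_num) ((sq_log_le L hL2).trans (by omega))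
    _ = 8 ^ (s - 1) := by rw [pow_mul]; norm_num

universe u

theorem smul_mem_orbit_iff_aux {α : Type u} {G : Subgroup (Equiv.Perm α)} (g : G) (x a : α) :
    g • x ∈ orbit G a ↔ x ∈ orbit G a := by
  rw [← orbit_eq_iff, ← orbit_eq_iff, orbit_smul]

theorem exists_pair_ne' {α : Type u} [Finite α] (h : 1 < Nat.card α) : ∃ x y : α, x ≠ y :=
  haveI := Finite.one_lt_card_iff_nontrivial.mp h
  exists_pair_ne α

/-- A solvable permutation group of degree `s` has order at most `8 ^ (s-1)`. -/
theorem card_solvable_perm_le_aux : ∀ s : ℕ, ∀ (α : Type u) [Finite α] (G : Subgroup (Equiv.Perm α)),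
    Group.IsSolvable G → Nat.card α = s → Nat.card G ≤ 8 ^ (s - 1) := by
  intro s
  induction s using Nat.strong_induction_on with
  | _ s ih => ?_
  intro α _ G hsol hs
  haveI := hsol
  classical
  haveI := Fintype.ofFinite α
  rcases Nat.lt_or_ge s 2 with h | h
  · have : Subsingleton α := (Finite.card_le_one_iff_subsingleton).mp (by omega)
    rw [Nat.card_of_subsingleton (1 : G)]
    exact Nat.one_le_pow _ _ (by norm_num)
  haveI hne : Nonempty α := Finite.card_pos_iff.mp (by omega)
  -- bound for the image of a stabilised subset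
  have himg : ∀ (β : Type u) [Finite β] (H : Type u) [Group H] [Group.IsSolvable H]
      (φ : H →* Equiv.Perm β), Nat.card β < s → Nat.card φ.range ≤ 8 ^ (Nat.card β - 1) :=
    fun β _ H _ _ φ hlt => ih _ hlt β φ.range
      (Group.isSolvable_of_surjective φ.rangeRestrict_surjective) rfl
  by_cases htr : IsPretransitive G α
  swap
  · obtain ⟨a, b, hab⟩ : ∃ a b : α, b ∉ orbit G a := by
      by_contra hc
      push Not at hc
      exact htr ⟨fun x y => hc x y⟩
    set O := orbit G a with hO
    have hinv : ∀ (g : G) (x : α), g • x ∈ O ↔ x ∈ O := fun g x =>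
      smul_mem_orbit_iff_aux g x a
    letI A1 : MulAction G O :=
      { smul := fun g x => ⟨g • (x : α), (hinv g x).mpr x.2⟩
        one_smul := fun x => Subtype.ext (one_smul G (x : α))
        mul_smul := fun g h x => Subtype.ext (mul_smul g h (x : α)) }
    letI A2 : MulAction G ↑(Oᶜ) :=
      { smul := fun g x => ⟨g • (x : α), fun h => x.2 ((hinv g x).mp h)⟩
        one_smul := fun x => Subtype.ext (one_smul G (x : α))
        mul_smul := fun g h x => Subtype.ext (mul_smul g h (x : α)) }
    set φ1 := MulAction.toPermHom G O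
    set φ2 := MulAction.toPermHom G ↑(Oᶜ)
    have hinj : Function.Injective (φ1.rangeRestrict.prod φ2.rangeRestrict) := by
      intro g g' hgg
      refine Subtype.ext (Equiv.ext fun x => ?_)
      by_cases hx : x ∈ O
      · have := congrArg (fun e : φ1.range => (e : Equiv.Perm O) ⟨x, hx⟩) (Prod.ext_iff.mp hgg).1
        exact congrArg Subtype.val this
      · have := congrArg (fun e : φ2.range => (e : Equiv.Perm ↑(Oᶜ)) ⟨x, hx⟩)
          (Prod.ext_iff.mp hgg).2
        exact congrArg Subtype.val this
    have hadd : Nat.card O + Nat.card ↑(Oᶜ) = s := by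
      rw [Nat.card_coe_set_eq, Nat.card_coe_set_eq, Set.ncard_add_ncard_compl, hs]
    haveI : Nonempty O := ⟨⟨a, mem_orbit_self a⟩⟩
    haveI : Nonempty ↑(Oᶜ) := ⟨⟨b, hab⟩⟩
    have hp1 : 0 < Nat.card O := Nat.card_pos
    have hp2 : 0 < Nat.card ↑(Oᶜ) := Nat.card_pos
    have b1 := himg O G φ1 (by omega)
    have b2 := himg ↑(Oᶜ) G φ2 (by omega)
    calc Nat.card G ≤ Nat.card φ1.range * Nat.card φ2.range := by
          rw [← Nat.card_prod]; exact Nat.card_le_card_of_injective _ hinj
      _ ≤ 8 ^ (Nat.card O - 1) * 8 ^ (Nat.card ↑(Oᶜ) - 1) := Nat.mul_le_mul b1 b2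
      _ ≤ 8 ^ (s - 1) := by rw [← pow_add]; exact Nat.pow_le_pow_right (by norm_num) (by omega)
  by_cases hprim : IsPreprimitive G α
  · haveI : Nontrivial G := by
      obtain ⟨x, y, hxy⟩ := exists_pair_ne' (α := α) (by omega)
      obtain ⟨g, hg⟩ := exists_smul_eq G x y
      exact nontrivial_of_ne g 1 fun h1 => hxy (by rw [← hg, h1, one_smul])
    obtain ⟨M, hMn, hM, hMc, hmin, -⟩ := Supersolvable.exists_minimal_normal_solvable G
    obtain ⟨htrans, hreg, p, d, -, -, hcα, hcM⟩ := Cfsg.Agent.S0547.regular_of_minimal hprim M hM hmin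
    obtain ⟨ω⟩ := hne
    set St := stabilizer G ω
    set ψ : St →* MulAut M := (MulAut.conjNormal (H := M)).comp St.subtype
    have hψ : Function.Injective ψ := by
      rw [injective_iff_map_eq_one]
      intro g hg
      refine Subtype.ext (eq_of_smul_eq_smul (α := α) fun x => ?_)
      obtain ⟨m, rfl⟩ := htrans.exists_smul_eq ω x
      have hm : ((g : G) * (m : G) * (g : G)⁻¹) = (m : G) := by
        have := congrArg (fun e : MulAut M => ((e m : M) : G)) hg
        simpa [ψ] using this
      show (g : G) • (m : G) • ω = (1 : G) • (m : G) • ω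
      rw [one_smul, ← mul_smul, mul_inv_eq_iff_eq_mul.mp hm, mul_smul]
      exact congrArg _ g.2
    have hstab := card_le_aut ψ hψ
    rw [hcM, ← hcα, hs] at hstab
    have hcard : Nat.card G = s * Nat.card St := by
      rw [← St.index_mul_card, index_stabilizer_of_transitive G ω, hs]
    rw [hcard]
    exact (Nat.mul_le_mul_left _ hstab).trans (affine_numeric s (by omega))
  · obtain ⟨B, hB, hBt⟩ : ∃ B : Set α, IsBlock G B ∧ ¬ IsTrivialBlock B := by
      by_contra hc
      push Not at hc
      exact hprim { isTrivialBlock_of_isBlock := fun {B} hB => hc B hB }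
    have hBne : B.Nonempty := by
      by_contra h0
      exact hBt (Or.inl (by rw [Set.not_nonempty_iff_eq_empty.mp h0]; exact Set.subsingleton_empty))
    have hb2 : 2 ≤ B.ncard := by
      by_contra h0
      exact hBt (Or.inl (Set.ncard_le_one_iff_subsingleton.mp (by omega)))
    have hbc : B.ncard * (orbit G B).ncard = s := by rw [hB.ncard_block_mul_ncard_orbit_eq hBne, hs]
    have hbs : B.ncard < s := by
      rw [← hs, ← Set.ncard_univ]
      exact Set.ncard_lt_ncard (Set.ssubset_univ_iff.mpr fun h0 => hBt (Or.inr h0)) Set.finite_univ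
    have ho1 : 2 ≤ (orbit G B).ncard := by nlinarith
    set φ := MulAction.toPermHom G (orbit G B)
    have hrange := himg (orbit G B) G φ (by rw [Nat.card_coe_set_eq]; nlinarith)
    -- the kernel
    set K := φ.ker
    have hK : ∀ (k : K) (b : orbit G B) (x : α), x ∈ (b : Set α) → (k : G) • x ∈ (b : Set α) := by
      intro k b x hx
      have h1 : φ (k : G) b = b := by rw [MonoidHom.mem_ker.mp k.2]; rfl
      have h2 : (k : G) • (b : Set α) = b := congrArg Subtype.val h1
      rw [← h2]; exact Set.smul_mem_smul_set hx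
    let act : ∀ b : orbit G B, MulAction K (b : Set α) := fun b =>
      { smul := fun k x => ⟨(k : G) • (x : α), hK k b x x.2⟩
        one_smul := fun x => Subtype.ext (one_smul G (x : α))
        mul_smul := fun k l x => Subtype.ext (mul_smul (k : G) (l : G) (x : α)) }
    let ψ : ∀ b : orbit G B, K →* Equiv.Perm (b : Set α) := fun b =>
      @MulAction.toPermHom K (b : Set α) _ (act b)
    have hinj : Function.Injective (fun k : K => fun b => (ψ b).rangeRestrict k) := by
      intro k l hkl
      refine Subtype.ext (Subtype.ext (Equiv.ext fun x => ?_))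
      obtain ⟨y, hy⟩ := hBne
      obtain ⟨g, hg⟩ := htr.exists_smul_eq y x
      have hx : x ∈ g • B := hg ▸ Set.smul_mem_smul_set hy
      have := congrArg (fun e : (ψ ⟨g • B, mem_orbit B g⟩).range =>
        (e : Equiv.Perm (g • B : Set α)) ⟨x, hx⟩) (congrFun hkl ⟨g • B, mem_orbit B g⟩)
      exact congrArg Subtype.val this
    have hbcard : ∀ b : orbit G B, Nat.card (b : Set α) = B.ncard := by
      rintro ⟨_, g, rfl⟩
      rw [Nat.card_coe_set_eq]
      exact Set.ncard_image_of_injective _ (MulAction.injective g)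
    haveI : Group.IsSolvable K := inferInstance
    have hKle : Nat.card K ≤ (8 ^ (B.ncard - 1)) ^ (orbit G B).ncard := by
      refine (Nat.card_le_card_of_injective _ hinj).trans ?_
      rw [Nat.card_pi]
      refine (Finset.prod_le_pow_card _ _ (8 ^ (B.ncard - 1)) fun b _ => ?_).trans (le_of_eq ?_)
      · have := himg (b : Set α) K (ψ b) (by rw [hbcard]; exact hbs)
        rwa [hbcard] at this
      · rw [Finset.card_univ, ← Nat.card_eq_fintype_card, Nat.card_coe_set_eq]
    have hG : Nat.card G = Nat.card φ.range * Nat.card K := by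
      rw [← K.index_mul_card, Subgroup.index_ker]
    rw [Nat.card_coe_set_eq] at hrange
    rw [hG, ← hbc]
    calc Nat.card φ.range * Nat.card K
        ≤ 8 ^ ((orbit G B).ncard - 1) * (8 ^ (B.ncard - 1)) ^ (orbit G B).ncard :=
          Nat.mul_le_mul hrange hKle
      _ ≤ 8 ^ (B.ncard * (orbit G B).ncard - 1) := by
          rw [← pow_mul, ← pow_add]
          refine Nat.pow_le_pow_right (by norm_num) ?_
          obtain ⟨b, hb⟩ := Nat.exists_eq_add_of_le hb2
          rw [hb, show 2 + b - 1 = 1 + b from by omega]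
          have : (2 + b) * (orbit G B).ncard = (1 + b) * (orbit G B).ncard + (orbit G B).ncard := by ring
          omega

/-- A solvable group acting faithfully on `s` points has order at most `8 ^ (s-1)`. -/
theorem card_solvable_range_le {H : Type*} [Group H] [Group.IsSolvable H] {α : Type u} [Finite α]
    (φ : H →* Equiv.Perm α) : Nat.card φ.range ≤ 8 ^ (Nat.card α - 1) :=
  card_solvable_perm_le_aux _ α φ.range
    (Group.isSolvable_of_surjective φ.rangeRestrict_surjective) rfl

end Cfsg.Agent.Lib.ClassLowerSolv
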