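import Mathlib

/-!
# Weight spaces of an abelian subgroup acting semisimply
-/

set_option autoImplicit false

namespace Cfsg.Agent.Lib.ClassLowerSolv

open Module Polynomial

variable {F W C : Type*} [Field F] [AddCommGroup W] [Module F W] [Group C]

/-- The weight space of a function on a subgroup. -/
def wsp (ρ : C →* Module.End F W) (B : Subgroup C) (χ : B → F) : Submodule F W :=
  ⨅ b : B, (ρ b).eigenspace (χ b)

theorem mem_wsp {ρ : C →* Module.End F W} {B : Subgroup C} {χ : B → F} {w : W} :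
    w ∈ wsp ρ B χ ↔ ∀ b : B, ρ b w = χ b • w := by
  simp [wsp, Submodule.mem_iInf]

theorem rho_mul_apply (ρ : C →* Module.End F W) (a b : C) (w : W) : ρ (a * b) w = ρ a (ρ b w) := by
  rw [map_mul, Module.End.mul_apply]

theorem wsp_mul {ρ : C →* Module.End F W} {B : Subgroup C} {χ : B → F} (h : wsp ρ B χ ≠ ⊥)
    (a b : B) : χ (a * b) = χ a * χ b := by
  obtain ⟨w, hw, hw0⟩ := Submodule.exists_mem_ne_zero_of_ne_bot h
  rw [mem_wsp] at hw
  refine smul_left_injective F hw0 ?_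
  show χ (a * b) • w = (χ a * χ b) • w
  rw [← hw, Subgroup.coe_mul, rho_mul_apply, hw b, map_smul, hw a, smul_smul, mul_comm]

theorem wsp_one {ρ : C →* Module.End F W} {B : Subgroup C} {χ : B → F} (h : wsp ρ B χ ≠ ⊥) :
    χ 1 = 1 := by
  obtain ⟨w, hw, hw0⟩ := Submodule.exists_mem_ne_zero_of_ne_bot h
  rw [mem_wsp] at hw
  refine smul_left_injective F hw0 ?_
  show χ 1 • w = (1 : F) • w
  rw [← hw, one_smul, Subgroup.coe_one, map_one, Module.End.one_apply]

/-- A conjugating element moves weight spaces to weight spaces. -/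
theorem mapsTo_wsp {ρ : C →* Module.End F W} {B : Subgroup C} [B.Normal] (g : C) (χ : B → F)
    {w : W} (hw : w ∈ wsp ρ B χ) :
    ρ g w ∈ wsp ρ B fun b => χ (MulAut.conjNormal g⁻¹ b) := by
  rw [mem_wsp] at hw ⊢
  intro b
  rw [← map_smul, ← hw, ← rho_mul_apply, ← rho_mul_apply]
  congr 2
  rw [MulAut.conjNormal_apply]
  group

section Semisimple

variable [IsAlgClosed F] [FiniteDimensional F W] [Finite C]
  {ρ : C →* Module.End F W} {B : Subgroup C}

theorem isFinitelySemisimple_rho (hB0 : (Nat.card B : F) ≠ 0) (b : B) :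
    (ρ b).IsFinitelySemisimple := by
  refine Module.End.IsSemisimple.isFinitelySemisimple ?_
  refine Module.End.isSemisimple_of_squarefree_aeval_eq_zero
    (p := (X ^ Nat.card B - 1 : F[X])) (X_pow_sub_one_separable_iff.mpr hB0).squarefree ?_
  rw [map_sub, map_pow, aeval_X, map_one, ← map_pow, ← Subgroup.coe_pow, pow_card_eq_one',
    Subgroup.coe_one, map_one, sub_self]

theorem wsp_eq_maxGen (hB0 : (Nat.card B : F) ≠ 0) (χ : B → F) :
    wsp ρ B χ = ⨅ b : B, (ρ b).maxGenEigenspace (χ b) :=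
  iInf_congr fun b => ((isFinitelySemisimple_rho hB0 b).maxGenEigenspace_eq_eigenspace _).symm

theorem mapsTo_maxGen (hA : ∀ a ∈ B, ∀ b ∈ B, a * b = b * a) (i j : B) (φ : F) :
    Set.MapsTo (ρ i) ((ρ j).maxGenEigenspace φ) ((ρ j).maxGenEigenspace φ) :=
  Module.End.mapsTo_maxGenEigenspace_of_comm
    ((show Commute (j : C) (i : C) from hA _ j.2 _ i.2).map ρ) φ

theorem iSup_wsp (hA : ∀ a ∈ B, ∀ b ∈ B, a * b = b * a) (hB0 : (Nat.card B : F) ≠ 0) :
    ⨆ χ, wsp ρ B χ = ⊤ := by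
  simp only [wsp_eq_maxGen hB0]
  exact Module.End.iSup_iInf_maxGenEigenspace_eq_top_of_forall_mapsTo (fun b : B => ρ b)
    (fun i j φ => mapsTo_maxGen hA i j φ) fun _ => Module.End.iSup_maxGenEigenspace_eq_top _

theorem indep_wsp (hA : ∀ a ∈ B, ∀ b ∈ B, a * b = b * a) (hB0 : (Nat.card B : F) ≠ 0) :
    iSupIndep (wsp ρ B) := by
  rw [_root_.funext (wsp_eq_maxGen (ρ := ρ) hB0)]
  exact Module.End.independent_iInf_maxGenEigenspace_of_forall_mapsTo (fun b : B => ρ b)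
    fun i j φ => mapsTo_maxGen hA i j φ

/-- The weights. -/
def Wts (ρ : C →* Module.End F W) (B : Subgroup C) : Type _ := {χ : B → F // wsp ρ B χ ≠ ⊥}

theorem finite_wts (hA : ∀ a ∈ B, ∀ b ∈ B, a * b = b * a) (hB0 : (Nat.card B : F) ≠ 0) :
    Finite (Wts ρ B) :=
  haveI := (indep_wsp (ρ := ρ) hA hB0).fintypeNeBotOfFiniteDimensional
  Finite.of_fintype {χ // wsp ρ B χ ≠ ⊥}

theorem sum_finrank_wts [Fintype (Wts ρ B)] (hA : ∀ a ∈ B, ∀ b ∈ B, a * b = b * a)
    (hB0 : (Nat.card B : F) ≠ 0) :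
    ∑ χ : Wts ρ B, finrank F (wsp ρ B χ.1) = finrank F W := by
  classical
  have hind : iSupIndep fun χ : Wts ρ B => wsp ρ B χ.1 :=
    (indep_wsp (ρ := ρ) hA hB0).comp (fun _ _ h => Subtype.ext h)
  have htop : ⨆ χ : Wts ρ B, wsp ρ B χ.1 = ⊤ := by
    rw [eq_top_iff, ← iSup_wsp (ρ := ρ) hA hB0, iSup_le_iff]
    intro χ
    by_cases h : wsp ρ B χ = ⊥
    · rw [h]; exact bot_le
    · exact le_iSup (fun χ : Wts ρ B => wsp ρ B χ.1) ⟨χ, h⟩
  have hI := DirectSum.isInternal_submodule_of_iSupIndep_of_iSup_eq_top hind htop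
  rw [← finrank_directSum, (LinearEquiv.ofBijective (DirectSum.coeLinearMap _) hI).finrank_eq]

theorem ext_on_wsp (hA : ∀ a ∈ B, ∀ b ∈ B, a * b = b * a) (hB0 : (Nat.card B : F) ≠ 0)
    {T U : Module.End F W} (h : ∀ χ, wsp ρ B χ ≠ ⊥ → ∀ w ∈ wsp ρ B χ, T w = U w) : T = U := by
  refine LinearMap.ext fun w => ?_
  have hle : (⊤ : Submodule F W) ≤ LinearMap.eqLocus T U := by
    rw [← iSup_wsp (ρ := ρ) hA hB0, iSup_le_iff]
    intro χ
    by_cases hχ : wsp ρ B χ = ⊥
    · rw [hχ]; exact bot_le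
    · exact fun v hv => h χ hχ v hv
  exact hle (Submodule.mem_top (x := w))

end Semisimple

end Cfsg.Agent.Lib.ClassLowerSolv
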