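import Mathlib
import Cfsg.Agent.Lib.ClassLowerSolv.Perm
import Cfsg.Agent.Lib.ClassLowerSolv.Weights

/-!
# An abelian normal subgroup of small index in a solvable linear group
-/

set_option autoImplicit false
set_option linter.style.haveILetI false

namespace Cfsg.Agent.Lib.ClassLowerSolv

open Module

theorem g_mono {x y : ℕ} (h : x ≤ y) : x * (x - 1) ^ Nat.log 2 x ≤ y * (y - 1) ^ Nat.log 2 y := by
  rcases Nat.lt_or_ge x 2 with hx | hx
  · interval_cases x
    · simp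
    · rcases Nat.lt_or_ge y 2 with hy | hy
      · have : y = 1 := by omega
        subst this; simp
      · have : 1 ≤ (y - 1) ^ Nat.log 2 y := Nat.one_le_pow _ _ (by omega)
        simp only [Nat.log_one_right, pow_zero, mul_one]
        nlinarith
  · calc x * (x - 1) ^ Nat.log 2 x ≤ y * (y - 1) ^ Nat.log 2 x :=
          Nat.mul_le_mul h (Nat.pow_le_pow_left (by omega) _)
      _ ≤ y * (y - 1) ^ Nat.log 2 y := by
          refine Nat.mul_le_mul_left _ (Nat.pow_le_pow_right (by omega) ?_)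
          exact Nat.log_mono_right h

theorem four_sq_le : ∀ L : ℕ, 6 ≤ L → 4 * L ^ 2 ≤ 6 * (2 ^ (L - 1) - 1) := by
  intro L hL
  induction L, hL using Nat.le_induction with
  | base => norm_num
  | succ L hL ih =>
    have h2 : 2 * L + 1 ≤ 2 ^ (L - 1) := by
      obtain ⟨k, rfl⟩ := Nat.exists_eq_add_of_le hL
      clear ih hL
      induction k with
      | zero => norm_num
      | succ k ih =>
        have e : 6 + (k + 1) - 1 = (6 + k - 1) + 1 := by omega
        rw [e, pow_succ]; omega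
    have e1 : L + 1 - 1 = (L - 1) + 1 := by omega
    rw [e1, pow_succ 2]
    rw [show (L + 1) ^ 2 = L ^ 2 + (2 * L + 1) from by ring]
    generalize L ^ 2 = A at ih ⊢
    omega

theorem weight_numeric {m x : ℕ} (hm : 1 ≤ m) (hx : x ≤ m ^ 2) :
    x * (x - 1) ^ Nat.log 2 x ≤ 96 ^ (m - 1) := by
  refine (g_mono hx).trans ?_
  rcases Nat.lt_or_ge m 32 with h | h
  · interval_cases m <;> norm_num
  · set L := Nat.log 2 m + 1 with hL
    have hL6 : 6 ≤ L := by
      have : 5 ≤ Nat.log 2 m := Nat.le_log_of_pow_le (by norm_num) (by omega)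
      omega
    have hm1 : m < 2 ^ L := Nat.lt_pow_succ_log_self (by norm_num) m
    have hm2 : m ^ 2 < 2 ^ (2 * L) := by
      rw [pow_mul', sq, sq]; exact Nat.mul_lt_mul'' hm1 hm1
    have hlog : Nat.log 2 (m ^ 2) < 2 * L := Nat.log_lt_of_lt_pow (by positivity) hm2
    have hge : 2 ^ (L - 1) ≤ m := by
      simpa [hL] using Nat.pow_log_le_self 2 (show m ≠ 0 by omega)
    calc m ^ 2 * (m ^ 2 - 1) ^ Nat.log 2 (m ^ 2)
        ≤ 2 ^ (2 * L) * (2 ^ (2 * L)) ^ (2 * L - 1) :=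
          Nat.mul_le_mul hm2.le ((Nat.pow_le_pow_left (by omega) _).trans
            (Nat.pow_le_pow_right (Nat.two_pow_pos _) (by omega)))
      _ = 2 ^ (4 * L ^ 2) := by
          rw [← pow_succ', Nat.sub_add_cancel (by omega), ← pow_mul]; ring_nf
      _ ≤ 2 ^ (6 * (m - 1)) :=
          Nat.pow_le_pow_right (by norm_num) ((four_sq_le L hL6).trans (by omega))
      _ = 64 ^ (m - 1) := by rw [pow_mul]; norm_num
      _ ≤ 96 ^ (m - 1) := Nat.pow_le_pow_left (by norm_num) _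

variable {C : Type*} [Group C] [Finite C]

/-- A maximal normal abelian subgroup of a finite group. -/
theorem exists_maximal_abelian :
    ∃ B : Subgroup C, B.Normal ∧ (∀ a ∈ B, ∀ b ∈ B, a * b = b * a) ∧
      ∀ D : Subgroup C, D.Normal → (∀ a ∈ D, ∀ b ∈ D, a * b = b * a) → B ≤ D → D = B := by
  obtain ⟨B, hB⟩ := Set.Finite.exists_maximal
    (s := {B : Subgroup C | B.Normal ∧ ∀ a ∈ B, ∀ b ∈ B, a * b = b * a}) (Set.toFinite _)
    ⟨⊥, inferInstance, fun a ha b hb => by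
      rw [Subgroup.mem_bot] at ha hb; rw [ha, hb]⟩
  exact ⟨B, hB.1.1, hB.1.2, fun D h1 h2 h3 => le_antisymm (hB.2 ⟨h1, h2⟩ h3) h3⟩

open scoped commutatorElement

/-- Data: `E` is maximal among normal subgroups of `K = C(B)` abelian modulo `B`. -/
theorem exists_layer [Group.IsSolvable C] (B : Subgroup C) [B.Normal]
    (hA : ∀ a ∈ B, ∀ b ∈ B, a * b = b * a)
    (hBmax : ∀ D : Subgroup C, D.Normal → (∀ a ∈ D, ∀ b ∈ D, a * b = b * a) → B ≤ D → D = B) :
    ∃ E : Subgroup C, E.Normal ∧ B ≤ E ∧ E ≤ Subgroup.centralizer (B : Set C) ∧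
      (∀ x ∈ E, ∀ y ∈ E, x * y * x⁻¹ * y⁻¹ ∈ B) ∧
      (∀ k ∈ Subgroup.centralizer (B : Set C), (∀ e ∈ E, k * e = e * k) → k ∈ B) ∧
      ∀ k ∈ Subgroup.centralizer (B : Set C), (∀ e ∈ E, k * e * k⁻¹ * e⁻¹ ∈ B) → k ∈ E := by
  set K := Subgroup.centralizer (B : Set C) with hK
  have hBK : B ≤ K := fun a ha => Subgroup.mem_centralizer_iff.mpr fun b hb => hA b hb a ha
  set S := {E : Subgroup C | E.Normal ∧ B ≤ E ∧ E ≤ K ∧ ∀ x ∈ E, ∀ y ∈ E, x * y * x⁻¹ * y⁻¹ ∈ B}
  obtain ⟨E, hE⟩ := Set.Finite.exists_maximal (s := S) (Set.toFinite _)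
    ⟨B, inferInstance, le_rfl, hBK, fun x hx y hy =>
      mul_mem (mul_mem (mul_mem hx hy) (inv_mem hx)) (inv_mem hy)⟩
  obtain ⟨⟨hEn, hBE, hEK, hEc⟩, hmax⟩ := hE
  haveI := hEn
  set π := QuotientGroup.mk' B with hπ
  have hcmem : ∀ x y : C, x * y * x⁻¹ * y⁻¹ ∈ B ↔ π x * π y = π y * π x := by
    intro x y
    rw [← commutatorElement_eq_one_iff_mul_comm, ← map_commutatorElement, hπ,
      QuotientGroup.mk'_apply, QuotientGroup.eq_one_iff, commutatorElement_def]
  haveI hKn : K.Normal := by rw [hK]; infer_instance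
  have hcen : ∀ k ∈ K, (∀ e ∈ E, k * e = e * k) → k ∈ B := by
    by_contra hc
    push Not at hc
    obtain ⟨k₀, hk₀K, hk₀E, hk₀B⟩ := hc
    set D := K ⊓ Subgroup.centralizer (E : Set C) with hD
    haveI hDn : D.Normal := by rw [hD]; infer_instance
    have hBD : B ≤ D := le_inf hBK fun b hb => Subgroup.mem_centralizer_iff.mpr fun e he =>
      (Subgroup.mem_centralizer_iff.mp (hEK he) b hb).symm
    obtain ⟨J, hJ⟩ := Set.Finite.exists_minimal
      (s := {J : Subgroup C | J.Normal ∧ B < J ∧ J ≤ D}) (Set.toFinite _)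
      ⟨D, hDn, lt_of_le_of_ne hBD fun h => hk₀B (h ▸ ⟨hk₀K,
        Subgroup.mem_centralizer_iff.mpr fun e he => (hk₀E e he).symm⟩), le_rfl⟩
    obtain ⟨⟨hJn, hBJ, hJD⟩, hJmin⟩ := hJ
    haveI := hJn
    have hJne : J.map π ≠ ⊥ := by
      intro h
      rw [Subgroup.map_eq_bot_iff, QuotientGroup.ker_mk'] at h
      exact hBJ.not_ge h
    haveI : Group.IsSolvable (C ⧸ B) :=
      Group.isSolvable_of_surjective (QuotientGroup.mk'_surjective B)
    have hlt : ⁅J.map π, J.map π⁆ < J.map π := Group.IsSolvable.commutator_lt_of_ne_bot hJne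
    have hJJ : ⁅J, J⁆ ≤ B := by
      by_contra hnot
      have h1 : B ⊔ ⁅J, J⁆ ≤ J := sup_le hBJ.le (Subgroup.commutator_le_self J)
      have h2 : J ≤ B ⊔ ⁅J, J⁆ := hJmin (y := B ⊔ ⁅J, J⁆)
        ⟨inferInstance, left_lt_sup.mpr hnot, h1.trans hJD⟩ h1
      refine hlt.not_ge ?_
      rw [← Subgroup.map_commutator]
      refine (Subgroup.map_mono h2).trans ?_
      rw [Subgroup.map_sup, QuotientGroup.map_mk'_self, bot_sup_eq]
    have hsup : E ⊔ J ∈ S := by
      refine ⟨inferInstance, hBE.trans le_sup_left, sup_le hEK (hJD.trans inf_le_left), ?_⟩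
      have hcomm : (E ⊔ J).map π ≤ Subgroup.centralizer ((E ⊔ J).map π : Set (C ⧸ B)) := by
        have key : ∀ x, x ∈ (E : Set C) ∪ J → ∀ y, y ∈ (E : Set C) ∪ J → π x * π y = π y * π x := by
          rintro x (hx | hx) y (hy | hy)
          · exact (hcmem x y).mp (hEc x hx y hy)
          · have := Subgroup.mem_centralizer_iff.mp (hJD hy).2 x hx
            rw [← map_mul, ← map_mul, this]
          · have := Subgroup.mem_centralizer_iff.mp (hJD hx).2 y hy
            rw [← map_mul, ← map_mul, this]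
          · exact (hcmem x y).mp (hJJ (Subgroup.commutator_mem_commutator hx hy))
        rw [Subgroup.map_sup, Subgroup.sup_eq_closure, Subgroup.centralizer_closure,
          Subgroup.closure_le]
        rintro _ (⟨x, hx, rfl⟩ | ⟨x, hx, rfl⟩) <;>
        · rw [SetLike.mem_coe, Subgroup.mem_centralizer_iff]
          rintro _ (⟨y, hy, rfl⟩ | ⟨y, hy, rfl⟩)
          · exact key y (Or.inl hy) x (by first | exact Or.inl hx | exact Or.inr hx)
          · exact key y (Or.inr hy) x (by first | exact Or.inl hx | exact Or.inr hx)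
      intro x hx y hy
      exact (hcmem x y).mpr ((Subgroup.mem_centralizer_iff.mp (hcomm (Subgroup.mem_map_of_mem π hy))
        _ (Subgroup.mem_map_of_mem π hx)))
    have hJE : J ≤ E := le_sup_right.trans (hmax hsup le_sup_left)
    -- then `J` is central in `E`
    have hZ : J = B := by
      refine le_antisymm (fun j hj => ?_) hBJ.le
      by_contra hjB
      set Z := E ⊓ Subgroup.centralizer (E : Set C) with hZdef
      haveI : Z.Normal := by rw [hZdef]; infer_instance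
      have hjZ : j ∈ Z := ⟨hJE hj, (hJD hj).2⟩
      have hZc : ∀ a ∈ Z, ∀ b ∈ Z, a * b = b * a := fun a ha b hb =>
        Subgroup.mem_centralizer_iff.mp hb.2 a ha.1
      exact hjB ((hBmax Z this hZc (fun b hb => ⟨hBE hb, (hBD hb).2⟩)) ▸ hjZ)
    exact hBJ.ne hZ.symm
  refine ⟨E, hEn, hBE, hEK, hEc, hcen, fun k hk hke => ?_⟩
  let T : Subgroup C :=
    { carrier := {t | t ∈ K ∧ ∀ e ∈ E, π t * π e = π e * π t}
      one_mem' := ⟨one_mem K, fun e _ => by simp⟩
      mul_mem' := fun {a b} ha hb => ⟨mul_mem ha.1 hb.1, fun e he => by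
        rw [map_mul, mul_assoc, hb.2 e he, ← mul_assoc, ha.2 e he, mul_assoc]⟩
      inv_mem' := fun {a} ha => ⟨inv_mem ha.1, fun e he => by
        rw [map_inv]; exact (Commute.inv_left (ha.2 e he)).eq⟩ }
  have hTn : T.Normal := ⟨fun t ht g => ⟨hKn.conj_mem t ht.1 g, fun e he => by
    have h := ht.2 (g⁻¹ * e * g) (by simpa using hEn.conj_mem e he g⁻¹)
    simp only [map_mul, map_inv] at h ⊢
    have := congrArg (fun z => π g * z * (π g)⁻¹) h
    simpa [mul_assoc] using this⟩⟩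
  have hET : E ≤ T := fun e he => ⟨hEK he, fun f hf => (hcmem e f).mp (hEc e he f hf)⟩
  have hTS : T ∈ S := by
    refine ⟨hTn, hBE.trans hET, fun t ht => ht.1, fun x hx y hy => ?_⟩
    refine hcen _ (mul_mem (mul_mem (mul_mem hx.1 hy.1) (inv_mem hx.1)) (inv_mem hy.1)) fun e he => ?_
    have hb : ∀ t ∈ T, ∀ f ∈ E, ∃ b ∈ B, t * f * t⁻¹ = b * f := fun t ht f hf =>
      ⟨t * f * t⁻¹ * f⁻¹, (hcmem t f).mpr (ht.2 f hf), by group⟩
    have hfix : ∀ t ∈ K, ∀ b ∈ B, t * b * t⁻¹ = b := fun t ht b hb' => by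
      rw [← Subgroup.mem_centralizer_iff.mp ht b hb', mul_inv_cancel_right]
    -- conjugation by `t` multiplies `e` by an element of `B`
    obtain ⟨b, hbB, hxe⟩ := hb x hx e he
    obtain ⟨c, hcB, hye⟩ := hb y hy e he
    have hxi : x⁻¹ * e * x⁻¹⁻¹ = b⁻¹ * e := by
      have h1 : x * (b⁻¹ * e) * x⁻¹ = e := by
        calc x * (b⁻¹ * e) * x⁻¹ = (x * b⁻¹ * x⁻¹) * (x * e * x⁻¹) := by group
          _ = e := by rw [hfix x hx.1 _ (inv_mem hbB), hxe, inv_mul_cancel_left]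
      conv_lhs => rw [← h1]
      group
    have hyi : y⁻¹ * e * y⁻¹⁻¹ = c⁻¹ * e := by
      have h1 : y * (c⁻¹ * e) * y⁻¹ = e := by
        calc y * (c⁻¹ * e) * y⁻¹ = (y * c⁻¹ * y⁻¹) * (y * e * y⁻¹) := by group
          _ = e := by rw [hfix y hy.1 _ (inv_mem hcB), hye, inv_mul_cancel_left]
      conv_lhs => rw [← h1]
      group
    rw [← mul_inv_eq_iff_eq_mul]
    calc x * y * x⁻¹ * y⁻¹ * e * (x * y * x⁻¹ * y⁻¹)⁻¹
        = x * (y * (x⁻¹ * (y⁻¹ * e * y⁻¹⁻¹) * x⁻¹⁻¹) * y⁻¹) * x⁻¹ := by group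
      _ = x * (y * ((x⁻¹ * c⁻¹ * x⁻¹⁻¹) * (x⁻¹ * e * x⁻¹⁻¹)) * y⁻¹) * x⁻¹ := by rw [hyi]; group
      _ = x * (y * (c⁻¹ * (b⁻¹ * e)) * y⁻¹) * x⁻¹ := by
          rw [hfix _ (inv_mem hx.1) _ (inv_mem hcB), hxi]
      _ = x * ((y * (c⁻¹ * b⁻¹) * y⁻¹) * (y * e * y⁻¹)) * x⁻¹ := by group
      _ = x * ((c⁻¹ * b⁻¹) * (c * e)) * x⁻¹ := by
          rw [hfix y hy.1 _ (mul_mem (inv_mem hcB) (inv_mem hbB)), hye]
      _ = x * (b⁻¹ * e) * x⁻¹ := by
          congr 2
          rw [hA _ (inv_mem hcB) _ (inv_mem hbB)]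
          group
      _ = (x * b⁻¹ * x⁻¹) * (x * e * x⁻¹) := by group
      _ = e := by rw [hfix x hx.1 _ (inv_mem hbB), hxe, inv_mul_cancel_left]
  exact hmax hTS hET ⟨hk, fun e he => (hcmem k e).mp (hke e he)⟩

end Cfsg.Agent.Lib.ClassLowerSolv
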