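import Mathlib
import Cfsg.Agent.Lib.ClassLowerSolv.Linear

/-!
# The bound `|C : B| * |C : C(B)| ≤ 96 ^ (N-1)`
-/

set_option autoImplicit false
set_option linter.style.haveILetI false

namespace Cfsg.Agent.Lib.ClassLowerSolv

open Module

/-- A solvable linear group of degree `N` over an algebraically closed field whose abelian normal
subgroups have order prime to the characteristic has an abelian normal subgroup `B` with
`|C : B| * |C : C(B)| ≤ 96 ^ (N - 1)`. -/
theorem exists_abelian_normal_bound {C : Type*} [Group C] [Finite C] [Group.IsSolvable C]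
    {F : Type*} [Field F] [IsAlgClosed F] {W : Type*} [AddCommGroup W] [Module F W]
    [FiniteDimensional F W] (ρ : C →* Module.End F W) (hρ : Function.Injective ρ)
    (hcore : ∀ A : Subgroup C, A.Normal → (∀ a ∈ A, ∀ b ∈ A, a * b = b * a) →
      (Nat.card A : F) ≠ 0) :
    ∃ B : Subgroup C, B.Normal ∧ (∀ a ∈ B, ∀ b ∈ B, a * b = b * a) ∧
      B.index * (Subgroup.centralizer (B : Set C)).index ≤ 96 ^ (finrank F W - 1) := by
  classical
  obtain ⟨B, hBn, hA, hBmax⟩ := exists_maximal_abelian (C := C)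
  haveI := hBn
  refine ⟨B, hBn, hA, ?_⟩
  have hB0 := hcore B hBn hA
  obtain ⟨E, hEn, hBE, hEK, hEc, hcen, hTE⟩ := exists_layer B hA hBmax
  haveI := hEn
  set K := Subgroup.centralizer (B : Set C) with hK
  haveI hKn : K.Normal := by rw [hK]; infer_instance
  have hcentral : ∀ k ∈ K, ∀ b ∈ B, b * k = k * b := fun k hk b hb =>
    Subgroup.mem_centralizer_iff.mp hk b hb
  haveI : Finite (Wts ρ B) := finite_wts hA hB0
  letI : Fintype (Wts ρ B) := Fintype.ofFinite _
  -- the action on the weights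
  letI actΩ : MulAction C (Wts ρ B) :=
    { smul := fun g χ => ⟨fun b => χ.1 (MulAut.conjNormal g⁻¹ b), by
        obtain ⟨w, hw, hw0⟩ := Submodule.exists_mem_ne_zero_of_ne_bot χ.2
        refine fun hbot => hw0 ?_
        have h := mapsTo_wsp g χ.1 hw
        rw [hbot, Submodule.mem_bot] at h
        have h2 := congrArg (ρ g⁻¹) h
        rwa [map_zero, ← rho_mul_apply, inv_mul_cancel, map_one, Module.End.one_apply] at h2⟩
      one_smul := fun χ => Subtype.ext (_root_.funext fun b => congrArg χ.1 (Subtype.ext (by simp)))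
      mul_smul := fun g h χ => Subtype.ext (_root_.funext fun b => congrArg χ.1 (Subtype.ext (by
        simp [mul_assoc]))) }
  set φ := MulAction.toPermHom C (Wts ρ B) with hφ
  have hker : φ.ker ≤ K := by
    intro g hg
    rw [hK, Subgroup.mem_centralizer_iff]
    intro b hb
    have hfix : ∀ χ : Wts ρ B, χ.1 (MulAut.conjNormal g⁻¹ (MulAut.conjNormal g ⟨b, hb⟩)) =
        χ.1 (MulAut.conjNormal g ⟨b, hb⟩) := fun χ => by
      have h1 : φ g χ = χ := by rw [MonoidHom.mem_ker.mp hg]; rfl
      exact congrFun (congrArg Subtype.val h1) _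
    have heq : ρ (g * b * g⁻¹) = ρ b := ext_on_wsp hA hB0 fun χ hχ w hw => by
      rw [mem_wsp] at hw
      have e1 := hw (MulAut.conjNormal g ⟨b, hb⟩)
      rw [MulAut.conjNormal_apply] at e1
      rw [e1, hw ⟨b, hb⟩]
      congr 1
      have h2 := hfix ⟨χ, hχ⟩
      rw [map_inv, MulAut.inv_apply_self] at h2
      exact h2.symm
    have := hρ heq
    rw [mul_inv_eq_iff_eq_mul] at this
    exact this.symm
  have hKidx : K.index ≤ 8 ^ (Fintype.card (Wts ρ B) - 1) := by
    have h1 := card_solvable_range_le φ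
    rw [Nat.card_eq_fintype_card (α := Wts ρ B)] at h1
    refine le_trans ?_ h1
    rw [← Subgroup.index_ker]
    exact Nat.le_of_dvd (Nat.pos_of_ne_zero Subgroup.index_ne_zero_of_finite)
      (Subgroup.index_dvd_of_le hker)
  -- elements of `K` preserve each weight space
  have hpres : ∀ k ∈ K, ∀ χ : B → F, ∀ w ∈ wsp ρ B χ, ρ k w ∈ wsp ρ B χ := by
    intro k hk χ w hw
    rw [mem_wsp] at hw ⊢
    intro b
    rw [← rho_mul_apply, hcentral k hk b b.2, rho_mul_apply, hw b, map_smul]
  have hmul : ∀ χ : Wts ρ B, ∀ a b : B, χ.1 (a * b) = χ.1 a * χ.1 b := fun χ => wsp_mul χ.2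
  have hone : ∀ χ : Wts ρ B, χ.1 1 = 1 := fun χ => wsp_one χ.2
  -- the commutator pairing
  let cm : E → E → B := fun e f => ⟨(e : C) * f * (e : C)⁻¹ * (f : C)⁻¹, hEc e e.2 f f.2⟩
  have cm_mul : ∀ e e' f : E, cm (e * e') f = cm e' f * cm e f := by
    intro e e' f
    refine Subtype.ext ?_
    show ((e : C) * e') * f * ((e : C) * e')⁻¹ * (f : C)⁻¹ =
      ((e' : C) * f * (e' : C)⁻¹ * (f : C)⁻¹) * ((e : C) * f * (e : C)⁻¹ * (f : C)⁻¹)
    have hc : ((e' : C) * f * (e' : C)⁻¹ * (f : C)⁻¹) * e =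
        e * ((e' : C) * f * (e' : C)⁻¹ * (f : C)⁻¹) :=
      hcentral e (hEK e.2) _ (hEc e' e'.2 f f.2)
    rw [show ((e : C) * e') * f * ((e : C) * e')⁻¹ * (f : C)⁻¹ =
      e * ((e' : C) * f * (e' : C)⁻¹ * (f : C)⁻¹) * ((f : C) * (e : C)⁻¹ * (f : C)⁻¹) from by group,
      ← hc]
    group
  have cm_inv : ∀ e f : E, cm f e = (cm e f)⁻¹ := fun e f => Subtype.ext (by
    show (f : C) * e * (f : C)⁻¹ * (e : C)⁻¹ = ((e : C) * f * (e : C)⁻¹ * (f : C)⁻¹)⁻¹
    group)
  let Φ : Wts ρ B → (E →* (E → F)) := fun χ =>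
    { toFun := fun e f => χ.1 (cm e f)
      map_one' := _root_.funext fun f => by
        have : cm 1 f = 1 := Subtype.ext (by simp [cm])
        rw [this, hone]; rfl
      map_mul' := fun e e' => _root_.funext fun f => by
        rw [cm_mul, hmul, mul_comm]; rfl }
  have hΦmem : ∀ χ : Wts ρ B, ∀ e : E, e ∈ (Φ χ).ker ↔ ∀ f : E, χ.1 (cm e f) = 1 := by
    intro χ e
    rw [MonoidHom.mem_ker]
    exact ⟨fun h f => congrFun h f, fun h => _root_.funext h⟩
  have hrad : ∀ e : E, (∀ χ : Wts ρ B, e ∈ (Φ χ).ker) → (e : C) ∈ B := by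
    intro e he
    refine hcen e (hEK e.2) fun f hf => ?_
    have h1 : ρ ((e : C) * f * (e : C)⁻¹ * f⁻¹) = 1 := ext_on_wsp hA hB0 fun χ hχ w hw => by
      rw [mem_wsp] at hw
      have h9 : χ (cm e ⟨f, hf⟩) = 1 := (hΦmem ⟨χ, hχ⟩ e).mp (he _) ⟨f, hf⟩
      show ρ ((cm e ⟨f, hf⟩ : B) : C) w = w
      rw [hw (cm e ⟨f, hf⟩), h9, one_smul]
    have := hρ (h1.trans (map_one ρ).symm)
    rw [mul_inv_eq_one, mul_inv_eq_iff_eq_mul] at this
    exact this
  set x : Wts ρ B → ℕ := fun χ => Nat.card (E ⧸ (Φ χ).ker) with hx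
  set m : Wts ρ B → ℕ := fun χ => finrank F (wsp ρ B χ.1) with hm
  have hm1 : ∀ χ, 1 ≤ m χ := fun χ => Submodule.one_le_finrank_iff.mpr χ.2
  have hxm : ∀ χ, x χ ≤ m χ ^ 2 := by
    intro χ
    set Wχ := wsp ρ B χ.1
    let T : E → Module.End F Wχ := fun e => (ρ e).restrict (hpres e (hEK e.2) χ.1)
    letI : Fintype (E ⧸ (Φ χ).ker) := Fintype.ofFinite _
    haveI : Nontrivial Wχ := Submodule.nontrivial_iff_ne_bot.mpr χ.2
    let ψ : E ⧸ (Φ χ).ker → (E →* F) := fun q =>
      { toFun := fun f => χ.1 (cm f q.out)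
        map_one' := by
          have : cm 1 q.out = 1 := Subtype.ext (by simp [cm])
          show χ.1 (cm 1 q.out) = 1
          rw [this, hone]
        map_mul' := fun f f' => by
          show χ.1 (cm (f * f') q.out) = χ.1 (cm f q.out) * χ.1 (cm f' q.out)
          rw [cm_mul, hmul, mul_comm] }
    have hψ : Function.Injective ψ := by
      intro q q' hq
      rw [← q.out_eq', ← q'.out_eq', QuotientGroup.eq, MonoidHom.mem_ker, map_mul]
      refine _root_.funext fun f => ?_
      have h1 : (Φ χ) q.out f = (Φ χ) q'.out f := by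
        have h2 : χ.1 (cm f q.out) = χ.1 (cm f q'.out) := DFunLike.congr_fun hq f
        have h3 : ∀ e : E, χ.1 (cm e f) * χ.1 (cm f e) = 1 := fun e => by
          rw [← hmul, cm_inv e f, mul_inv_cancel, hone]
        have h4 := h3 q.out
        rw [h2] at h4
        exact mul_right_cancel₀ (right_ne_zero_of_mul_eq_one h4) (h4.trans (h3 q'.out).symm)
      have h5 := congrFun (map_mul (Φ χ) q.out⁻¹ q.out) f
      rw [inv_mul_cancel, map_one, Pi.mul_apply] at h5
      rw [Pi.mul_apply, ← h1, ← h5]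
    have hconj : ∀ f e : E, ∀ w : Wχ, T f (T e w) = χ.1 (cm f e) • T e (T f w) := by
      intro f e w
      refine Subtype.ext ?_
      show ρ f (ρ e w) = χ.1 (cm f e) • ρ e (ρ f w)
      have hmem : ρ e (ρ f w) ∈ wsp ρ B χ.1 := hpres e (hEK e.2) _ _ (hpres f (hEK f.2) _ _ w.2)
      rw [← mem_wsp.mp hmem (cm f e), ← rho_mul_apply, ← rho_mul_apply, ← rho_mul_apply]
      congr 2
      simp only [cm]
      group
    have hTinv : ∀ e : E, ∀ w : Wχ, T e (T e⁻¹ w) = w := fun e w => Subtype.ext (by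
      show ρ e (ρ ((e⁻¹ : E) : C) w) = w
      rw [← rho_mul_apply, Subgroup.coe_inv, mul_inv_cancel, map_one, Module.End.one_apply])
    have hli : LinearIndependent F (fun q : E ⧸ (Φ χ).ker => T q.out) := by
      rw [Fintype.linearIndependent_iff]
      intro c hc q0
      have hzero : ∀ (f : E) (w : Wχ), ∑ q, (c q * ψ q f) • T q.out w = 0 := by
        intro f w
        have h0 := congrArg (fun L : Module.End F Wχ => L (T f⁻¹ w)) hc
        simp only [LinearMap.sum_apply, LinearMap.smul_apply, LinearMap.zero_apply] at h0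
        have h1 := congrArg (T f) h0
        rw [map_sum, map_zero] at h1
        rw [← h1]
        refine Finset.sum_congr rfl fun q _ => ?_
        rw [map_smul, hconj f q.out, smul_smul, hTinv]
        rfl
      obtain ⟨w, hw⟩ := exists_ne (0 : Wχ)
      have hTw : T q0.out w ≠ 0 := fun h => hw (by
        have := congrArg (T q0.out⁻¹) h
        rw [map_zero] at this
        rw [← this]
        have h2 := hTinv q0.out⁻¹ w
        rwa [inv_inv, eq_comm] at h2)
      obtain ⟨L, hL⟩ : ∃ L : Wχ →ₗ[F] F, L (T q0.out w) ≠ 0 := by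
        by_contra hcon
        push Not at hcon
        exact hTw ((Module.forall_dual_apply_eq_zero_iff F _).mp hcon)
      have hind := (linearIndependent_monoidHom E F).comp ψ hψ
      rw [Fintype.linearIndependent_iff] at hind
      have := hind (fun q => c q * L (T q.out w)) (_root_.funext fun f => by
        have h2 := congrArg L (hzero f w)
        rw [map_sum, map_zero] at h2
        rw [Finset.sum_apply, Pi.zero_apply, ← h2]
        refine Finset.sum_congr rfl fun q _ => ?_
        simp only [Pi.smul_apply, Function.comp_apply, smul_eq_mul, map_smul]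
        ring) q0
      exact (mul_eq_zero.mp this).resolve_right hL
    have h := hli.fintype_card_le_finrank
    rw [← Nat.card_eq_fintype_card] at h
    have hend : finrank F (Module.End F Wχ) = m χ ^ 2 := by
      rw [Module.finrank_linearMap, sq]
    exact h.trans hend.le
  -- `|E : B|`
  have hEcard : Nat.card E ≤ Nat.card B * ∏ χ, x χ := by
    set π := MonoidHom.mk' (fun e : E => fun χ => (QuotientGroup.mk e : E ⧸ (Φ χ).ker))
      (fun a b => _root_.funext fun χ => QuotientGroup.mk_mul _ a b) with hπ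
    have h1 : Nat.card E = Nat.card π.range * Nat.card π.ker := by
      rw [← π.ker.index_mul_card, Subgroup.index_ker]
    have h2 : Nat.card π.ker ≤ Nat.card B :=
      Nat.card_le_card_of_injective (fun e : π.ker => (⟨((e : E) : C), hrad e fun χ => by
        have := congrFun (MonoidHom.mem_ker.mp e.2) χ
        exact (QuotientGroup.eq_one_iff _).mp this⟩ : B))
        fun a b h => Subtype.ext (Subtype.ext (congrArg (fun z : B => (z : C)) h))
    have h3 : Nat.card π.range ≤ ∏ χ, x χ := by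
      refine (Subgroup.card_le_card_group _).trans (le_of_eq ?_)
      rw [Nat.card_pi]
    rw [h1, mul_comm]
    exact Nat.mul_le_mul h2 h3
  -- `|K : E|`
  have hKpres : ∀ (χ : Wts ρ B) (k : K) (e : E), e ∈ (Φ χ).ker →
      MulAut.conjNormal (k : C) e ∈ (Φ χ).ker := by
    intro χ k e he
    rw [hΦmem] at he ⊢
    intro f
    have h1 := he (MulAut.conjNormal (k : C)⁻¹ f)
    rw [← h1]
    refine congrArg χ.1 (Subtype.ext ?_)
    simp only [cm, MulAut.conjNormal_apply]
    have hb := hEc e e.2 ((k : C)⁻¹ * f * (k : C)⁻¹⁻¹)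
      (hEn.conj_mem _ f.2 _)
    calc (k : C) * e * (k : C)⁻¹ * f * ((k : C) * e * (k : C)⁻¹)⁻¹ * (f : C)⁻¹
        = (k : C) * ((e : C) * ((k : C)⁻¹ * f * (k : C)⁻¹⁻¹) * (e : C)⁻¹ *
            ((k : C)⁻¹ * f * (k : C)⁻¹⁻¹)⁻¹) * (k : C)⁻¹ := by group
      _ = _ := by rw [← hcentral k k.2 _ hb, mul_inv_cancel_right]
  have hmap : ∀ (χ : Wts ρ B) (k : K),
      Subgroup.map (MulAut.conjNormal (H := E) (k : C) : E ≃* E).toMonoidHom (Φ χ).ker =
        (Φ χ).ker := by
    intro χ k
    refine le_antisymm ?_ fun e he => ?_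
    · rintro _ ⟨e, he, rfl⟩; exact hKpres χ k e he
    · refine ⟨MulAut.conjNormal ((k⁻¹ : K) : C) e, hKpres χ k⁻¹ e he, ?_⟩
      simp
  let Ψ : ∀ χ : Wts ρ B, K →* MulAut (E ⧸ (Φ χ).ker) := fun χ =>
    { toFun := fun k => QuotientGroup.congr _ _ (MulAut.conjNormal (H := E) (k : C)) (hmap χ k)
      map_one' := MulEquiv.ext fun q => by
        obtain ⟨e, rfl⟩ := QuotientGroup.mk_surjective q
        show QuotientGroup.mk (MulAut.conjNormal ((1 : K) : C) e) = QuotientGroup.mk e
        simp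
      map_mul' := fun k l => MulEquiv.ext fun q => by
        obtain ⟨e, rfl⟩ := QuotientGroup.mk_surjective q
        show QuotientGroup.mk (MulAut.conjNormal ((k * l : K) : C) e) =
          QuotientGroup.mk (MulAut.conjNormal (k : C) (MulAut.conjNormal (l : C) e))
        rw [Subgroup.coe_mul, map_mul, MulAut.mul_apply] }
  have hKcard : Nat.card K ≤ Nat.card E * ∏ χ, (x χ - 1) ^ Nat.log 2 (x χ) := by
    set Ψt := MonoidHom.mk' (fun k : K => fun χ => (Ψ χ).rangeRestrict k)
      (fun a b => _root_.funext fun χ => map_mul _ a b) with hΨt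
    have h1 : Nat.card K = Nat.card Ψt.range * Nat.card Ψt.ker := by
      rw [← Ψt.ker.index_mul_card, Subgroup.index_ker]
    have h2 : Nat.card Ψt.ker ≤ Nat.card E := by
      refine Nat.card_le_card_of_injective (fun k : Ψt.ker => (⟨((k : K) : C),
        hTE _ (k : K).2 fun e he => ?_⟩ : E))
        fun a b h => Subtype.ext (Subtype.ext (congrArg (fun z : E => (z : C)) h))
      set u : E := MulAut.conjNormal ((k : K) : C) ⟨e, he⟩ * ⟨e, he⟩⁻¹ with hu
      have hu' : (u : C) = ((k : K) : C) * e * ((k : K) : C)⁻¹ * e⁻¹ := by simp [hu]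
      rw [← hu']
      refine hrad u fun χ => ?_
      have h3 : (Ψ χ) (k : K) = 1 :=
        congrArg Subtype.val (congrFun (MonoidHom.mem_ker.mp k.2) χ)
      have h4 := DFunLike.congr_fun h3 (QuotientGroup.mk (⟨e, he⟩ : E))
      rw [MulAut.one_apply] at h4
      rw [hu, ← (QuotientGroup.eq_one_iff _), QuotientGroup.mk_mul, QuotientGroup.mk_inv,
        mul_inv_eq_one]
      exact h4
    have h3 : Nat.card Ψt.range ≤ ∏ χ, (x χ - 1) ^ Nat.log 2 (x χ) := by
      refine (Subgroup.card_le_card_group _).trans ?_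
      rw [Nat.card_pi]
      exact Finset.prod_le_prod' fun χ _ => card_le_aut (Ψ χ).range.subtype Subtype.val_injective
    rw [h1, mul_comm]
    exact Nat.mul_le_mul h2 h3
  have hKB : K.index * (Nat.card K) = B.index * Nat.card B := by
    rw [K.index_mul_card, B.index_mul_card]
  have hprod : B.index ≤ K.index * ∏ χ, 96 ^ (m χ - 1) := by
    have h2 : B.index * Nat.card B ≤ (K.index * ∏ χ, 96 ^ (m χ - 1)) * Nat.card B := by
      rw [← hKB, mul_assoc]
      refine Nat.mul_le_mul_left _ (hKcard.trans ((Nat.mul_le_mul_right _ hEcard).trans ?_))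
      rw [mul_assoc, ← Finset.prod_mul_distrib, mul_comm]
      refine Nat.mul_le_mul_right _ (Finset.prod_le_prod' fun χ _ => ?_)
      exact weight_numeric (hm1 χ) (hxm χ)
    exact Nat.le_of_mul_le_mul_right h2 Nat.card_pos
  have hsum : ∑ χ, m χ = finrank F W := sum_finrank_wts hA hB0
  calc B.index * K.index ≤ (K.index * ∏ χ, 96 ^ (m χ - 1)) * K.index :=
        Nat.mul_le_mul_right _ hprod
    _ = (K.index * K.index) * 96 ^ (∑ χ, (m χ - 1)) := by
        rw [Finset.prod_pow_eq_pow_sum]; ring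
    _ ≤ (8 ^ (Fintype.card (Wts ρ B) - 1) * 8 ^ (Fintype.card (Wts ρ B) - 1)) *
          96 ^ (∑ χ, (m χ - 1)) :=
        Nat.mul_le_mul_right _ (Nat.mul_le_mul hKidx hKidx)
    _ ≤ 96 ^ (Fintype.card (Wts ρ B) - 1) * 96 ^ (∑ χ, (m χ - 1)) := by
        refine Nat.mul_le_mul_right _ ?_
        rw [← mul_pow]
        exact Nat.pow_le_pow_left (by norm_num) _
    _ ≤ 96 ^ (finrank F W - 1) := by
        rw [← pow_add, ← hsum]
        refine Nat.pow_le_pow_right (by norm_num) ?_
        have h1 : ∑ χ : Wts ρ B, m χ = (∑ χ, (m χ - 1)) + Fintype.card (Wts ρ B) := by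
          rw [← Finset.card_univ, Finset.card_eq_sum_ones, ← Finset.sum_add_distrib]
          exact Finset.sum_congr rfl fun χ _ => by have := hm1 χ; omega
        rcases Nat.eq_zero_or_pos (Fintype.card (Wts ρ B)) with h0 | h0
        · haveI := Fintype.card_eq_zero_iff.mp h0
          simp [h0]
        · omega

end Cfsg.Agent.Lib.ClassLowerSolv
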