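import Mathlib
import Cfsg.Agent.Lib.ClassLowerSolv.Index

/-!
# Passing to the field of the eigenvalues of a fixed point free element of prime order
-/

set_option autoImplicit false
set_option linter.style.haveILetI false

namespace Cfsg.Agent.Lib.ClassLowerSolv

open Module Polynomial

/-- An abelian normal subgroup of a normal subgroup `C` of `H` has order prime to `r` if `H` has
no nontrivial normal `r`-subgroup. -/
theorem not_dvd_card_of_core {H : Type*} [Group H] [Finite H] {r : ℕ} [hr : Fact r.Prime]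
    (hno : ∀ A : Subgroup H, A.Normal → IsPGroup r A → A = ⊥) (C : Subgroup H) [C.Normal]
    (A : Subgroup C) [A.Normal] (hA : ∀ a ∈ A, ∀ b ∈ A, a * b = b * a) : ¬ r ∣ Nat.card A := by
  intro hdvd
  obtain ⟨x, hx⟩ := exists_prime_orderOf_dvd_card' r hdvd
  set Q : Subgroup C := ⨅ P : Sylow r C, (P : Subgroup C) with hQ
  have hQp : IsPGroup r Q := by
    obtain ⟨P⟩ : Nonempty (Sylow r C) := inferInstance
    exact P.isPGroup'.to_le (iInf_le _ P)
  haveI hQc : Q.Characteristic := by
    refine Subgroup.characteristic_iff_le_comap.mpr fun α y hy => ?_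
    rw [Subgroup.mem_comap, hQ, Subgroup.mem_iInf]
    intro P
    have := Subgroup.mem_iInf.mp (hQ ▸ hy)
      (P.comapOfInjective α.toMonoidHom α.injective
        (fun z _ => ⟨α.symm z, α.apply_symm_apply z⟩))
    exact this
  haveI : (Q.map C.subtype).Normal := ConjAct.normal_of_characteristic_of_normal
  have h0 := hno _ this (hQp.map _)
  rw [Subgroup.map_eq_bot_iff_of_injective _ C.subtype_injective] at h0
  let P0 : Subgroup C :=
    { carrier := {y | y ∈ A ∧ y ^ r = 1}
      one_mem' := ⟨one_mem A, one_pow r⟩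
      mul_mem' := fun {u v} hu hv => ⟨mul_mem hu.1 hv.1, by
        rw [(show Commute u v from hA u hu.1 v hv.1).mul_pow, hu.2, hv.2, one_mul]⟩
      inv_mem' := fun {u} hu => ⟨inv_mem hu.1, by rw [inv_pow, hu.2, inv_one]⟩ }
  haveI hP0n : P0.Normal := ⟨fun y hy g => ⟨(inferInstance : A.Normal).conj_mem y hy.1 g, by
    rw [conj_pow, hy.2, mul_one, mul_inv_cancel]⟩⟩
  have hP0p : IsPGroup r P0 := fun y => ⟨1, Subtype.ext (by simpa using y.2.2)⟩
  have hle : P0 ≤ Q := le_iInf fun P => by
    obtain ⟨P', hP'⟩ := hP0p.exists_le_sylow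
    obtain ⟨g, rfl⟩ := MulAction.exists_smul_eq C P' P
    intro y hy
    have h1 := hP0n.conj_mem y hy g⁻¹
    rw [Sylow.coe_subgroup_smul, Subgroup.mem_pointwise_smul_iff_inv_smul_mem]
    refine hP' ?_
    simpa [MulAut.smul_def] using h1
  have hmem : (x : C) ∈ P0 := ⟨x.2, by rw [← Subgroup.coe_pow, ← hx, pow_orderOf_eq_one]; rfl⟩
  have h1 := hle hmem
  rw [h0, Subgroup.mem_bot] at h1
  rw [← Subgroup.orderOf_coe, h1, orderOf_one] at hx
  exact hr.out.ne_one hx.symm

/-- If the element `a` of prime order `p` generates a normal subgroup and acts fixed point freely in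
degree `n` over `ZMod r`, then `C = C(a)` has an abelian normal subgroup `B` with
`|C : B| * |C : C(B)| ≤ 96 ^ (N-1)` where `(p+1) ^ N ≤ r ^ n`, and `|H : C| ≤ n`. -/
theorem exists_field_bound {H : Type*} [Group H] [Finite H] [Group.IsSolvable H] {r p : ℕ}
    [hr : Fact r.Prime] [hp : Fact p.Prime] (hpr : p ≠ r) {n : ℕ} (hn : 0 < n)
    (M : H →* Matrix (Fin n) (Fin n) (ZMod r)) (hM : Function.Injective M)
    (hno : ∀ A : Subgroup H, A.Normal → IsPGroup r A → A = ⊥)
    (a : H) (ha : orderOf a = p) [(Subgroup.zpowers a).Normal]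
    (hfix : ∀ v, (M a).mulVec v = v → v = 0) :
    (Subgroup.centralizer ({a} : Set H)).index ≤ n ∧
      ∃ N : ℕ, 1 ≤ N ∧ (p + 1) ^ N ≤ r ^ n ∧ ∃ B : Subgroup (Subgroup.centralizer ({a} : Set H)),
        B.Normal ∧ (∀ x ∈ B, ∀ y ∈ B, x * y = y * x) ∧
        B.index * (Subgroup.centralizer (B : Set (Subgroup.centralizer ({a} : Set H)))).index
          ≤ 96 ^ (N - 1) := by
  classical
  set C := Subgroup.centralizer ({a} : Set H) with hC
  haveI hCn : C.Normal := by
    have : C = Subgroup.centralizer ((Subgroup.zpowers a : Subgroup H) : Set H) := by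
      rw [Subgroup.zpowers_eq_closure, Subgroup.centralizer_closure]
    rw [this]; infer_instance
  let F := AlgebraicClosure (ZMod r)
  haveI : CharP F r := charP_of_injective_algebraMap (algebraMap (ZMod r) F).injective r
  haveI : Fintype H := Fintype.ofFinite H
  have hpF : (p : F) ≠ 0 := fun h =>
    hpr ((Nat.prime_dvd_prime_iff_eq hr.out hp.out).mp ((CharP.cast_eq_zero_iff F r p).mp h)).symm
  let L : H →* Module.End F (Fin n → F) :=
    (Matrix.toLinAlgEquiv' : Matrix (Fin n) (Fin n) F ≃ₐ[F] _).toAlgHom.toRingHom.toMonoidHom.comp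
      (((algebraMap (ZMod r) F).mapMatrix).toMonoidHom.comp M)
  have hLapp : ∀ h v, L h v = ((M h).map (algebraMap (ZMod r) F)).mulVec v := fun h v => rfl
  have hLinj : Function.Injective L := fun g h hgh => by
    refine hM ?_
    have : (algebraMap (ZMod r) F).mapMatrix (M g) = (algebraMap (ZMod r) F).mapMatrix (M h) :=
      (Matrix.toLinAlgEquiv' : Matrix (Fin n) (Fin n) F ≃ₐ[F] _).injective hgh
    exact Matrix.map_injective (algebraMap (ZMod r) F).injective this
  have hLp : L a ^ p = 1 := by rw [← map_pow, ← ha, pow_orderOf_eq_one, map_one]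
  haveI : NeZero (p : F) := ⟨hpF⟩
  obtain ⟨ζ, hζ⟩ := HasEnoughRootsOfUnity.exists_primitiveRoot F p
  let E : ZMod p → Submodule F (Fin n → F) := fun i => (L a).eigenspace (ζ ^ i.val)
  have hζpow : ∀ m : ℕ, ζ ^ (m : ZMod p).val = ζ ^ m := fun m => by
    rw [ZMod.val_natCast, ← pow_eq_pow_mod m hζ.pow_eq_one]
  have hζinj : Function.Injective fun i : ZMod p => ζ ^ i.val := fun i j h =>
    ZMod.val_injective p (hζ.pow_inj (ZMod.val_lt i) (ZMod.val_lt j) h)
  have hindep : iSupIndep E := (Module.End.eigenspaces_iSupIndep (L a)).comp hζinj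
  have hss : (L a).IsFinitelySemisimple := Module.End.IsSemisimple.isFinitelySemisimple
    (Module.End.isSemisimple_of_squarefree_aeval_eq_zero (p := (X ^ p - 1 : F[X]))
      (X_pow_sub_one_separable_iff.mpr hpF).squarefree
      (by rw [map_sub, map_pow, aeval_X, map_one, hLp, sub_self]))
  have hsup : ⨆ i, E i = ⊤ := by
    rw [eq_top_iff, ← (hss.iSup_maxGenEigenspace_eq_top_iff).mp
      (Module.End.iSup_maxGenEigenspace_eq_top _), iSup_le_iff]
    intro μ v hv
    by_cases hv0 : v = 0
    · rw [hv0]; exact zero_mem _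
    have hpow : ∀ k : ℕ, (L a ^ k) v = μ ^ k • v := fun k => by
      induction k with
      | zero => simp
      | succ k ih =>
        rw [pow_succ', Module.End.mul_apply, ih, map_smul, Module.End.mem_eigenspace_iff.mp hv,
          smul_smul, ← pow_succ]
    have hμp : μ ^ p = 1 := by
      have h := hpow p
      rw [hLp, Module.End.one_apply] at h
      exact smul_left_injective F hv0 (show μ ^ p • v = (1 : F) • v by rw [← h, one_smul])
    obtain ⟨i, hi, rfl⟩ := hζ.eq_pow_of_pow_eq_one hμp
    refine Submodule.mem_iSup_of_mem (i : ZMod p) ?_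
    show v ∈ (L a).eigenspace (ζ ^ (i : ZMod p).val)
    rw [hζpow]
    exact hv
  have hE0 : E 0 = ⊥ := by
    show (L a).eigenspace (ζ ^ (0 : ZMod p).val) = ⊥
    rw [ZMod.val_zero, pow_zero, Submodule.eq_bot_iff]
    intro v hv
    rw [Module.End.mem_eigenspace_iff, one_smul, hLapp] at hv
    by_contra hv0
    have hdet : ((M a - 1).map (algebraMap (ZMod r) F)).det = 0 :=
      Matrix.exists_mulVec_eq_zero_iff.mp ⟨v, hv0, by
        rw [Matrix.map_sub _ (map_sub _), Matrix.map_one _ (map_zero _) (map_one _),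
          Matrix.sub_mulVec, Matrix.one_mulVec, hv, sub_self]⟩
    rw [← RingHom.mapMatrix_apply, ← RingHom.map_det, map_eq_zero] at hdet
    obtain ⟨w, hw0, hw⟩ := Matrix.exists_mulVec_eq_zero_iff.mpr hdet
    rw [Matrix.sub_mulVec, Matrix.one_mulVec, sub_eq_zero] at hw
    exact hw0 (hfix w hw)
  -- the Frobenius map
  let σ : F ≃+* F := RingEquiv.ofBijective (frobenius F r) (PerfectRing.bijective_frobenius (p := r))
  have hσ : ∀ c : F, σ c = c ^ r := fun c => rfl
  let φ : (Fin n → F) ≃+ (Fin n → F) := AddEquiv.arrowCongr (Equiv.refl _) σ.toAddEquiv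
  have hφapp : ∀ v i, φ v i = σ (v i) := fun v i => rfl
  have hφL : ∀ h v, φ (L h v) = L h (φ v) := by
    intro h v
    funext i
    simp only [hφapp, hLapp, Matrix.mulVec, dotProduct, Matrix.map_apply, map_sum, map_mul]
    refine Finset.sum_congr rfl fun j _ => ?_
    congr 1
    rw [hσ, ← map_pow, ZMod.pow_card]
  have hφsmul : ∀ (c : F) v, φ (c • v) = c ^ r • φ v := fun c v => by
    funext i
    simp only [hφapp, Pi.smul_apply, smul_eq_mul, map_mul, hσ, mul_pow]
  set rb : (ZMod p)ˣ := ZMod.unitOfCoprime r ((Nat.coprime_primes hr.out hp.out).mpr (Ne.symm hpr))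
    with hrb
  have hrbv : ((rb : (ZMod p)ˣ) : ZMod p) = (r : ZMod p) := by simp [hrb]
  have hζmul : ∀ i : ZMod p, (ζ ^ i.val) ^ r = ζ ^ ((r : ZMod p) * i).val := fun i => by
    rw [← pow_mul, ← hζpow (i.val * r), Nat.cast_mul, ZMod.natCast_zmod_val, mul_comm]
  have hφE : ∀ (i : ZMod p) v, φ v ∈ E ((r : ZMod p) * i) ↔ v ∈ E i := by
    intro i v
    show φ v ∈ (L a).eigenspace _ ↔ v ∈ (L a).eigenspace _
    rw [Module.End.mem_eigenspace_iff, Module.End.mem_eigenspace_iff, ← hζmul, ← hφsmul, ← hφL]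
    exact φ.injective.eq_iff
  have hrank : ∀ i : ZMod p, finrank F (E ((r : ZMod p) * i)) = finrank F (E i) := by
    intro i
    let j : E i ≃+ E ((r : ZMod p) * i) :=
      { toFun := fun v => ⟨φ v, (hφE i v).mpr v.2⟩
        invFun := fun v => ⟨φ.symm v, (hφE i _).mp (by simp)⟩
        left_inv := fun v => Subtype.ext (by simp)
        right_inv := fun v => Subtype.ext (by simp)
        map_add' := fun u v => Subtype.ext (map_add φ _ _) }
    have h := rank_eq_of_equiv_equiv (σ : F → F) j σ.bijective fun c v => Subtype.ext (hφsmul c v)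
    exact (congrArg Cardinal.toNat h).symm
  set S := Subgroup.zpowers rb with hS
  have hrankS : ∀ s : (ZMod p)ˣ, s ∈ S → ∀ i : ZMod p, finrank F (E ((s : ZMod p) * i)) =
      finrank F (E i) := by
    intro s hs
    rw [hS, mem_zpowers_iff_mem_range_orderOf, Finset.mem_image] at hs
    obtain ⟨k, -, rfl⟩ := hs
    intro i
    induction k with
    | zero =>
      show finrank F (E (((rb ^ 0 : (ZMod p)ˣ) : ZMod p) * i)) = _
      rw [pow_zero, Units.val_one, one_mul]
    | succ k ih => rw [pow_succ', Units.val_mul, mul_assoc, hrbv, hrank, ih]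
  let t : (ZMod p)ˣ ⧸ S → ZMod p := fun q => ((q.out : (ZMod p)ˣ) : ZMod p)
  have htinj : Function.Injective t := fun q q' h => by
    rw [← q.out_eq', ← q'.out_eq', Units.ext h]
  let W : Submodule F (Fin n → F) := ⨆ q, E (t q)
  have hCE : ∀ c : C, ∀ i : ZMod p, ∀ v ∈ E i, L (c : H) v ∈ E i := by
    intro c i v hv
    rw [Module.End.mem_eigenspace_iff] at hv ⊢
    have hc : a * (c : H) = (c : H) * a := Subgroup.mem_centralizer_singleton_iff.mp c.2 |>.symm
    rw [← Module.End.mul_apply, ← map_mul, hc, map_mul, Module.End.mul_apply, hv, map_smul]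
  have hCW : ∀ c : C, ∀ v ∈ W, L (c : H) v ∈ W := by
    intro c v hv
    refine Submodule.iSup_induction (fun q => E (t q)) (motive := fun v => L (c : H) v ∈ W) hv
      (fun q x hx => Submodule.mem_iSup_of_mem q (hCE c _ x hx)) (by simp) fun x y hx hy => ?_
    rw [map_add]; exact add_mem hx hy
  let ρ : C →* Module.End F W :=
    { toFun := fun c => (L (c : H)).restrict (hCW c)
      map_one' := LinearMap.ext fun v => Subtype.ext (by simp [LinearMap.restrict_apply])
      map_mul' := fun c c' => LinearMap.ext fun v => Subtype.ext (by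
        simp [LinearMap.restrict_apply, Module.End.mul_apply]) }
  have hρinj : Function.Injective ρ := by
    rw [injective_iff_map_eq_one]
    intro c hc
    refine Subtype.ext (hLinj ?_)
    rw [Subgroup.coe_one, map_one]
    have hfixq : ∀ q, ∀ v ∈ E (t q), L (c : H) v = v := fun q v hv =>
      congrArg Subtype.val (LinearMap.congr_fun hc ⟨v, Submodule.mem_iSup_of_mem q hv⟩)
    have hfixall : ∀ i : ZMod p, ∀ v ∈ E i, L (c : H) v = v := by
      intro i
      by_cases hi : i = 0
      · subst hi; intro v hv; rw [hE0, Submodule.mem_bot] at hv; rw [hv, map_zero]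
      obtain ⟨u, rfl⟩ : ∃ u : (ZMod p)ˣ, (u : ZMod p) = i := ⟨Units.mk0 i hi, rfl⟩
      obtain ⟨⟨s, hs⟩, hu⟩ := QuotientGroup.mk_out_eq_mul S u
      have hu' : (u : ZMod p) = ((s⁻¹ : (ZMod p)ˣ) : ZMod p) * t (u : (ZMod p)ˣ ⧸ S) := by
        show _ = _ * (((QuotientGroup.mk u : (ZMod p)ˣ ⧸ S).out : (ZMod p)ˣ) : ZMod p)
        rw [← Units.val_mul, hu, mul_comm u, inv_mul_cancel_left]
      rw [hu']
      have hs' := inv_mem hs
      generalize s⁻¹ = s' at hs'
      rw [hS, mem_zpowers_iff_mem_range_orderOf, Finset.mem_image] at hs'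
      obtain ⟨k, -, rfl⟩ := hs'
      induction k with
      | zero => intro v hv; rw [pow_zero, Units.val_one, one_mul] at hv; exact hfixq _ v hv
      | succ k ih =>
        intro v hv
        rw [pow_succ', Units.val_mul, mul_assoc, hrbv] at hv
        obtain ⟨w, rfl⟩ := φ.surjective v
        rw [← hφL, ih w ((hφE _ w).mp hv)]
    refine LinearMap.ext fun v => ?_
    have hv : v ∈ ⨆ i, E i := hsup ▸ Submodule.mem_top
    refine Submodule.iSup_induction E (motive := fun v => L (c : H) v = (1 : Module.End F _) v) hv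
      hfixall (by simp) fun x y hx hy => ?_
    rw [map_add, hx, hy, map_add]
  -- dimensions
  have hdimW : finrank F W = ∑ q, finrank F (E (t q)) := by
    have hind : iSupIndep fun q => E (t q) := hindep.comp htinj
    have key : ∀ T : Finset ((ZMod p)ˣ ⧸ S),
        finrank F (T.sup fun q => E (t q) : Submodule F (Fin n → F)) =
          ∑ q ∈ T, finrank F (E (t q)) := by
      intro T
      induction T using Finset.induction_on with
      | empty => simp
      | @insert q T hq ih =>
        rw [Finset.sum_insert hq, Finset.sup_insert, ← ih,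
          ← Submodule.finrank_sup_add_finrank_inf_eq]
        have hd : E (t q) ⊓ (T.sup fun q => E (t q)) = ⊥ := disjoint_iff.mp ((hind q).mono_right
          (Finset.sup_le fun j hj => le_iSup_of_le j (le_iSup_of_le (by rintro rfl; exact hq hj) le_rfl)))
        rw [hd, finrank_bot, add_zero]
    rw [← key Finset.univ, Finset.sup_univ_eq_iSup]
  have hdimn : n = ∑ i : ZMod p, finrank F (E i) := by
    have hI := DirectSum.isInternal_submodule_of_iSupIndep_of_iSup_eq_top hindep hsup
    rw [← finrank_directSum, (LinearEquiv.ofBijective (DirectSum.coeLinearMap _) hI).finrank_eq,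
      Module.finrank_fin_fun]
  have hsumu : ∑ i : ZMod p, finrank F (E i) = ∑ u : (ZMod p)ˣ, finrank F (E u) := by
    rw [← Finset.add_sum_erase _ _ (Finset.mem_univ (0 : ZMod p)), hE0, finrank_bot, zero_add]
    refine (Finset.sum_bij (fun (u : (ZMod p)ˣ) _ => (u : ZMod p)) (fun u _ => by simp)
      (fun u _ v _ h => Units.ext h) (fun i hi => ?_) (fun u _ => rfl)).symm
    exact ⟨Units.mk0 i (Finset.ne_of_mem_erase hi), Finset.mem_univ _, rfl⟩
  set N := finrank F W with hN
  have hne : n = Nat.card S * N := by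
    have hbij : Function.Bijective fun qs : ((ZMod p)ˣ ⧸ S) × S =>
        qs.1.out * ((qs.2 : S) : (ZMod p)ˣ) := by
      refine ⟨fun x y h => ?_, fun u => ?_⟩
      · have h1 : x.1 = y.1 := by
          have := congrArg (fun z : (ZMod p)ˣ => (z : (ZMod p)ˣ ⧸ S)) h
          simpa [QuotientGroup.mk_mul, (QuotientGroup.eq_one_iff _).mpr] using this
        refine Prod.ext h1 (Subtype.ext ?_)
        simp only [h1] at h
        exact mul_left_cancel h
      · refine ⟨((u : (ZMod p)ˣ ⧸ S), ⟨(u : (ZMod p)ˣ ⧸ S).out⁻¹ * u, ?_⟩), mul_inv_cancel_left _ _⟩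
        exact QuotientGroup.eq.mp (QuotientGroup.out_eq' _)
    rw [hdimn, hsumu, hdimW, Nat.card_eq_fintype_card, ← Finset.card_univ, Finset.mul_sum,
      ← Equiv.sum_comp (Equiv.ofBijective _ hbij)
        fun u : (ZMod p)ˣ => finrank F (E u), Fintype.sum_prod_type]
    refine Finset.sum_congr rfl fun q _ => ?_
    rw [Finset.sum_congr rfl (g := fun _ => finrank F (E (t q))), Finset.sum_const, smul_eq_mul]
    rintro ⟨s, hs⟩ _
    have : ((Equiv.ofBijective _ hbij (q, ⟨s, hs⟩) : (ZMod p)ˣ) : ZMod p) =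
        (s : ZMod p) * t q := by
      rw [Equiv.ofBijective_apply, Units.val_mul, mul_comm]
    rw [this, hrankS s hs]
  have hN1 : 1 ≤ N := by
    rcases Nat.eq_zero_or_pos N with h | h
    · rw [h, mul_zero] at hne; omega
    · exact h
  have hpe : p + 1 ≤ r ^ Nat.card S := by
    have h1 : rb ^ Nat.card S = 1 := by rw [hS, Nat.card_zpowers, pow_orderOf_eq_one]
    have h2 : ((r ^ Nat.card S : ℕ) : ZMod p) = ((1 : ℕ) : ZMod p) := by
      rw [Nat.cast_pow, ← hrbv, ← Units.val_pow_eq_pow_val, h1, Units.val_one, Nat.cast_one]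
    rw [ZMod.natCast_eq_natCast_iff] at h2
    have h3 := (Nat.modEq_iff_dvd' (Nat.one_le_pow _ _ hr.out.pos)).mp h2.symm
    have h4 : 1 < r ^ Nat.card S := Nat.one_lt_pow Nat.card_pos.ne' hr.out.one_lt
    have := Nat.le_of_dvd (by omega) h3
    omega
  refine ⟨?_, N, hN1, ?_, ?_⟩
  · obtain ⟨i0, hi0⟩ : ∃ i, E i ≠ ⊥ := by
      by_contra hc
      push Not at hc
      have hz : ∑ i : ZMod p, finrank F (E i) = 0 :=
        Finset.sum_eq_zero fun i _ => by rw [hc i, finrank_bot]
      omega
    have hi00 : i0 ≠ 0 := fun h => hi0 (h ▸ hE0)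
    have hexp : ∀ h : H, ∃ k : ℕ, h⁻¹ * a * h = a ^ k := fun h => by
      have hmem : h⁻¹ * a * h ∈ Subgroup.zpowers a := by
        simpa using (inferInstance : (Subgroup.zpowers a).Normal).conj_mem a
          (Subgroup.mem_zpowers a) h⁻¹
      obtain ⟨k, hk⟩ := Submonoid.mem_powers_iff _ _ |>.mp
        ((mem_powers_iff_mem_zpowers).mpr hmem)
      exact ⟨k, hk.symm⟩
    choose k hk using hexp
    have hmove : ∀ h : H, E ((k h : ZMod p) * i0) ≠ ⊥ := by
      intro h
      obtain ⟨v, hv, hv0⟩ := Submodule.exists_mem_ne_zero_of_ne_bot hi0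
      refine Submodule.ne_bot_iff _ |>.mpr ⟨L h v, ?_, fun h0 => hv0 ?_⟩
      · show L h v ∈ (L a).eigenspace _
        rw [Module.End.mem_eigenspace_iff] at hv ⊢
        rw [← Module.End.mul_apply, ← map_mul,
          show a * h = h * a ^ k h from by rw [← hk h]; group, map_mul, Module.End.mul_apply,
          map_pow]
        have hpow : ∀ m : ℕ, (L a ^ m) v = (ζ ^ i0.val) ^ m • v := fun m => by
          induction m with
          | zero => simp
          | succ m ih =>
            rw [pow_succ', Module.End.mul_apply, ih, map_smul, hv, smul_smul, ← pow_succ]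
        rw [hpow, map_smul, ← pow_mul, ← hζpow (i0.val * k h), Nat.cast_mul, ZMod.natCast_zmod_val,
          mul_comm]
      · have := congrArg (L h⁻¹) h0
        rwa [map_zero, ← Module.End.mul_apply, ← map_mul, inv_mul_cancel, map_one,
          Module.End.one_apply] at this
    let g : H ⧸ C → {i : ZMod p // E i ≠ ⊥} := fun q => ⟨(k q.out : ZMod p) * i0, hmove _⟩
    have hg : Function.Injective g := by
      intro q q' hq
      have h1 : (k q.out : ZMod p) = k q'.out := mul_right_cancel₀ hi00 (congrArg Subtype.val hq)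
      rw [ZMod.natCast_eq_natCast_iff, ← ha, ← pow_eq_pow_iff_modEq, ← hk, ← hk] at h1
      rw [← q.out_eq', ← q'.out_eq', QuotientGroup.eq]
      have hmem : q'.out * q.out⁻¹ ∈ C := by
        show q'.out * q.out⁻¹ ∈ Subgroup.centralizer ({a} : Set H)
        rw [Subgroup.mem_centralizer_singleton_iff]
        calc q'.out * q.out⁻¹ * a = q'.out * (q.out⁻¹ * a * q.out) * q.out⁻¹ := by group
          _ = a * (q'.out * q.out⁻¹) := by rw [h1]; group
      exact hCn.mem_comm hmem
    have h1 : C.index ≤ Nat.card {i : ZMod p // E i ≠ ⊥} := Nat.card_le_card_of_injective g hg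
    refine h1.trans ?_
    rw [Nat.card_eq_fintype_card]
    refine le_trans hindep.subtype_ne_bot_le_finrank ?_
    rw [Module.finrank_fin_fun]
  · calc (p + 1) ^ N ≤ (r ^ Nat.card S) ^ N := Nat.pow_le_pow_left hpe _
      _ = r ^ n := by rw [← pow_mul, ← hne]
  · haveI : Group.IsSolvable C := inferInstance
    have h := exists_abelian_normal_bound ρ hρinj fun A hA hAc => by
      haveI := hA
      rw [Ne, CharP.cast_eq_zero_iff F r]
      exact not_dvd_card_of_core hno C A hAc
    rwa [← hN] at h

end Cfsg.Agent.Lib.ClassLowerSolv
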