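import Mathlib

/-!
# Numerical estimates
-/

set_option autoImplicit false

namespace Cfsg.Agent.Lib.ClassLowerSolv

theorem prime_log_pos {p : ℕ} (hp : 2 ≤ p) : 1 ≤ Nat.log 2 p :=
  Nat.le_log_of_pow_le (by norm_num) (by simpa using hp)

/-- Turning a product bound into a bound on the sum. -/
theorem le_of_product {p L D M X Y k : ℕ} (hM : 1 ≤ M) (hXY : M ≤ D * (X * Y))
    (hnum : p ^ 2 * D ≤ 36 * L ^ 2 * M) (hk : X + Y ≤ k) : p ≤ 3 * L * k := by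
  have h1 : p ^ 2 * M ≤ (3 * L * k) ^ 2 * M :=
    calc p ^ 2 * M ≤ p ^ 2 * (D * (X * Y)) := Nat.mul_le_mul_left _ hXY
      _ = (p ^ 2 * D) * (X * Y) := by ring
      _ ≤ (36 * L ^ 2 * M) * (X * Y) := Nat.mul_le_mul_right _ hnum
      _ = 9 * L ^ 2 * M * (4 * X * Y) := by ring
      _ ≤ 9 * L ^ 2 * M * (X + Y) ^ 2 := Nat.mul_le_mul_left _ (four_mul_le_sq_add X Y)
      _ = (3 * L * (X + Y)) ^ 2 * M := by ring
      _ ≤ (3 * L * k) ^ 2 * M :=
          Nat.mul_le_mul_right _ (Nat.pow_le_pow_left (Nat.mul_le_mul_left _ hk) 2)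
  exact (Nat.pow_le_pow_iff_left (by norm_num)).mp (Nat.le_of_mul_le_mul_right h1 hM)

/-- The range where the trivial bound `2√(p-1)` suffices. -/
theorem sqrt_range {p d X k : ℕ} (hp : 2 ≤ p) (hp5 : p < 5000) (hXY : p - 1 ≤ X * d)
    (hk : X + d ≤ k) : p ≤ 3 * Nat.log 2 p * k := by
  set L := Nat.log 2 p with hL
  have hL1 : 1 ≤ L := prime_log_pos hp
  have hlt : p < 2 ^ (L + 1) := Nat.lt_pow_succ_log_self (by norm_num) p
  have hL12 : L ≤ 12 := by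
    have h : L < 13 := Nat.log_lt_of_lt_pow (by omega) (by omega)
    omega
  have hb : p + 2 ≤ 36 * L ^ 2 := by interval_cases L <;> omega
  refine le_of_product (D := 1) (M := p - 1) (by omega) ?_ ?_ hk
  · rw [one_mul]; exact hXY
  · rw [mul_one]
    have hp1 : 1 ≤ p := by omega
    obtain ⟨c, rfl⟩ := Nat.exists_eq_add_of_le hp1
    rw [Nat.add_sub_cancel_left]
    nlinarith

theorem key_induction {p : ℕ} (hp : 5000 ≤ p) :
    ∀ j : ℕ, 3 ≤ j → 169 * (j + 1) ^ 2 * 96 ^ (j - 1) ≤ 5184 * p ^ (j - 2) := by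
  intro j hj
  induction j, hj using Nat.le_induction with
  | base =>
    norm_num
    omega
  | succ j hj ih =>
    have e1 : j + 1 - 1 = (j - 1) + 1 := by omega
    have e2 : j + 1 - 2 = (j - 2) + 1 := by omega
    rw [e1, e2, pow_succ 96, pow_succ p]
    calc 169 * (j + 1 + 1) ^ 2 * (96 ^ (j - 1) * 96)
        = (169 * 96 ^ (j - 1)) * ((j + 2) ^ 2 * 96) := by ring
      _ ≤ (169 * 96 ^ (j - 1)) * ((j + 1) ^ 2 * p) := Nat.mul_le_mul_left _ (by nlinarith)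
      _ = 169 * (j + 1) ^ 2 * 96 ^ (j - 1) * p := by ring
      _ ≤ 5184 * p ^ (j - 2) * p := Nat.mul_le_mul_right _ ih
      _ = 5184 * (p ^ (j - 2) * p) := by ring

/-- The main estimate when `d > 3 log p`. -/
theorem big_range {p d N S : ℕ} (hp : 5000 ≤ p) (hd : 3 * Nat.log 2 p < d) (hN : 1 ≤ N)
    (h2 : 2 ^ d ≤ S) (h3 : (p + 1) ^ N ≤ S) :
    p ^ 2 * (d ^ 2 * 96 ^ (N - 1)) ≤ 36 * Nat.log 2 p ^ 2 * (S - 1) := by
  set L := Nat.log 2 p with hL
  have hL12 : 12 ≤ L := Nat.le_log_of_pow_le (by norm_num) (by omega)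
  have hlt : p < 2 ^ (L + 1) := Nat.lt_pow_succ_log_self (by norm_num) p
  set j := max N (d / (L + 1)) with hj
  rcases Nat.lt_or_ge j 3 with hj3 | hj3
  · have hN2 : N ≤ 2 := by omega
    have hd2 : d < 3 * (L + 1) := by
      have : d / (L + 1) < 3 := by omega
      exact (Nat.div_lt_iff_lt_mul (by omega)).mp this
    have h96 : 96 ^ (N - 1) ≤ 96 := by
      calc 96 ^ (N - 1) ≤ 96 ^ 1 := Nat.pow_le_pow_right (by norm_num) (by omega)
        _ = 96 := pow_one _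
    have hp3 : p ^ 3 ≤ 4 * S := by
      calc p ^ 3 ≤ (2 ^ (L + 1)) ^ 3 := Nat.pow_le_pow_left hlt.le _
        _ = 4 * 2 ^ (3 * L + 1) := by rw [← pow_mul, show (L + 1) * 3 = (3 * L + 1) + 2 by ring, pow_add]; ring
        _ ≤ 4 * S := Nat.mul_le_mul_left _ ((Nat.pow_le_pow_right (by norm_num) (by omega)).trans h2)
    have hd9 : 9 * d ^ 2 ≤ 100 * L ^ 2 := by
      have : 3 * d ≤ 10 * L := by omega
      calc 9 * d ^ 2 = (3 * d) ^ 2 := by ring
        _ ≤ (10 * L) ^ 2 := Nat.pow_le_pow_left this 2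
        _ = 100 * L ^ 2 := by ring
    have hS1 : 9 * (p ^ 3) ≤ 36 * (S - 1) + 36 := by omega
    have key : 100 * p ^ 2 * 96 ≤ 9 * (36 * (S - 1)) := by
      have hp2 : p ^ 2 * 5000 ≤ p ^ 3 := by rw [pow_succ p 2]; exact Nat.mul_le_mul_left _ hp
      have : 25000000 ≤ p ^ 2 := by nlinarith
      omega
    have h9 : 9 * (p ^ 2 * (d ^ 2 * 96 ^ (N - 1))) ≤ 9 * (36 * L ^ 2 * (S - 1)) :=
      calc 9 * (p ^ 2 * (d ^ 2 * 96 ^ (N - 1))) = (9 * d ^ 2) * (p ^ 2 * 96 ^ (N - 1)) := by ring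
        _ ≤ (100 * L ^ 2) * (p ^ 2 * 96) :=
            Nat.mul_le_mul hd9 (Nat.mul_le_mul_left _ h96)
        _ = L ^ 2 * (100 * p ^ 2 * 96) := by ring
        _ ≤ L ^ 2 * (9 * (36 * (S - 1))) := Nat.mul_le_mul_left _ key
        _ = 9 * (36 * L ^ 2 * (S - 1)) := by ring
    omega
  · have hSj : p ^ j + 1 ≤ S := by
      rcases le_or_gt (d / (L + 1)) N with hle | hlt'
      · rw [hj, max_eq_left hle]
        have : p ^ N < (p + 1) ^ N := Nat.pow_lt_pow_left (by omega) (by omega)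
        omega
      · rw [hj, max_eq_right hlt'.le]
        have hjne : d / (L + 1) ≠ 0 := by omega
        have : p ^ (d / (L + 1)) < (2 ^ (L + 1)) ^ (d / (L + 1)) := Nat.pow_lt_pow_left hlt hjne
        have h4 : (2 ^ (L + 1)) ^ (d / (L + 1)) ≤ 2 ^ d := by
          rw [← pow_mul]; exact Nat.pow_le_pow_right (by norm_num) (Nat.mul_div_le d (L + 1))
        omega
    have hdj : d ≤ (j + 1) * (L + 1) := by
      have h1 : d < (d / (L + 1) + 1) * (L + 1) := by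
        rw [add_mul, one_mul]; exact Nat.lt_div_mul_add (by omega)
      exact h1.le.trans (Nat.mul_le_mul_right _ (by omega))
    have hd144 : 144 * d ^ 2 ≤ 169 * (j + 1) ^ 2 * L ^ 2 := by
      have : 12 * d ≤ 13 * ((j + 1) * L) := by nlinarith
      calc 144 * d ^ 2 = (12 * d) ^ 2 := by ring
        _ ≤ (13 * ((j + 1) * L)) ^ 2 := Nat.pow_le_pow_left this 2
        _ = 169 * (j + 1) ^ 2 * L ^ 2 := by ring
    have hmain : 144 * (p ^ 2 * (d ^ 2 * 96 ^ (N - 1))) ≤ 144 * (36 * L ^ 2 * (S - 1)) :=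
      calc 144 * (p ^ 2 * (d ^ 2 * 96 ^ (N - 1))) = (144 * d ^ 2) * (p ^ 2 * 96 ^ (N - 1)) := by ring
        _ ≤ (169 * (j + 1) ^ 2 * L ^ 2) * (p ^ 2 * 96 ^ (j - 1)) :=
            Nat.mul_le_mul hd144 (Nat.mul_le_mul_left _ (Nat.pow_le_pow_right (by norm_num) (by omega)))
        _ = (169 * (j + 1) ^ 2 * 96 ^ (j - 1)) * (p ^ 2 * L ^ 2) := by ring
        _ ≤ (5184 * p ^ (j - 2)) * (p ^ 2 * L ^ 2) := Nat.mul_le_mul_right _ (key_induction hp j hj3)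
        _ = 5184 * L ^ 2 * p ^ j := by
            have : p ^ j = p ^ (j - 2) * p ^ 2 := by rw [← pow_add]; congr 1; omega
            rw [this]; ring
        _ ≤ 5184 * L ^ 2 * (S - 1) := Nat.mul_le_mul_left _ (by omega)
        _ = 144 * (36 * L ^ 2 * (S - 1)) := by ring
    omega

/-- The estimate for an irreducible action on `p ^ a`, `a ≥ 2`, `p ≥ 96`. -/
theorem mid_range {p a : ℕ} (hp : 96 ≤ p) (ha : 2 ≤ a) :
    p ^ 2 * 96 ^ (a - 1) ≤ 36 * Nat.log 2 p ^ 2 * (p ^ a - 1) := by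
  have hL : 6 ≤ Nat.log 2 p := Nat.le_log_of_pow_le (by norm_num) (by omega)
  have h36 : 1296 ≤ 36 * Nat.log 2 p ^ 2 := by nlinarith
  obtain ⟨b, rfl⟩ := Nat.exists_eq_add_of_le ha
  rw [show 2 + b - 1 = b + 1 by omega, pow_succ 96, pow_add p]
  have h1 : 96 ^ b ≤ p ^ b := Nat.pow_le_pow_left hp _
  have hpos : 1 ≤ p ^ b := Nat.one_le_pow _ _ (by omega)
  have hp2 : 9216 ≤ p ^ 2 := by nlinarith
  have hbig : 2 ≤ p ^ 2 * p ^ b := by nlinarith
  calc p ^ 2 * (96 ^ b * 96) ≤ p ^ 2 * (p ^ b * 96) :=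
        Nat.mul_le_mul_left _ (Nat.mul_le_mul_right _ h1)
    _ = 96 * (p ^ 2 * p ^ b) := by ring
    _ ≤ 1296 * (p ^ 2 * p ^ b - 1) := by omega
    _ ≤ 36 * Nat.log 2 p ^ 2 * (p ^ 2 * p ^ b - 1) := Nat.mul_le_mul_right _ h36

/-- Tiny primes. -/
theorem tiny_range {p k : ℕ} (hp : 2 ≤ p) (hp42 : p ≤ 42) (hk : 4 ≤ k) :
    p ≤ 3 * Nat.log 2 p * k := by
  have hL1 : 1 ≤ Nat.log 2 p := prime_log_pos hp
  have hlt : p < 2 ^ (Nat.log 2 p + 1) := Nat.lt_pow_succ_log_self (by norm_num) p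
  have h : 3 * Nat.log 2 p * 4 ≤ 3 * Nat.log 2 p * k := Nat.mul_le_mul_left _ hk
  rcases Nat.lt_or_ge (Nat.log 2 p) 4 with h4 | h4
  · generalize Nat.log 2 p = L at *
    interval_cases L <;> omega
  · omega

end Cfsg.Agent.Lib.ClassLowerSolv
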