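import Mathlib
import Cfsg.Prelude.Def_Solvable
import Cfsg.Agent.Lib.Fitting.Nilpotent
import Cfsg.Agent.Lib.Supersolvable.MinNormal
import Cfsg.Agent.Lib.Core.Nilpotent
import Cfsg.Agent.Lib.ClassLowerSolv.Field
import Cfsg.Agent.Lib.ClassLowerSolv.Count
import Cfsg.Agent.Lib.ClassLowerSolv.Numeric

/-!
# `k(G) ≥ p / (3 log₂ p)` when `p` divides `|G : F(G)|`, `G` solvable
-/

set_option autoImplicit false
set_option linter.style.haveILetI false

namespace Cfsg.Agent.Lib.ClassLowerSolv

open Module

theorem exists_normal_sylow {G : Type*} [Group G] [Finite G] {p : ℕ} [Fact p.Prime]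
    (h : ¬ p ∣ (Cfsg.fittingSubgroup G).index) : ∃ P : Sylow p G, (P : Subgroup G).Normal := by
  set F := Cfsg.fittingSubgroup G with hF
  haveI : F.Normal := Subgroup.sSup_normal _ (fun N hN => hN.1)
  obtain ⟨P⟩ : Nonempty (Sylow p G) := inferInstance
  have hPF : (P : Subgroup G) ≤ F := by
    intro x hx
    rw [← QuotientGroup.eq_one_iff]
    obtain ⟨k, hk⟩ := P.isPGroup' ⟨x, hx⟩
    have hk' : x ^ p ^ k = 1 := congrArg Subtype.val hk
    have h1 : orderOf (x : G ⧸ F) ∣ p ^ k :=
      orderOf_dvd_of_pow_eq_one (by rw [← QuotientGroup.mk_pow, hk', QuotientGroup.mk_one])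
    have h2 : orderOf (x : G ⧸ F) ∣ F.index := orderOf_dvd_natCard _
    rw [← orderOf_eq_one_iff]
    exact Nat.eq_one_of_dvd_coprimes
      (Nat.Coprime.pow_left k ((Nat.Prime.coprime_iff_not_dvd Fact.out).mpr h)) h1 h2
  have hnil : Group.IsNilpotent F := Cfsg.Agent.Lib.Fitting.fittingSubgroup_isNilpotent
  have hn : (P.subtype hPF : Subgroup F).Normal :=
    (Group.isNilpotent_of_finite_tfae.out 0 3 rfl rfl).mp hnil p ‹_› (P.subtype hPF)
  haveI := (P.subtype hPF).characteristic_of_normal hn
  have hmap : ((P.subtype hPF : Subgroup F)).map F.subtype = (P : Subgroup G) := by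
    rw [Sylow.coe_subtype, Subgroup.map_subgroupOf_eq_of_le hPF]
  refine ⟨P, ?_⟩
  rw [← hmap]
  exact ConjAct.normal_of_characteristic_of_normal

theorem not_dvd_index_of_normal_sylow {G : Type*} [Group G] [Finite G] {p : ℕ} [Fact p.Prime]
    (P : Sylow p G) (hP : (P : Subgroup G).Normal) : ¬ p ∣ (Cfsg.fittingSubgroup G).index := by
  intro hd
  have hle : (P : Subgroup G) ≤ Cfsg.fittingSubgroup G :=
    le_sSup (show (P : Subgroup G) ∈ {N : Subgroup G | N.Normal ∧ Group.IsNilpotent N} from
      ⟨hP, P.isPGroup'.isNilpotent⟩)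
  exact P.not_dvd_index (hd.trans (Subgroup.index_dvd_of_le hle))

theorem classes_ge_of_commutative {K : Type*} [Group K] [Finite K]
    (h : ∀ a b : K, a * b = b * a) : Nat.card (ConjClasses K) = Nat.card K := by
  refine (Nat.card_congr (Equiv.ofBijective ConjClasses.mk ⟨fun a b hab => ?_, ConjClasses.mk_surjective⟩)).symm
  obtain ⟨c, hc⟩ := isConj_iff.mp (ConjClasses.mk_eq_mk_iff_isConj.mp hab)
  rw [← hc, h c a, mul_inv_cancel_right]

/-- A linear model over `ZMod r` of an action on an elementary abelian `r`-group. -/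
theorem exists_linear_model {V : Type*} [Group V] [Finite V] {r : ℕ} [Fact r.Prime]
    (hcomm : ∀ a b : V, a * b = b * a) (hexp : ∀ v : V, v ^ r = 1) :
    ∃ n : ℕ, Nat.card V = r ^ n ∧ ∃ (Mh : MulAut V →* Matrix (Fin n) (Fin n) (ZMod r))
      (e : V → Fin n → ZMod r), Function.Injective Mh ∧ Function.Bijective e ∧ e 1 = 0 ∧
        ∀ α v, e (α v) = (Mh α).mulVec (e v) := by
  letI : CommGroup V := { (inferInstance : Group V) with mul_comm := hcomm }
  have hsm : ∀ x : Additive V, r • x = 0 := fun x => by
    apply Additive.toMul.injective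
    rw [toMul_nsmul, toMul_zero]
    exact hexp _
  letI : Module (ZMod r) (Additive V) := AddCommGroup.zmodModule (n := r) (G := Additive V) hsm
  haveI : FiniteDimensional (ZMod r) (Additive V) := Module.Finite.of_finite
  set n := finrank (ZMod r) (Additive V)
  let b : Basis (Fin n) (ZMod r) (Additive V) := Module.finBasisOfFinrankEq (ZMod r) (Additive V) rfl
  refine ⟨n, ?_, (LinearMap.toMatrixAlgEquiv b).toAlgHom.toRingHom.toMonoidHom.comp
    { toFun := fun α : MulAut V => (MulEquiv.toAdditive α).toAddMonoidHom.toZModLinearMap r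
      map_one' := LinearMap.ext fun x => rfl
      map_mul' := fun α β => LinearMap.ext fun x => rfl },
    fun v => b.equivFun (Additive.ofMul v), ?_, ?_, ?_, ?_⟩
  · have h := Module.natCard_eq_pow_finrank (K := ZMod r) (V := Additive V)
    rw [Nat.card_zmod] at h
    rw [← h]
    exact Nat.card_congr Additive.ofMul
  · intro α β h
    have h' : (MulEquiv.toAdditive α).toAddMonoidHom.toZModLinearMap r =
        (MulEquiv.toAdditive β).toAddMonoidHom.toZModLinearMap r :=
      (LinearMap.toMatrixAlgEquiv b).injective h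
    exact MulEquiv.ext fun v => congrArg Additive.toMul (LinearMap.congr_fun h' (Additive.ofMul v))
  · exact b.equivFun.bijective.comp Additive.ofMul.bijective
  · exact map_zero b.equivFun
  · intro α v
    have h := LinearMap.toMatrix_mulVec_repr b b
      ((MulEquiv.toAdditive α).toAddMonoidHom.toZModLinearMap r) (Additive.ofMul v)
    exact h.symm

universe u

/-- The core case: `H` acts faithfully and irreducibly on `V`, `p ∣ |H|`, and a Sylow `p`-subgroup
of `H` is normal. -/
theorem core_bound {H : Type u} [Group H] [Finite H] [Group.IsSolvable H] {V : Type u} [Group V]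
    [Finite V] {r p : ℕ} [hr : Fact r.Prime] [hp : Fact p.Prime]
    (hcomm : ∀ a b : V, a * b = b * a) (hexp : ∀ v : V, v ^ r = 1) (hV : Nontrivial V)
    (θ : H →* MulAut V) (hθ : Function.Injective θ)
    (hirr : ∀ Z : Subgroup V, (∀ h : H, ∀ z ∈ Z, θ h z ∈ Z) → Z = ⊥ ∨ Z = ⊤)
    (hpH : p ∣ Nat.card H) (P : Sylow p H) (hP : (P : Subgroup H).Normal)
    {Y k : ℕ} (hY : Nat.card V ≤ Y * Nat.card H + 1)
    (hk : Y + Nat.card (ConjClasses H) ≤ k) : p ≤ 3 * Nat.log 2 p * k := by
  classical
  haveI := hP
  have hp2 : 2 ≤ p := hp.out.two_le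
  have hV1 : 2 ≤ Nat.card V := Finite.one_lt_card
  have hY1 : 1 ≤ Y := by
    rcases Nat.eq_zero_or_pos Y with h | h
    · subst h; omega
    · exact h
  -- no normal `r`-subgroups
  have hVr : IsPGroup r V := fun v => ⟨1, by rw [pow_one]; exact hexp v⟩
  have hrV : r ∣ Nat.card V := by
    obtain ⟨v, hv⟩ := exists_ne (1 : V)
    have := orderOf_eq_prime (hexp v) hv
    exact this ▸ orderOf_dvd_natCard v
  have hnor : ∀ A : Subgroup H, A.Normal → IsPGroup r A → A = ⊥ := by
    intro A hAn hA
    letI : MulAction A V :=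
      { smul := fun a v => θ (a : H) v
        one_smul := fun v => by show θ ((1 : A) : H) v = v; simp
        mul_smul := fun a b v => by show θ ((a * b : A) : H) v = _; simp; rfl }
    have h1 : (1 : V) ∈ MulAction.fixedPoints A V := fun a => map_one (θ (a : H))
    obtain ⟨w, hw, hw1⟩ := hA.exists_fixed_point_of_prime_dvd_card_of_fixed_point V hrV h1
    let Z : Subgroup V :=
      { carrier := {v | ∀ a ∈ A, θ a v = v}
        one_mem' := fun a _ => map_one _
        mul_mem' := fun {x y} hx hy a ha => by rw [map_mul, hx a ha, hy a ha]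
        inv_mem' := fun {x} hx a ha => by rw [map_inv, hx a ha] }
    have hinv : ∀ h : H, ∀ z ∈ Z, θ h z ∈ Z := fun h z hz a ha => by
      have h2 := hz (h⁻¹ * a * h) (by simpa using hAn.conj_mem a ha h⁻¹)
      rw [map_mul, map_mul, MulAut.mul_apply, MulAut.mul_apply] at h2
      have h3 := congrArg (θ h) h2
      rwa [← MulAut.mul_apply, ← map_mul, mul_inv_cancel, map_one, MulAut.one_apply] at h3
    rcases hirr Z hinv with h | h
    · have hwZ : w ∈ Z := fun a ha => hw ⟨a, ha⟩
      rw [h, Subgroup.mem_bot] at hwZ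
      exact absurd hwZ hw1.symm
    · rw [Subgroup.eq_bot_iff_forall]
      intro a ha
      refine hθ ?_
      rw [map_one]
      exact MulEquiv.ext fun v => (h ▸ Subgroup.mem_top v : v ∈ Z) a ha
  have hPne : (P : Subgroup H) ≠ ⊥ := P.ne_bot_of_dvd_card hpH
  have hpr : p ≠ r := fun h => hPne (hnor _ hP (h ▸ P.isPGroup'))
  -- a minimal normal subgroup inside `P`
  obtain ⟨A, hAn, hA, hAP, hAmin⟩ := Components.exists_minimal_normal_le hP hPne
  haveI := hAn
  haveI hAc : IsMulCommutative A := Supersolvable.isMulCommutative_of_minimal hA hAmin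
  obtain ⟨p', hp', hpg', hexpA'⟩ := Supersolvable.exists_prime_exponent hA hAmin
  have hAp : IsPGroup p A := P.isPGroup'.to_le hAP
  obtain ⟨a, ha0, hcardA⟩ := Supersolvable.isPGroup_prime_dvd hAp hA
  have hpp' : p' = p := by
    haveI := Fact.mk hp'
    obtain ⟨b, hb0, hb⟩ := Supersolvable.isPGroup_prime_dvd hpg' hA
    have : p' ∣ p ^ a := by rw [← hcardA, hb]; exact dvd_pow_self p' (by omega)
    exact (Nat.prime_dvd_prime_iff_eq hp' hp.out).mp (hp'.dvd_of_dvd_pow this)
  subst hpp'
  have hexpA : ∀ x : A, x ^ p' = 1 := fun x => Subtype.ext (by simpa using hexpA' _ x.2)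
  haveI : Nontrivial A := (Subgroup.nontrivial_iff_ne_bot A).mpr hA
  set ψ : H →* MulAut A := MulAut.conjNormal with hψ
  set C2 := ψ.ker with hC2
  have hC2mem : ∀ h : H, h ∈ C2 ↔ ∀ x ∈ A, h * x = x * h := by
    intro h
    rw [hC2, MonoidHom.mem_ker]
    constructor
    · intro hh x hx
      have := congrArg (fun e : MulAut A => ((e ⟨x, hx⟩ : A) : H)) hh
      simp only [hψ, MulAut.conjNormal_apply, MulAut.one_apply] at this
      exact mul_inv_eq_iff_eq_mul.mp this
    · intro hh
      refine MulEquiv.ext fun x => Subtype.ext ?_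
      rw [hψ, MulAut.conjNormal_apply, MulAut.one_apply, mul_inv_eq_iff_eq_mul]
      exact hh x x.2
  have hAC2 : A ≤ C2 := fun x hx => (hC2mem x).mpr fun y hy =>
    congrArg Subtype.val (mul_comm' (⟨x, hx⟩ : A) ⟨y, hy⟩)
  have hcen2 : ∀ x ∈ A, ∀ c ∈ C2, c * x = x * c := fun x hx c hc => (hC2mem c).mp hc x hx
  obtain ⟨Y2, hY2, hk2⟩ := classes_split A C2 hAC2 hcen2
  set K := H ⧸ C2
  replace hk2 : Y2 + Nat.card (ConjClasses K) ≤ Nat.card (ConjClasses H) := hk2
  have hKcard : C2.index = Nat.card K := Subgroup.index_eq_card C2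
  rw [hcardA] at hY2
  have hL1 : 1 ≤ Nat.log 2 p' := prime_log_pos hp2
  have hψK := QuotientGroup.kerLift_injective ψ
  by_cases ha1 : a = 1
  · -- `|A| = p`
    subst ha1
    rw [pow_one] at hcardA hY2
    set d := C2.index with hd
    have hd1 : 1 ≤ d := Nat.pos_of_ne_zero Subgroup.index_ne_zero_of_finite
    have hdp : d ≤ p' - 1 := by
      rw [hKcard]
      -- automorphisms of a group of prime order
      haveI : IsCyclic A := isCyclic_of_prime_card hcardA
      refine (Nat.card_le_card_of_injective _ hψK).trans (le_of_eq ?_)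
      rw [IsCyclic.card_mulAut, hcardA, Nat.totient_prime hp.out]
    have hKcl : Nat.card (ConjClasses K) = d := by
      rw [classes_ge_of_commutative, ← hKcard]
      haveI : IsCyclic A := isCyclic_of_prime_card hcardA
      obtain ⟨g, hg⟩ := IsCyclic.exists_generator (α := A)
      intro x y
      refine hψK ?_
      rw [map_mul, map_mul]
      refine MulEquiv.ext fun z => ?_
      obtain ⟨m, rfl⟩ := Subgroup.mem_zpowers_iff.mp (hg z)
      rw [map_zpow, map_zpow]
      congr 1
      set α := QuotientGroup.kerLift ψ x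
      set β := QuotientGroup.kerLift ψ y
      obtain ⟨i, hi⟩ := Subgroup.mem_zpowers_iff.mp (hg (α g))
      obtain ⟨j, hj⟩ := Subgroup.mem_zpowers_iff.mp (hg (β g))
      rw [MulAut.mul_apply, MulAut.mul_apply, ← hj, map_zpow, ← hi, map_zpow, ← hj, ← zpow_mul,
        ← zpow_mul, mul_comm]
    rw [hKcl] at hk2
    have hY2' : p' - 1 ≤ Y2 * d := by omega
    by_cases hsmall : d ≤ 3 * Nat.log 2 p'
    · calc p' ≤ Y2 * d + 1 := by omega
        _ ≤ d * k := by nlinarith
        _ ≤ 3 * Nat.log 2 p' * k := Nat.mul_le_mul_right _ hsmall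
    push Not at hsmall
    by_cases h5 : p' < 5000
    · exact sqrt_range hp2 h5 hY2' (by omega)
    push Not at h5
    -- the field argument
    obtain ⟨a0, ha0'⟩ := exists_ne (1 : A)
    have hord : orderOf (a0 : H) = p' := by
      rw [Subgroup.orderOf_coe]
      exact orderOf_eq_prime (hexpA a0) ha0'
    have hzp : Subgroup.zpowers (a0 : H) = A := by
      refine Subgroup.eq_of_le_of_card_ge ?_ (by rw [Nat.card_zpowers, hord, hcardA])
      rw [Subgroup.zpowers_le]; exact a0.2
    haveI : (Subgroup.zpowers (a0 : H)).Normal := by rw [hzp]; exact hAn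
    have hcen : Subgroup.centralizer ({(a0 : H)} : Set H) = C2 := by
      ext h
      rw [Subgroup.mem_centralizer_singleton_iff, hC2mem]
      constructor
      · intro hh x hx
        rw [← hzp] at hx
        obtain ⟨m, rfl⟩ := Subgroup.mem_zpowers_iff.mp hx
        exact ((show Commute h (a0 : H) from hh).zpow_right m).eq
      · exact fun hh => hh _ a0.2
    obtain ⟨n, hn, Mh, e, hMh, he, he1, heq⟩ := exists_linear_model hcomm hexp
    have hn0 : 0 < n := by
      rcases Nat.eq_zero_or_pos n with h | h
      · subst h; simp at hn; omega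
      · exact h
    have hfix : ∀ v, (Mh.comp θ (a0 : H)).mulVec v = v → v = 0 := by
      intro v hv
      obtain ⟨w, rfl⟩ := he.2 v
      rw [MonoidHom.comp_apply, ← heq] at hv
      let Z : Subgroup V :=
        { carrier := {v | θ (a0 : H) v = v}
          one_mem' := map_one _
          mul_mem' := fun {x y} hx hy => by
            show θ (a0 : H) (x * y) = x * y
            rw [map_mul, hx, hy]
          inv_mem' := fun {x} hx => by
            show θ (a0 : H) x⁻¹ = x⁻¹
            rw [map_inv, hx] }
      have hinv : ∀ h : H, ∀ z ∈ Z, θ h z ∈ Z := by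
        intro h z hz
        show θ (a0 : H) (θ h z) = θ h z
        have hmem : h⁻¹ * (a0 : H) * h ∈ Subgroup.zpowers (a0 : H) := by
          simpa using (inferInstance : (Subgroup.zpowers (a0 : H)).Normal).conj_mem _
            (Subgroup.mem_zpowers _) h⁻¹
        obtain ⟨m, hm⟩ := Subgroup.mem_zpowers_iff.mp hmem
        have hfixm : θ ((a0 : H) ^ m) z = z := by
          rw [map_zpow]
          exact MulAction.mem_stabilizer_iff.mp (Subgroup.zpow_mem (MulAction.stabilizer (MulAut V) z) hz m)
        rw [← MulAut.mul_apply, ← map_mul, show (a0 : H) * h = h * (a0 : H) ^ m by rw [hm]; group,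
          map_mul, MulAut.mul_apply, hfixm]
      rcases hirr Z hinv with h | h
      · have : w ∈ Z := he.1 hv
        rw [h, Subgroup.mem_bot] at this
        rw [this, he1]
      · exfalso
        refine ha0' (Subtype.ext (hθ ?_))
        rw [Subgroup.coe_one, map_one]
        exact MulEquiv.ext fun x => (h ▸ Subgroup.mem_top x : x ∈ Z)
    set C := Subgroup.centralizer ({(a0 : H)} : Set H) with hCdef
    obtain ⟨hdn, N, hN1, hpN, B, hBn, hBc, hB⟩ := exists_field_bound hpr hn0 (Mh.comp θ)
      (hMh.comp hθ) hnor (a0 : H) hord hfix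
    have hCd : C.index = d := by rw [hcen]
    set g := (Subgroup.centralizer (B : Set C)).index with hg
    have hX : Nat.card B ≤ Nat.card (ConjClasses H) * (g * d) := by
      have h := card_le_classNumber_mul (B.map C.subtype)
        ((Subgroup.centralizer (B : Set C)).map C.subtype) ?_
      · rwa [Subgroup.card_map_of_injective C.subtype_injective, Subgroup.index_map_subtype,
          hCd] at h
      · rintro _ ⟨x, hx, rfl⟩ _ ⟨c, hc, rfl⟩
        exact congrArg Subtype.val (Subgroup.mem_centralizer_iff.mp hc x hx).symm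
    have hH : Nat.card H = d * (B.index * Nat.card B) := by
      rw [B.index_mul_card, ← hCd, C.index_mul_card]
    refine le_of_product (D := d ^ 2 * (B.index * g)) (M := Nat.card V - 1)
      (X := Nat.card (ConjClasses H)) (Y := Y) (by omega) ?_ ?_ (by omega)
    · calc Nat.card V - 1 ≤ Y * Nat.card H := by omega
        _ = Y * d * B.index * Nat.card B := by rw [hH]; ring
        _ ≤ Y * d * B.index * (Nat.card (ConjClasses H) * (g * d)) := Nat.mul_le_mul_left _ hX
        _ = d ^ 2 * (B.index * g) * (Nat.card (ConjClasses H) * Y) := by ring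
    · refine le_trans (Nat.mul_le_mul_left _ (Nat.mul_le_mul_left _ hB)) ?_
      rw [hCd] at hdn
      rw [hn] at *
      refine big_range h5 hsmall hN1 ?_ hpN
      exact (Nat.pow_le_pow_right (by norm_num) hdn).trans (Nat.pow_le_pow_left hr.out.two_le n)
  · -- `|A| = p^a`, `a ≥ 2`
    have ha2 : 2 ≤ a := by omega
    have hpA : p' ^ 2 ≤ p' ^ a := Nat.pow_le_pow_right (by omega) ha2
    have hp4 : 4 ≤ p' ^ 2 := by nlinarith
    have hY21 : 1 ≤ Y2 := by
      rcases Nat.eq_zero_or_pos Y2 with h | h
      · subst h; omega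
      · exact h
    have hPC2 : (P : Subgroup H) ≤ C2 := by
      -- `A` is central in `P`
      set Z := A ⊓ Subgroup.centralizer ((P : Subgroup H) : Set H) with hZ
      haveI : Z.Normal := by rw [hZ]; infer_instance
      rcases hAmin Z inferInstance inf_le_left with h | h
      · exfalso
        haveI : Group.IsNilpotent (P : Subgroup H) := P.isPGroup'.isNilpotent
        have hne : A.subgroupOf (P : Subgroup H) ≠ ⊥ := by
          rw [Ne, Subgroup.subgroupOf_eq_bot, disjoint_iff, inf_eq_left.mpr hAP]
          exact hA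
        obtain ⟨z, hz, hz1⟩ := (Subgroup.bot_or_exists_ne_one _).resolve_left
          (Nilp.inf_center_ne_bot_of_normal hne)
        have hzZ : (z : H) ∈ Z := ⟨hz.1, Subgroup.mem_centralizer_iff.mpr fun y hy =>
          congrArg Subtype.val (Subgroup.mem_center_iff.mp hz.2 ⟨y, hy⟩)⟩
        rw [h, Subgroup.mem_bot] at hzZ
        exact hz1 (Subtype.ext hzZ)
      · intro x hx
        rw [hC2mem]
        intro y hy
        rw [← h] at hy
        exact Subgroup.mem_centralizer_iff.mp hy.2 x hx
    have hpK : ¬ p' ∣ Nat.card K := by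
      rw [← hKcard]
      exact fun h => P.not_dvd_index (h.trans (Subgroup.index_dvd_of_le hPC2))
    haveI : Nontrivial K := by
      by_contra hK
      rw [not_nontrivial_iff_subsingleton] at hK
      have htop : C2 = ⊤ := by
        rw [← Subgroup.index_eq_one, hKcard, Nat.card_of_subsingleton (1 : K)]
      obtain ⟨x0, hx0⟩ := exists_ne (1 : A)
      have hcx : ∀ h : H, ∀ x ∈ A, h * x = x * h := fun h =>
        (hC2mem h).mp (htop ▸ Subgroup.mem_top h)
      have hn : (Subgroup.zpowers (x0 : H)).Normal := ⟨fun y hy g => by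
        obtain ⟨m, rfl⟩ := Subgroup.mem_zpowers_iff.mp hy
        rw [hcx g _ (A.zpow_mem x0.2 m), mul_inv_cancel_right]
        exact Subgroup.zpow_mem _ (Subgroup.mem_zpowers _) m⟩
      rcases hAmin _ hn (Subgroup.zpowers_le.mpr x0.2) with h | h
      · rw [Subgroup.zpowers_eq_bot] at h
        exact hx0 (Subtype.ext h)
      · have h1 := congrArg (fun S : Subgroup H => Nat.card S) h
        simp only [Nat.card_zpowers, Subgroup.orderOf_coe, hcardA] at h1
        rw [orderOf_eq_prime (hexpA x0) hx0] at h1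
        nlinarith
    have hkK : 2 ≤ Nat.card (ConjClasses K) := two_le_classes
    rw [hKcard] at hY2
    by_cases h42 : p' ≤ 42
    · exact tiny_range hp2 h42 (by omega)
    by_cases h96 : p' < 96
    · have hL5 : 5 ≤ Nat.log 2 p' := Nat.le_log_of_pow_le (by norm_num) (by omega)
      rcases Nat.lt_or_ge (Nat.card (ConjClasses K)) 5 with h5 | h5
      · have h42K := card_le_of_classes_le_four (G := K) (by omega)
        have h1 : p' ^ 2 ≤ Y2 * 42 + 1 := hpA.trans (hY2.trans (by nlinarith))
        have h2 : 15 * k ≤ 3 * Nat.log 2 p' * k := Nat.mul_le_mul_right _ (by omega)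
        have h3 : 43 * p' ≤ p' ^ 2 := by nlinarith
        omega
      · have h2 : 15 * k ≤ 3 * Nat.log 2 p' * k := Nat.mul_le_mul_right _ (by omega)
        omega
    push Not at h96
    -- the linear bound for `K` on `A`
    haveI hKsol : Group.IsSolvable K := Group.isSolvable_of_surjective (QuotientGroup.mk'_surjective C2)
    obtain ⟨n, hn, Mh, e, hMh, -, -, -⟩ := exists_linear_model (V := A)
      (fun x y => mul_comm' x y) hexpA
    have hna : n = a := Nat.pow_right_injective hp2 (hn.symm.trans hcardA)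
    let Fb := AlgebraicClosure (ZMod p')
    haveI : CharP Fb p' := charP_of_injective_algebraMap (algebraMap (ZMod p') Fb).injective p'
    let ρ : K →* Module.End Fb (Fin n → Fb) :=
      (Matrix.toLinAlgEquiv' : Matrix (Fin n) (Fin n) Fb ≃ₐ[Fb] _).toAlgHom.toRingHom.toMonoidHom.comp
        (((algebraMap (ZMod p') Fb).mapMatrix).toMonoidHom.comp (Mh.comp (QuotientGroup.kerLift ψ)))
    have hρ : Function.Injective ρ := fun x y hxy => by
      refine hψK (hMh ?_)
      exact Matrix.map_injective (algebraMap (ZMod p') Fb).injective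
        ((Matrix.toLinAlgEquiv' : Matrix (Fin n) (Fin n) Fb ≃ₐ[Fb] _).injective hxy)
    obtain ⟨B, hBn, hBc, hB⟩ := exists_abelian_normal_bound ρ hρ fun D hD hDc => by
      rw [Ne, CharP.cast_eq_zero_iff Fb p']
      exact fun h => hpK (h.trans (Subgroup.card_subgroup_dvd_card D))
    rw [Module.finrank_fin_fun, hna] at hB
    set g := (Subgroup.centralizer (B : Set K)).index
    have hX := card_le_classNumber_mul B (Subgroup.centralizer (B : Set K)) fun x hx c hc =>
      (Subgroup.mem_centralizer_iff.mp hc x hx).symm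
    refine le_of_product (D := B.index * g) (M := p' ^ a - 1)
      (X := Nat.card (ConjClasses K)) (Y := Y2) (by omega) ?_ ?_ (by omega)
    · calc p' ^ a - 1 ≤ Y2 * Nat.card K := by omega
        _ = Y2 * B.index * Nat.card B := by rw [← B.index_mul_card]; ring
        _ ≤ Y2 * B.index * (Nat.card (ConjClasses K) * g) := Nat.mul_le_mul_left _ hX
        _ = B.index * g * (Nat.card (ConjClasses K) * Y2) := by ring
    · exact (Nat.mul_le_mul_left _ hB).trans (mid_range h96 ha2)

theorem class_bound_aux {p : ℕ} [hp : Fact p.Prime] : ∀ N : ℕ, ∀ (G : Type u) [Group G] [Finite G],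
    Nat.card G = N → Group.IsSolvable G → p ∣ (Cfsg.fittingSubgroup G).index →
      p ≤ 3 * Nat.log 2 p * Nat.card (ConjClasses G) := by
  intro N
  induction N using Nat.strong_induction_on with
  | _ N ih => ?_
  intro G _ _ hN hsol hdvd
  haveI := hsol
  classical
  haveI : Nontrivial G := by
    by_contra h
    rw [not_nontrivial_iff_subsingleton] at h
    rw [Subgroup.index_eq_one.mpr (Subsingleton.elim _ _)] at hdvd
    exact hp.out.ne_one (Nat.dvd_one.mp hdvd)
  obtain ⟨V, hVn, hV, hVc, hVmin, r, hr, hVr, hVexp⟩ :=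
    Supersolvable.exists_minimal_normal_solvable G
  haveI := hVn
  haveI := Fact.mk hr
  have hquot : ∀ Q : Subgroup G, ∀ [Q.Normal], Q ≠ ⊥ → p ∣ (Cfsg.fittingSubgroup (G ⧸ Q)).index →
      p ≤ 3 * Nat.log 2 p * Nat.card (ConjClasses G) := by
    intro Q _ hQ hd
    have hlt : Nat.card (G ⧸ Q) < N := hN ▸ Supersolvable.card_quotient_lt hQ
    exact (ih _ hlt (G ⧸ Q) rfl (Group.isSolvable_of_surjective (QuotientGroup.mk'_surjective Q))
      hd).trans (Nat.mul_le_mul_left _ (classes_quotient_le Q))
  by_cases hq : p ∣ (Cfsg.fittingSubgroup (G ⧸ V)).index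
  · exact hquot V hV hq
  set θ : G →* MulAut V := MulAut.conjNormal with hθ
  set C := θ.ker with hC
  have hCmem : ∀ g : G, g ∈ C ↔ ∀ x ∈ V, g * x = x * g := by
    intro g
    rw [hC, MonoidHom.mem_ker]
    constructor
    · intro hh x hx
      have := congrArg (fun e : MulAut V => ((e ⟨x, hx⟩ : V) : G)) hh
      simp only [hθ, MulAut.conjNormal_apply, MulAut.one_apply] at this
      exact mul_inv_eq_iff_eq_mul.mp this
    · intro hh
      refine MulEquiv.ext fun x => Subtype.ext ?_
      rw [hθ, MulAut.conjNormal_apply, MulAut.one_apply, mul_inv_eq_iff_eq_mul]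
      exact hh x x.2
  have hVC : V ≤ C := fun x hx => (hCmem x).mpr fun y hy =>
    congrArg Subtype.val (mul_comm' (⟨x, hx⟩ : V) ⟨y, hy⟩)
  have hC0 : C ≠ ⊥ := fun h => hV (le_bot_iff.mp (h ▸ hVC))
  by_cases hq2 : p ∣ (Cfsg.fittingSubgroup (G ⧸ C)).index
  · exact hquot C hC0 hq2
  have hpC : p ∣ C.index := by
    by_contra hnot
    obtain ⟨Pb, hPb⟩ := exists_normal_sylow hq
    obtain ⟨P, hP⟩ := Sylow.mapSurjective_surjective (QuotientGroup.mk'_surjective V) p Pb
    have hPbar : ((P : Subgroup G).map (QuotientGroup.mk' V)) = (Pb : Subgroup (G ⧸ V)) := by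
      rw [← hP]; rfl
    have hPC : (P : Subgroup G) ≤ C := by
      intro x hx
      rw [← QuotientGroup.eq_one_iff]
      obtain ⟨k, hk⟩ := P.isPGroup' ⟨x, hx⟩
      have hk' : x ^ p ^ k = 1 := congrArg Subtype.val hk
      have h1 : orderOf (x : G ⧸ C) ∣ p ^ k :=
        orderOf_dvd_of_pow_eq_one (by rw [← QuotientGroup.mk_pow, hk', QuotientGroup.mk_one])
      have h2 : orderOf (x : G ⧸ C) ∣ C.index := orderOf_dvd_natCard _
      rw [← orderOf_eq_one_iff]
      exact Nat.eq_one_of_dvd_coprimes
        (Nat.Coprime.pow_left k ((Nat.Prime.coprime_iff_not_dvd Fact.out).mpr hnot)) h1 h2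
    have hPV : ((P : Subgroup G) ⊔ V).Normal := by
      have h := hPb.comap (QuotientGroup.mk' V)
      rw [← hPbar, QuotientGroup.comap_map_mk', sup_comm] at h
      exact h
    set T := (P : Subgroup G) ⊔ V with hT
    have hle : (P : Subgroup G) ≤ T := le_sup_left
    have hTn : T ≤ Subgroup.normalizer ((P : Subgroup G) : Set G) := by
      refine sup_le Subgroup.le_normalizer fun v hv => ?_
      rw [Subgroup.mem_normalizer_iff]
      intro x
      constructor
      · intro hx
        rwa [← (hCmem x).mp (hPC hx) v hv, mul_inv_cancel_right]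
      · intro hx
        have h1 := (hCmem _).mp (hPC hx) v hv
        have : v * x * v⁻¹ = x := by
          have h2 : v * x = v * (v * x * v⁻¹) := by rw [← h1]; group
          exact (mul_left_cancel h2).symm
        rwa [this] at hx
    have hn : (P.subtype hle : Subgroup T).Normal := by
      rw [Sylow.coe_subtype]
      exact Subgroup.normal_subgroupOf_iff hle |>.mpr fun x y hx hy =>
        (Subgroup.mem_normalizer_iff.mp (hTn hy) x).mp hx
    haveI := (P.subtype hle).characteristic_of_normal hn
    haveI := hPV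
    have hPn : (P : Subgroup G).Normal := by
      have hmap : ((P.subtype hle : Subgroup T)).map T.subtype = (P : Subgroup G) := by
        rw [Sylow.coe_subtype, Subgroup.map_subgroupOf_eq_of_le hle]
      rw [← hmap]
      exact ConjAct.normal_of_characteristic_of_normal
    exact not_dvd_index_of_normal_sylow P hPn hdvd
  obtain ⟨PH, hPH⟩ := exists_normal_sylow hq2
  obtain ⟨Y, hY, hk⟩ := classes_split V C hVC fun x hx c hc => (hCmem c).mp hc x hx
  haveI : Group.IsSolvable (G ⧸ C) := Group.isSolvable_of_surjective (QuotientGroup.mk'_surjective C)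
  rw [Subgroup.index_eq_card] at hY hpC
  refine core_bound (H := G ⧸ C) (V := V) (r := r) (fun a b => mul_comm' a b)
    (fun v => Subtype.ext (by simpa using hVexp _ v.2)) ((Subgroup.nontrivial_iff_ne_bot V).mpr hV)
    (QuotientGroup.kerLift θ) (QuotientGroup.kerLift_injective θ) ?_ hpC PH hPH hY hk
  intro Z hZ
  have hn : (Z.map V.subtype).Normal := ⟨by
    rintro _ ⟨z, hz, rfl⟩ g
    refine ⟨θ g z, hZ (g : G ⧸ C) z hz, ?_⟩
    simp [hθ]⟩
  rcases hVmin _ hn (Subgroup.map_subtype_le Z) with h | h
  · left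
    exact (Subgroup.map_eq_bot_iff_of_injective _ V.subtype_injective).mp h
  · right
    refine Subgroup.map_injective V.subtype_injective ?_
    rw [h, ← MonoidHom.range_eq_map, Subgroup.range_subtype]

/-- In a solvable group with `p ∣ |G : F(G)|` there are at least `p / (3 log₂ p)` classes. -/
theorem class_bound {G : Type u} [Group G] [Finite G] (hG : Group.IsSolvable G) {p : ℕ}
    [Fact p.Prime] (hp : p ∣ (Cfsg.fittingSubgroup G).index) :
    p ≤ 3 * Nat.log 2 p * Nat.card (ConjClasses G) :=
  class_bound_aux _ G rfl hG hp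

end Cfsg.Agent.Lib.ClassLowerSolv
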