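import Mathlib
import Cfsg.Agent.Lib.ClassLowerSolv.Perm

/-!
# Sharper order bound for solvable permutation groups
-/

set_option autoImplicit false
set_option linter.style.haveILetI false

namespace Cfsg.Agent.Lib.ClassLowerSolv

open MulAction Pointwise

/-- A bound for the order of a solvable permutation group of degree `s`. -/
def permBound (s : ℕ) : ℕ :=
  if s ≤ 4 then s.factorial else if s = 6 then 81 else 3 ^ (s - 1)

theorem one_le_permBound (s : ℕ) : 1 ≤ permBound s := by
  unfold permBound
  split_ifs with h h'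
  · exact s.factorial_pos
  · norm_num
  · exact Nat.one_le_pow _ _ (by norm_num)

theorem permBound_le_three_pow {s : ℕ} (hs : 1 ≤ s) : permBound s ≤ 3 ^ (s - 1) := by
  unfold permBound
  split_ifs with h h'
  · interval_cases s <;> decide
  · subst h'; norm_num
  · exact le_rfl

theorem permBound_mul {a b : ℕ} (ha : 0 < a) (hb : 0 < b) :
    permBound a * permBound b ≤ permBound (a + b) := by
  by_cases h : a + b ≤ 6
  · have : a ≤ 5 := by omega
    have : b ≤ 5 := by omega
    interval_cases a <;> interval_cases b <;> first | omega | decide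
  · refine (Nat.mul_le_mul (permBound_le_three_pow ha) (permBound_le_three_pow hb)).trans ?_
    rw [permBound, if_neg (by omega), if_neg (by omega), ← pow_add]
    exact Nat.pow_le_pow_right (by norm_num) (by omega)

theorem permBound_blocks {b o : ℕ} (hb : 2 ≤ b) (ho : 2 ≤ o) :
    permBound o * permBound b ^ o ≤ permBound (b * o) := by
  by_cases h : b * o ≤ 6
  · have h1 : b ≤ 3 := by nlinarith
    have h2 : o ≤ 3 := by nlinarith
    interval_cases b <;> interval_cases o <;> first | omega | decide
  · refine (Nat.mul_le_mul (permBound_le_three_pow (by omega : 1 ≤ o))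
      (Nat.pow_le_pow_left (permBound_le_three_pow (by omega : 1 ≤ b)) o)).trans ?_
    rw [permBound, if_neg (by omega), if_neg (by omega), ← pow_mul, ← pow_add]
    refine Nat.pow_le_pow_right (by norm_num) ?_
    obtain ⟨c, rfl⟩ := Nat.exists_eq_add_of_le hb
    rw [show 2 + c - 1 = 1 + c from by omega]
    have : (2 + c) * o = (1 + c) * o + o := by ring
    omega

theorem sq_log_le_three : ∀ L : ℕ, 5 ≤ L → 2 * (L + 1) ^ 2 ≤ 3 * (2 ^ L - 1) := by
  intro L hL
  induction L, hL using Nat.le_induction with
  | base => norm_num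
  | succ L hL ih =>
    have h2 : 32 ≤ 2 ^ L := le_trans (by norm_num) (Nat.pow_le_pow_right (by norm_num) hL)
    have h3 : L - 1 < 2 ^ (L - 1) := Nat.lt_two_pow_self
    have h4 : 2 ^ L = 2 ^ (L - 1) * 2 := by rw [← pow_succ]; congr 1; omega
    rw [pow_succ 2 L, show (L + 1 + 1) ^ 2 = (L + 1) ^ 2 + (2 * L + 3) from by ring]
    omega

theorem permBound_affine {s k : ℕ} (hpp : ∃ p d : ℕ, p.Prime ∧ s = p ^ d) (hk : 2 ^ k ≤ s) :
    s * (s - 1).descFactorial k ≤ permBound s := by
  rcases Nat.lt_or_ge s 32 with h | h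
  · have hk4 : k ≤ 4 := by
      by_contra hc
      have : 2 ^ 5 ≤ 2 ^ k := Nat.pow_le_pow_right (by norm_num) (by omega)
      omega
    have h6 : s ≠ 6 := by
      rintro rfl
      obtain ⟨p, d, hp, hpd⟩ := hpp
      have h2 : 2 ∣ p ^ d := hpd ▸ by norm_num
      have h3 : 3 ∣ p ^ d := hpd ▸ by norm_num
      have := (Nat.prime_dvd_prime_iff_eq Nat.prime_two hp).mp (Nat.prime_two.dvd_of_dvd_pow h2)
      have := (Nat.prime_dvd_prime_iff_eq Nat.prime_three hp).mp (Nat.prime_three.dvd_of_dvd_pow h3)
      omega
    interval_cases s <;> interval_cases k <;> first | omega | decide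
  · refine (Nat.mul_le_mul_left _ (Nat.descFactorial_le_pow _ _)).trans ?_
    set L := Nat.log 2 s with hL
    have hL5 : 5 ≤ L := Nat.le_log_of_pow_le (by norm_num) (by omega)
    have hkL : k ≤ L := Nat.le_log_of_pow_le (by norm_num) hk
    have hlt : s < 2 ^ (L + 1) := Nat.lt_pow_succ_log_self (by norm_num) s
    have hge : 2 ^ L ≤ s := Nat.pow_log_le_self 2 (by omega)
    have hsq := sq_log_le_three L hL5
    rw [permBound, if_neg (by omega), if_neg (by omega)]
    refine (Nat.pow_le_pow_iff_left (show (2 : ℕ) ≠ 0 by norm_num)).mp ?_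
    calc (s * (s - 1) ^ k) ^ 2 ≤ (2 ^ (L + 1) * (2 ^ (L + 1)) ^ L) ^ 2 := by
          refine Nat.pow_le_pow_left (Nat.mul_le_mul hlt.le ?_) _
          exact (Nat.pow_le_pow_left (by omega) _).trans (Nat.pow_le_pow_right (Nat.two_pow_pos _) hkL)
      _ = 2 ^ (2 * (L + 1) ^ 2) := by rw [← pow_succ', ← pow_mul, ← pow_mul]; ring_nf
      _ ≤ 2 ^ (3 * (s - 1)) := Nat.pow_le_pow_right (by norm_num) (hsq.trans (by omega))
      _ = 8 ^ (s - 1) := by rw [pow_mul]; norm_num
      _ ≤ (3 ^ (s - 1)) ^ 2 := by
          rw [← pow_mul, mul_comm, pow_mul]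
          exact Nat.pow_le_pow_left (by norm_num) _

/-- Automorphisms are determined by distinct images of generators. -/
theorem card_le_aut_desc {G Q : Type*} [Group G] [Group Q] [Finite Q] (φ : G →* MulAut Q)
    (hφ : Function.Injective φ) :
    ∃ k, 2 ^ k ≤ Nat.card Q ∧ Nat.card G ≤ (Nat.card Q - 1).descFactorial k := by
  classical
  haveI := Fintype.ofFinite Q
  obtain ⟨S, hS, h1, hc⟩ := exists_gens Q
  refine ⟨S.card, hc, ?_⟩
  let F : G → ({x : Q // x ∈ S} ↪ {x : Q // x ≠ 1}) := fun g =>
    ⟨fun s => ⟨φ g s.1, fun h => h1 (by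
      have h0 : (s : Q) = 1 := (φ g).injective (h.trans (map_one _).symm)
      have h2 := s.2
      rwa [h0] at h2)⟩, fun s t h => Subtype.ext ((φ g).injective (congrArg Subtype.val h))⟩
  have hF : Function.Injective F := by
    intro g h hgh
    refine hφ (MulEquiv.ext fun x => ?_)
    have : (φ g).toMonoidHom = (φ h).toMonoidHom := MonoidHom.eq_of_eqOn_dense hS fun s hs =>
      congrArg (fun e : {x : Q // x ∈ S} ↪ {x : Q // x ≠ 1} => ((e ⟨s, hs⟩ : {x : Q // x ≠ 1}) : Q)) hgh
    exact DFunLike.congr_fun this x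
  refine (Nat.card_le_card_of_injective F hF).trans (le_of_eq ?_)
  rw [Nat.card_eq_fintype_card, Fintype.card_embedding_eq, Fintype.card_coe, Nat.card_eq_fintype_card,
    Fintype.card_subtype_compl, Fintype.card_subtype_eq]

universe u

/-- A solvable permutation group of degree `s` has order at most `permBound s`. -/
theorem card_perm_le_permBound_aux : ∀ s : ℕ, ∀ (α : Type u) [Finite α] (G : Subgroup (Equiv.Perm α)),
    Group.IsSolvable G → Nat.card α = s → Nat.card G ≤ permBound s := by
  intro s
  induction s using Nat.strong_induction_on with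
  | _ s ih => ?_
  intro α _ G hsol hs
  haveI := hsol
  classical
  haveI := Fintype.ofFinite α
  rcases Nat.lt_or_ge s 2 with h | h
  · have : Subsingleton α := (Finite.card_le_one_iff_subsingleton).mp (by omega)
    rw [Nat.card_of_subsingleton (1 : G)]
    exact one_le_permBound s
  haveI hne : Nonempty α := Finite.card_pos_iff.mp (by omega)
  -- bound for the image of a stabilised subset
  have himg : ∀ (β : Type u) [Finite β] (H : Type u) [Group H] [Group.IsSolvable H]
      (φ : H →* Equiv.Perm β), Nat.card β < s → Nat.card φ.range ≤ permBound (Nat.card β) :=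
    fun β _ H _ _ φ hlt => ih _ hlt β φ.range
      (Group.isSolvable_of_surjective φ.rangeRestrict_surjective) rfl
  by_cases htr : IsPretransitive G α
  swap
  · obtain ⟨a, b, hab⟩ : ∃ a b : α, b ∉ orbit G a := by
      by_contra hc
      push Not at hc
      exact htr ⟨fun x y => hc x y⟩
    set O := orbit G a with hO
    have hinv : ∀ (g : G) (x : α), g • x ∈ O ↔ x ∈ O := fun g x =>
      smul_mem_orbit_iff_aux g x a
    letI A1 : MulAction G O :=
      { smul := fun g x => ⟨g • (x : α), (hinv g x).mpr x.2⟩
        one_smul := fun x => Subtype.ext (one_smul G (x : α))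
        mul_smul := fun g h x => Subtype.ext (mul_smul g h (x : α)) }
    letI A2 : MulAction G ↑(Oᶜ) :=
      { smul := fun g x => ⟨g • (x : α), fun h => x.2 ((hinv g x).mp h)⟩
        one_smul := fun x => Subtype.ext (one_smul G (x : α))
        mul_smul := fun g h x => Subtype.ext (mul_smul g h (x : α)) }
    set φ1 := MulAction.toPermHom G O
    set φ2 := MulAction.toPermHom G ↑(Oᶜ)
    have hinj : Function.Injective (φ1.rangeRestrict.prod φ2.rangeRestrict) := by
      intro g g' hgg
      refine Subtype.ext (Equiv.ext fun x => ?_)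
      by_cases hx : x ∈ O
      · have := congrArg (fun e : φ1.range => (e : Equiv.Perm O) ⟨x, hx⟩) (Prod.ext_iff.mp hgg).1
        exact congrArg Subtype.val this
      · have := congrArg (fun e : φ2.range => (e : Equiv.Perm ↑(Oᶜ)) ⟨x, hx⟩)
          (Prod.ext_iff.mp hgg).2
        exact congrArg Subtype.val this
    have hadd : Nat.card O + Nat.card ↑(Oᶜ) = s := by
      rw [Nat.card_coe_set_eq, Nat.card_coe_set_eq, Set.ncard_add_ncard_compl, hs]
    haveI : Nonempty O := ⟨⟨a, mem_orbit_self a⟩⟩
    haveI : Nonempty ↑(Oᶜ) := ⟨⟨b, hab⟩⟩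
    have hp1 : 0 < Nat.card O := Nat.card_pos
    have hp2 : 0 < Nat.card ↑(Oᶜ) := Nat.card_pos
    have b1 := himg O G φ1 (by omega)
    have b2 := himg ↑(Oᶜ) G φ2 (by omega)
    calc Nat.card G ≤ Nat.card φ1.range * Nat.card φ2.range := by
          rw [← Nat.card_prod]; exact Nat.card_le_card_of_injective _ hinj
      _ ≤ permBound (Nat.card O) * permBound (Nat.card ↑(Oᶜ)) := Nat.mul_le_mul b1 b2
      _ ≤ permBound s := hadd ▸ permBound_mul hp1 hp2
  by_cases hprim : IsPreprimitive G α
  · haveI : Nontrivial G := by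
      obtain ⟨x, y, hxy⟩ := exists_pair_ne' (α := α) (by omega)
      obtain ⟨g, hg⟩ := exists_smul_eq G x y
      exact nontrivial_of_ne g 1 fun h1 => hxy (by rw [← hg, h1, one_smul])
    obtain ⟨M, hMn, hM, hMc, hmin, -⟩ := Supersolvable.exists_minimal_normal_solvable G
    obtain ⟨htrans, hreg, p, d, hp, -, hcα, hcM⟩ := Cfsg.Agent.S0547.regular_of_minimal hprim M hM hmin
    obtain ⟨ω⟩ := hne
    set St := stabilizer G ω
    set ψ : St →* MulAut M := (MulAut.conjNormal (H := M)).comp St.subtype
    have hψ : Function.Injective ψ := by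
      rw [injective_iff_map_eq_one]
      intro g hg
      refine Subtype.ext (eq_of_smul_eq_smul (α := α) fun x => ?_)
      obtain ⟨m, rfl⟩ := htrans.exists_smul_eq ω x
      have hm : ((g : G) * (m : G) * (g : G)⁻¹) = (m : G) := by
        have := congrArg (fun e : MulAut M => ((e m : M) : G)) hg
        simpa [ψ] using this
      show (g : G) • (m : G) • ω = (1 : G) • (m : G) • ω
      rw [one_smul, ← mul_smul, mul_inv_eq_iff_eq_mul.mp hm, mul_smul]
      exact congrArg _ g.2
    obtain ⟨k, hk, hstab⟩ := card_le_aut_desc ψ hψ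
    rw [hcM, ← hcα, hs] at hstab hk
    have hcard : Nat.card G = s * Nat.card St := by
      rw [← St.index_mul_card, index_stabilizer_of_transitive G ω, hs]
    rw [hcard]
    exact (Nat.mul_le_mul_left _ hstab).trans (permBound_affine ⟨p, d, hp, hs ▸ hcα⟩ hk)
  · obtain ⟨B, hB, hBt⟩ : ∃ B : Set α, IsBlock G B ∧ ¬ IsTrivialBlock B := by
      by_contra hc
      push Not at hc
      exact hprim { isTrivialBlock_of_isBlock := fun {B} hB => hc B hB }
    have hBne : B.Nonempty := by
      by_contra h0
      exact hBt (Or.inl (by rw [Set.not_nonempty_iff_eq_empty.mp h0]; exact Set.subsingleton_empty))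
    have hb2 : 2 ≤ B.ncard := by
      by_contra h0
      exact hBt (Or.inl (Set.ncard_le_one_iff_subsingleton.mp (by omega)))
    have hbc : B.ncard * (orbit G B).ncard = s := by rw [hB.ncard_block_mul_ncard_orbit_eq hBne, hs]
    have hbs : B.ncard < s := by
      rw [← hs, ← Set.ncard_univ]
      exact Set.ncard_lt_ncard (Set.ssubset_univ_iff.mpr fun h0 => hBt (Or.inr h0)) Set.finite_univ
    have ho1 : 2 ≤ (orbit G B).ncard := by nlinarith
    set φ := MulAction.toPermHom G (orbit G B)
    have hrange := himg (orbit G B) G φ (by rw [Nat.card_coe_set_eq]; nlinarith)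
    -- the kernel
    set K := φ.ker
    have hK : ∀ (k : K) (b : orbit G B) (x : α), x ∈ (b : Set α) → (k : G) • x ∈ (b : Set α) := by
      intro k b x hx
      have h1 : φ (k : G) b = b := by rw [MonoidHom.mem_ker.mp k.2]; rfl
      have h2 : (k : G) • (b : Set α) = b := congrArg Subtype.val h1
      rw [← h2]; exact Set.smul_mem_smul_set hx
    let act : ∀ b : orbit G B, MulAction K (b : Set α) := fun b =>
      { smul := fun k x => ⟨(k : G) • (x : α), hK k b x x.2⟩
        one_smul := fun x => Subtype.ext (one_smul G (x : α))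
        mul_smul := fun k l x => Subtype.ext (mul_smul (k : G) (l : G) (x : α)) }
    let ψ : ∀ b : orbit G B, K →* Equiv.Perm (b : Set α) := fun b =>
      @MulAction.toPermHom K (b : Set α) _ (act b)
    have hinj : Function.Injective (fun k : K => fun b => (ψ b).rangeRestrict k) := by
      intro k l hkl
      refine Subtype.ext (Subtype.ext (Equiv.ext fun x => ?_))
      obtain ⟨y, hy⟩ := hBne
      obtain ⟨g, hg⟩ := htr.exists_smul_eq y x
      have hx : x ∈ g • B := hg ▸ Set.smul_mem_smul_set hy
      have := congrArg (fun e : (ψ ⟨g • B, mem_orbit B g⟩).range =>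
        (e : Equiv.Perm (g • B : Set α)) ⟨x, hx⟩) (congrFun hkl ⟨g • B, mem_orbit B g⟩)
      exact congrArg Subtype.val this
    have hbcard : ∀ b : orbit G B, Nat.card (b : Set α) = B.ncard := by
      rintro ⟨_, g, rfl⟩
      rw [Nat.card_coe_set_eq]
      exact Set.ncard_image_of_injective _ (MulAction.injective g)
    haveI : Group.IsSolvable K := inferInstance
    have hKle : Nat.card K ≤ (permBound B.ncard) ^ (orbit G B).ncard := by
      refine (Nat.card_le_card_of_injective _ hinj).trans ?_
      rw [Nat.card_pi]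
      refine (Finset.prod_le_pow_card _ _ (permBound B.ncard) fun b _ => ?_).trans (le_of_eq ?_)
      · have := himg (b : Set α) K (ψ b) (by rw [hbcard]; exact hbs)
        rwa [hbcard] at this
      · rw [Finset.card_univ, ← Nat.card_eq_fintype_card, Nat.card_coe_set_eq]
    have hG : Nat.card G = Nat.card φ.range * Nat.card K := by
      rw [← K.index_mul_card, Subgroup.index_ker]
    rw [Nat.card_coe_set_eq] at hrange
    rw [hG, ← hbc]
    exact (Nat.mul_le_mul hrange hKle).trans (permBound_blocks hb2 ho1)

/-- A solvable group acting faithfully on `s` points has order at most `permBound s`. -/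
theorem card_range_le_permBound {H : Type*} [Group H] [Group.IsSolvable H] {α : Type u} [Finite α]
    (φ : H →* Equiv.Perm α) : Nat.card φ.range ≤ permBound (Nat.card α) :=
  card_perm_le_permBound_aux _ α φ.range
    (Group.isSolvable_of_surjective φ.rangeRestrict_surjective) rfl

end Cfsg.Agent.Lib.ClassLowerSolv
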