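import Mathlib
import Cfsg.Agent.Lib.ClassLowerSolv.PermSharp

/-!
# Solvable groups preserving a nondegenerate alternating pairing
-/

set_option autoImplicit false
set_option linter.style.haveILetI false

namespace Cfsg.Agent.Lib.ClassLowerSolv

/-- The bound for a solvable group preserving a pairing on a group of order `y ^ 2`. -/
def symBound : ℕ → ℕ
  | 0 => 1 | 1 => 1 | 2 => 6 | 3 => 24 | 4 => 81 | 5 => 120 | 6 => 210 | 7 => 336
  | 8 => 163296 | 9 => 51840 | 10 => 990 | 11 => 1320 | 12 => 20592 | 13 => 2184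
  | 14 => 2730 | 15 => 3360
  | y + 16 => (y + 16) ^ 4 / 2 * 11 ^ ((y + 16) / 2)

theorem symBound_big {y : ℕ} (h : 16 ≤ y) : symBound y = y ^ 4 / 2 * 11 ^ (y / 2) := by
  obtain ⟨z, rfl⟩ := Nat.exists_eq_add_of_le' h
  rfl

theorem pow_four_le : ∀ y : ℕ, 16 ≤ y → y ^ 4 / 2 ≤ 11 ^ (y / 2) := by
  intro y hy
  refine (Nat.div_le_self _ _).trans ?_
  induction y using Nat.strong_induction_on with
  | _ y ih =>
    rcases Nat.lt_or_ge y 18 with h | h
    · interval_cases y <;> norm_num
    · obtain ⟨z, rfl⟩ := Nat.exists_eq_add_of_le' (show 2 ≤ y by omega)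
      have h1 := ih z (by omega) (by omega)
      rw [show (z + 2) / 2 = z / 2 + 1 from by omega, pow_succ' 11]
      refine le_trans ?_ (Nat.mul_le_mul_left 11 h1)
      have h2 : 4 * (z + 2) ≤ 5 * z := by omega
      have h3 : 256 * (z + 2) ^ 4 ≤ 625 * z ^ 4 := by
        have := Nat.pow_le_pow_left h2 4
        rw [mul_pow, mul_pow] at this
        norm_num at this
        exact this
      generalize (z + 2) ^ 4 = a at h3 ⊢
      generalize z ^ 4 = c at h3 ⊢
      omega

theorem symBound_le (y : ℕ) : symBound y ≤ 11 ^ y := by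
  rcases Nat.lt_or_ge y 16 with h | h
  · interval_cases y <;> decide
  · rw [symBound_big h]
    refine (Nat.mul_le_mul_right _ (pow_four_le y h)).trans ?_
    rw [← pow_add]
    exact Nat.pow_le_pow_right (by norm_num) (by omega)

/-- The recursion step. -/
theorem symBound_step {y n : ℕ} (hy : 1 ≤ y) (hn : 2 ≤ n) (hd : n ∣ y)
    (hrad : ∀ q : ℕ, q.Prime → q ∣ y → q ∣ n) (hsp : ¬ (y = 4 ∧ n = 2)) :
    (y ^ 2 - 1) * (y ^ 2 / n) * symBound (y / n) ≤ symBound y := by
  have hny : n ≤ y := Nat.le_of_dvd (by omega) hd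
  rcases Nat.lt_or_ge y 16 with h | h
  · have h2 := hrad 2 Nat.prime_two
    have h3 := hrad 3 Nat.prime_three
    have h5 := hrad 5 (by norm_num)
    have h7 := hrad 7 (by norm_num)
    have h11 := hrad 11 (by norm_num)
    have h13 := hrad 13 (by norm_num)
    interval_cases y <;> interval_cases n <;>
      first
      | decide
      | (revert hd; decide)
      | (revert h2 h3 h5 h7 h11 h13; decide)
      | (exfalso; exact hsp ⟨rfl, rfl⟩)
  · rw [symBound_big h]
    refine Nat.mul_le_mul ?_ ((symBound_le _).trans (Nat.pow_le_pow_right (by norm_num) ?_))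
    · calc (y ^ 2 - 1) * (y ^ 2 / n) ≤ y ^ 2 * (y ^ 2 / 2) :=
            Nat.mul_le_mul (Nat.sub_le _ _) (Nat.div_le_div_left hn (by norm_num))
        _ ≤ y ^ 2 * y ^ 2 / 2 := Nat.mul_div_le_mul_div_assoc _ _ _
        _ = y ^ 4 / 2 := by rw [← pow_add]
    · exact Nat.div_le_div_left hn (by norm_num)

section Six

/-- The standard alternating form on `(ZMod 2)^4`. -/
def stdForm (u v : Fin 4 → ZMod 2) : ZMod 2 := u 0 * v 1 + u 1 * v 0 + u 2 * v 3 + u 3 * v 2

/-- The quadratic refinement with given values on the basis. -/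
def refine4 (l v : Fin 4 → ZMod 2) : ZMod 2 :=
  v 0 * v 1 + v 2 * v 3 + l 0 * v 0 + l 1 * v 1 + l 2 * v 2 + l 3 * v 3

theorem refine4_add : ∀ (l u v : Fin 4 → ZMod 2),
    refine4 l (u + v) = refine4 l u + refine4 l v + stdForm u v := by
  intro l u v
  simp only [refine4, stdForm, Pi.add_apply]
  ring

theorem refine4_basis : ∀ (l : Fin 4 → ZMod 2) (i : Fin 4), refine4 l (Pi.single i 1) = l i := by
  decide

theorem refine4_count : ∀ l : Fin 4 → ZMod 2,
    (Finset.univ.filter fun v => refine4 l v = 1).card = 10 ↔ l 0 * l 1 + l 2 * l 3 = 1 := by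
  decide

theorem minus_forms_card :
    Fintype.card {l : Fin 4 → ZMod 2 // l 0 * l 1 + l 2 * l 3 = 1} = 6 := by decide

theorem minus_forms_span : ∀ u v : Fin 4 → ZMod 2,
    (∀ l m : Fin 4 → ZMod 2, l 0 * l 1 + l 2 * l 3 = 1 → m 0 * m 1 + m 2 * m 3 = 1 →
      refine4 l u + refine4 m u = refine4 l v + refine4 m v) → u = v := by
  decide

theorem eq_refine4 (q : (Fin 4 → ZMod 2) → ZMod 2)
    (hq : ∀ u v, q (u + v) = q u + q v + stdForm u v) :
    q = refine4 fun i => q (Pi.single i 1) := by
  funext v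
  set d : (Fin 4 → ZMod 2) → ZMod 2 := fun w => q w + refine4 (fun i => q (Pi.single i 1)) w with hd
  have hadd : ∀ u w, d (u + w) = d u + d w := fun u w => by
    have h2 : stdForm u w + stdForm u w = 0 := CharTwo.add_self_eq_zero _
    simp only [hd, hq, refine4_add]
    linear_combination h2
  have hD : ∀ w, d w = 0 := by
    let D : (Fin 4 → ZMod 2) →+ ZMod 2 := AddMonoidHom.mk' d hadd
    intro w
    have hb : ∀ i, D (Pi.single i 1) = 0 := fun i => by
      show q _ + refine4 _ _ = 0
      rw [refine4_basis]; exact CharTwo.add_self_eq_zero _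
    have hw : w = ∑ i, Pi.single i (w i) := (Finset.univ_sum_single w).symm
    show D w = 0
    rw [hw, map_sum]
    refine Finset.sum_eq_zero fun i _ => ?_
    rcases (by decide : ∀ t : ZMod 2, t = 0 ∨ t = 1) (w i) with h | h <;> rw [h]
    · rw [Pi.single_zero, map_zero]
    · exact hb i
  have := hD v
  rwa [hd, CharTwo.add_eq_zero] at this

/-- A solvable group of isometries of the symplectic space `(ZMod 2)^4`. -/
theorem card_sp4_two_le {A : Type*} [Group A] [Finite A] [Group.IsSolvable A]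
    (act : A →* Equiv.Perm (Fin 4 → ZMod 2)) (hinj : Function.Injective act)
    (hadd : ∀ g u v, act g (u + v) = act g u + act g v)
    (hform : ∀ g u v, stdForm (act g u) (act g v) = stdForm u v) : Nat.card A ≤ 81 := by
  classical
  set L := {l : Fin 4 → ZMod 2 // l 0 * l 1 + l 2 * l 3 = 1}
  let img : A → (Fin 4 → ZMod 2) → (Fin 4 → ZMod 2) := fun g l i =>
    refine4 l (act g⁻¹ (Pi.single i 1))
  have key : ∀ g l v, refine4 (img g l) v = refine4 l (act g⁻¹ v) := by
    intro g l v
    have h := eq_refine4 (fun w => refine4 l (act g⁻¹ w)) fun u w => by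
      rw [hadd, refine4_add, hform]
    exact (congrFun h v).symm
  have hmem : ∀ g (l : L), img g l 0 * img g l 1 + img g l 2 * img g l 3 = 1 := fun g l => by
    rw [← refine4_count]
    simp only [key]
    rw [← (refine4_count l.1).mpr l.2]
    exact Finset.card_equiv (act g⁻¹) fun v => by simp
  have hext : ∀ l m, (∀ v, refine4 l v = refine4 m v) → l = m := fun l m h =>
    _root_.funext fun i => by rw [← refine4_basis l i, h, refine4_basis]
  letI : MulAction A L :=
    { smul := fun g l => ⟨img g l, hmem g l⟩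
      one_smul := fun l => Subtype.ext (hext _ _ fun v => by
        show refine4 (img 1 l) v = _
        rw [key, inv_one, map_one, Equiv.Perm.one_apply])
      mul_smul := fun g h l => Subtype.ext (hext _ _ fun v => by
        show refine4 (img (g * h) l) v = refine4 (img g (img h l)) v
        rw [key, key, key, mul_inv_rev, map_mul, Equiv.Perm.mul_apply]) }
  have hfaith : Function.Injective (MulAction.toPermHom A L) := by
    rw [injective_iff_map_eq_one]
    intro g hg
    apply hinj
    rw [map_one]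
    refine Equiv.ext fun v => (minus_forms_span v (act g v) fun l m hl hm => ?_).symm
    have h : ∀ l : L, refine4 l.1 (act g v) = refine4 l.1 v := fun l => by
      have h0 : img g l = l.1 :=
        congrArg Subtype.val (congrArg (fun e : Equiv.Perm L => e l) hg)
      conv_lhs => rw [← h0, key, ← Equiv.Perm.mul_apply, ← map_mul, inv_mul_cancel, map_one]
      rw [Equiv.Perm.one_apply]
    have e1 := h ⟨l, hl⟩
    have e2 := h ⟨m, hm⟩
    simp only at e1 e2
    rw [e1, e2]
  calc Nat.card A = Nat.card (MulAction.toPermHom A L).range :=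
        Nat.card_congr (MonoidHom.ofInjective hfaith).toEquiv
    _ ≤ permBound (Nat.card L) := card_range_le_permBound _
    _ = 81 := by rw [Nat.card_eq_fintype_card, minus_forms_card]; rfl

end Six

variable {F : Type*} [Field F]

/-- A solvable group of automorphisms preserving a nondegenerate alternating pairing. -/
theorem card_pairing_le : ∀ (x : ℕ) {Q : Type*} [CommGroup Q] [Finite Q] {A : Type*} [Group A]
    [Finite A] [Group.IsSolvable A] (P : Q →* Q →* Fˣ) (φ : A →* MulAut Q),
    Nat.card Q = x → Function.Injective φ → (∀ u, P u u = 1) →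
    (∀ u, (∀ v, P u v = 1) → u = 1) → (∀ g u v, P (φ g u) (φ g v) = P u v) →
    ∃ y, Monoid.exponent Q ∣ y ∧ (∀ q : ℕ, q.Prime → q ∣ y → q ∣ Monoid.exponent Q) ∧
      x = y ^ 2 ∧ Nat.card A ≤ symBound y := by
  intro x
  induction x using Nat.strong_induction_on with
  | _ x ih => ?_
  intro Q _ _ A _ _ _ P φ hx hφ halt hnd hinv
  classical
  rcases subsingleton_or_nontrivial Q with hQ | hQ
  · refine ⟨1, ?_, fun q hq hq1 => absurd (Nat.le_of_dvd one_pos hq1) (by have := hq.two_le; omega),
      by rw [← hx, Nat.card_of_subsingleton (1 : Q)]; norm_num, ?_⟩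
    · exact (Monoid.exp_eq_one_iff.mpr hQ).dvd
    · haveI : Subsingleton (MulAut Q) := ⟨fun a b => MulEquiv.ext fun q => Subsingleton.elim _ _⟩
      haveI : Subsingleton A := hφ.subsingleton
      rw [Nat.card_of_subsingleton (1 : A)]; rfl
  obtain ⟨a, ha⟩ := Monoid.exists_orderOf_eq_exponent (G := Q) Monoid.ExponentExists.of_finite
  set n := Monoid.exponent Q with hn
  have hn2 : 2 ≤ n := by
    have h1 : n ≠ 0 := Monoid.exponent_ne_zero_of_finite
    have h2 : n ≠ 1 := fun h => not_subsingleton Q (Monoid.exp_eq_one_iff.mp h)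
    omega
  have halt2 : ∀ u v, P u v * P v u = 1 := fun u v => by
    have := halt (u * v)
    simp only [map_mul, MonoidHom.mul_apply, halt, one_mul, mul_one] at this
    rwa [mul_comm] at this
  have hpown : ∀ u v, P u v ^ n = 1 := fun u v => by
    rw [← map_pow, hn, Monoid.pow_exponent_eq_one, map_one]
  -- the partner of `a`
  haveI : Finite (P a).range := Set.finite_range (P a) |>.to_subtype
  obtain ⟨⟨ζ, b, hb⟩, hgen⟩ := IsCyclic.exists_generator (α := (P a).range)
  have hζall : ∀ v, P a v ∈ Subgroup.zpowers ζ := fun v => by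
    obtain ⟨k, hk⟩ := hgen ⟨P a v, v, rfl⟩
    exact ⟨k, congrArg Subtype.val hk⟩
  have hζ : orderOf ζ = n := by
    refine Nat.dvd_antisymm (orderOf_dvd_of_pow_eq_one (hb ▸ hpown a b)) ?_
    rw [← ha]
    refine orderOf_dvd_of_pow_eq_one (hnd _ fun v => ?_)
    obtain ⟨k, hk⟩ := hζall v
    rw [map_pow, MonoidHom.pow_apply, ← hk, ← zpow_natCast, ← zpow_mul, mul_comm, zpow_mul,
      zpow_natCast, pow_orderOf_eq_one, one_zpow]
  have hba : P b a = ζ⁻¹ := eq_inv_of_mul_eq_one_right (hb ▸ halt2 a b)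
  have hbmem : ∀ v, P b v ∈ Subgroup.zpowers ζ := fun v => by
    have hcard : Nat.card (Subgroup.zpowers ζ) = n := by rw [Nat.card_zpowers, hζ]
    -- roots of unity in a field
    haveI : NeZero n := ⟨by omega⟩
    obtain ⟨i, -, hi⟩ := (IsPrimitiveRoot.coe_units_iff.mpr (IsPrimitiveRoot.iff_orderOf.mpr hζ)).eq_pow_of_pow_eq_one
      (show ((P b v : Fˣ) : F) ^ n = 1 by rw [← Units.val_pow_eq_pow_val, hpown, Units.val_one])
    exact ⟨i, Units.ext (by simpa using hi)⟩
  -- the orthogonal complement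
  let f : Q →* Subgroup.zpowers ζ × Subgroup.zpowers ζ :=
    MonoidHom.mk' (fun v => (⟨P a v, hζall v⟩, ⟨P b v, hbmem v⟩))
      fun u v => Prod.ext (Subtype.ext (map_mul _ _ _)) (Subtype.ext (map_mul _ _ _))
  set Q' := f.ker with hQ'
  have hQ'mem : ∀ v, v ∈ Q' ↔ P a v = 1 ∧ P b v = 1 := fun v => by
    simp [hQ', f, MonoidHom.mem_ker, Prod.ext_iff, Subtype.ext_iff]
  have hfsurj : Function.Surjective f := by
    rintro ⟨⟨_, i, rfl⟩, ⟨_, j, rfl⟩⟩
    refine ⟨b ^ i * a ^ (-j), Prod.ext (Subtype.ext ?_) (Subtype.ext ?_)⟩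
    · show P a (b ^ i * a ^ (-j)) = ζ ^ i
      rw [map_mul, map_zpow, map_zpow, hb, halt, one_zpow, mul_one]
    · show P b (b ^ i * a ^ (-j)) = ζ ^ j
      rw [map_mul, map_zpow, map_zpow, halt, one_zpow, one_mul, hba, inv_zpow', neg_neg]
  have hQ'card : x = Nat.card Q' * n ^ 2 := by
    rw [← hx, ← f.ker.card_mul_index, Subgroup.index_ker, MonoidHom.range_eq_top.mpr hfsurj,
      Nat.card_congr Subgroup.topEquiv.toEquiv, Nat.card_prod, Nat.card_zpowers, hζ, sq, hQ']
  have hQ'lt : Nat.card Q' < x := by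
    rw [hQ'card]
    have : 0 < Nat.card Q' := Nat.card_pos
    have h4 : 4 ≤ n ^ 2 := Nat.pow_le_pow_left hn2 2
    calc Nat.card Q' < Nat.card Q' * 4 := by omega
      _ ≤ Nat.card Q' * n ^ 2 := Nat.mul_le_mul_left _ h4
  -- the stabilisers
  letI actQ : MulAction A Q := MulAction.compHom Q φ
  have hsmul : ∀ (g : A) (u : Q), g • u = φ g u := fun g u => rfl
  set A1 := MulAction.stabilizer A a with hA1
  set A2 := MulAction.stabilizer A1 b with hA2
  have hA2a : ∀ g : A2, φ ((g : A1) : A) a = a ∧ φ ((g : A1) : A) b = b := fun g =>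
    ⟨(g : A1).2, g.2⟩
  have horb1 : A1.index ≤ x - 1 := by
    rw [MulAction.index_stabilizer, ← hx]
    have hsub : MulAction.orbit A a ⊆ Set.univ \ {1} := by
      rintro _ ⟨g, rfl⟩
      refine ⟨trivial, fun h => ?_⟩
      have h1 : a = 1 := (φ g).injective (h.trans (map_one _).symm)
      rw [h1, orderOf_one] at ha
      omega
    refine (Set.ncard_le_ncard hsub (Set.toFinite _)).trans ?_
    rw [Set.ncard_diff_singleton_of_mem (Set.mem_univ _), Set.ncard_univ]
  have horb2 : A2.index ≤ x / n := by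
    rw [MulAction.index_stabilizer]
    have hsub : MulAction.orbit A1 b ⊆ (fun v => b * v) '' ((P a).ker : Set Q) := by
      rintro _ ⟨g, rfl⟩
      refine ⟨b⁻¹ * (g • b), ?_, mul_inv_cancel_left _ _⟩
      show P a (b⁻¹ * φ (g : A) b) = 1
      have h1 : P a (φ (g : A) b) = P a b := by
        conv_lhs => rw [← g.2]
        exact hinv _ _ _
      rw [map_mul, map_inv, h1, inv_mul_cancel]
    refine (Set.ncard_le_ncard hsub (Set.toFinite _)).trans
      ((Set.ncard_image_le (Set.toFinite _)).trans ?_)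
    rw [← Nat.card_coe_set_eq, Nat.le_div_iff_mul_le (by omega), ← hx,
      ← (P a).ker.card_mul_index, Subgroup.index_ker]
    refine Nat.mul_le_mul_left _ ?_
    rw [← hζ, ← Nat.card_zpowers]
    exact Nat.card_le_card_of_injective (fun z : Subgroup.zpowers ζ =>
      (⟨z.1, (Subgroup.zpowers_le.mpr ⟨b, hb⟩ : Subgroup.zpowers ζ ≤ (P a).range) z.2⟩ : (P a).range))
      fun z w h => Subtype.ext (congrArg (fun t : (P a).range => (t : Fˣ)) h)
  -- the induced action on the complement
  have hpres : ∀ (g : A2) (v : Q), v ∈ Q' → φ ((g : A1) : A) v ∈ Q' := by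
    intro g v hv
    rw [hQ'mem] at hv ⊢
    constructor
    · conv_lhs => rw [← (hA2a g).1]
      rw [hinv]; exact hv.1
    · conv_lhs => rw [← (hA2a g).2]
      rw [hinv]; exact hv.2
  let res : A2 → MulAut Q' := fun g =>
    { toFun := fun v => ⟨φ ((g : A1) : A) v, hpres g v v.2⟩
      invFun := fun v => ⟨φ (((g⁻¹ : A2) : A1) : A) v, hpres g⁻¹ v v.2⟩
      left_inv := fun v => Subtype.ext (by
        show φ (((g⁻¹ : A2) : A1) : A) (φ ((g : A1) : A) v) = v
        rw [← MulAut.mul_apply, ← map_mul]; simp)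
      right_inv := fun v => Subtype.ext (by
        show φ ((g : A1) : A) (φ (((g⁻¹ : A2) : A1) : A) v) = v
        rw [← MulAut.mul_apply, ← map_mul]; simp)
      map_mul' := fun u v => Subtype.ext (map_mul _ _ _) }
  let φ' : A2 →* MulAut Q' := MonoidHom.mk' res fun g h => MulEquiv.ext fun v => Subtype.ext (by
    show φ (((g * h : A2) : A1) : A) v = φ ((g : A1) : A) (φ ((h : A1) : A) v)
    rw [Subgroup.coe_mul, Subgroup.coe_mul, map_mul, MulAut.mul_apply])
  have hdecomp : ∀ v : Q, ∃ i j : ℤ, ∃ w ∈ Q', v = b ^ i * a ^ (-j) * w := by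
    intro v
    obtain ⟨⟨_, i, hi⟩, hP⟩ : ∃ z, z = (f v).1 := ⟨_, rfl⟩
    obtain ⟨⟨_, j, hj⟩, hP'⟩ : ∃ z, z = (f v).2 := ⟨_, rfl⟩
    refine ⟨i, j, (b ^ i * a ^ (-j))⁻¹ * v, ?_, (mul_inv_cancel_left _ _).symm⟩
    rw [hQ'mem]
    have e1 : ζ ^ i = P a v := hi.trans (congrArg Subtype.val hP)
    have e2 : ζ ^ j = P b v := hj.trans (congrArg Subtype.val hP')
    constructor
    · rw [map_mul, map_inv, map_mul, map_zpow, map_zpow, hb, halt, one_zpow, mul_one, ← e1,
        inv_mul_cancel]
    · rw [map_mul, map_inv, map_mul, map_zpow, map_zpow, halt, one_zpow, one_mul, hba, inv_zpow',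
        neg_neg, ← e2, inv_mul_cancel]
  have hφ' : Function.Injective φ' := by
    rw [injective_iff_map_eq_one]
    intro g hg
    refine Subtype.ext (Subtype.ext (hφ (MulEquiv.ext fun v => ?_)))
    rw [Subgroup.coe_one, Subgroup.coe_one, map_one, MulAut.one_apply]
    obtain ⟨i, j, w, hw, rfl⟩ := hdecomp v
    rw [map_mul, map_mul, map_zpow, map_zpow, (hA2a g).1, (hA2a g).2]
    congr 1
    exact congrArg (fun e : MulAut Q' => ((e ⟨w, hw⟩ : Q') : Q)) hg
  let P' : Q' →* Q' →* Fˣ :=
    MonoidHom.mk' (fun u => (P (u : Q)).comp Q'.subtype) fun u v => MonoidHom.ext fun w => by simp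
  have hnd' : ∀ u : Q', (∀ v, P' u v = 1) → u = 1 := by
    intro u hu
    refine Subtype.ext (hnd _ fun v => ?_)
    obtain ⟨i, j, w, hw, rfl⟩ := hdecomp v
    have h1 := (hQ'mem u).mp u.2
    have h2 : P (u : Q) a = 1 := by have := halt2 a u; rwa [h1.1, one_mul] at this
    have h3 : P (u : Q) b = 1 := by have := halt2 b u; rwa [h1.2, one_mul] at this
    rw [map_mul, map_mul, map_zpow, map_zpow, h2, h3, one_zpow, one_zpow, one_mul, one_mul]
    exact hu ⟨w, hw⟩
  haveI : Group.IsSolvable A2 := inferInstance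
  obtain ⟨y', hy'n, hy'r, hy'2, hy'A⟩ := ih _ hQ'lt P' φ' rfl hφ' (fun u => halt _) hnd'
    fun g u v => hinv _ _ _
  have hy' : 1 ≤ y' := by
    rcases Nat.eq_zero_or_pos y' with h | h
    · rw [h] at hy'2; have : 0 < Nat.card Q' := Nat.card_pos; simp at hy'2; omega
    · exact h
  have hxy : x = (y' * n) ^ 2 := by rw [hQ'card, hy'2, mul_pow]
  have hexp' : Monoid.exponent Q' ∣ n := Monoid.exponent_dvd_of_forall_pow_eq_one fun u =>
    Subtype.ext (Monoid.pow_exponent_eq_one _)
  have hrad : ∀ q : ℕ, q.Prime → q ∣ y' * n → q ∣ n := fun q hq hd =>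
    (hq.dvd_mul.mp hd).elim (fun h => (hy'r q hq h).trans hexp') id
  refine ⟨y' * n, dvd_mul_left _ _, hrad, hxy, ?_⟩
  have hAcard : Nat.card A = A1.index * (A2.index * Nat.card A2) := by
    rw [A2.index_mul_card, A1.index_mul_card]
  by_cases hsp : y' * n = 4 ∧ n = 2
  · -- exponent two on sixteen elements
    obtain ⟨h4, hn2'⟩ := hsp
    have hy2 : y' = 2 := by nlinarith
    have hQ'4 : Nat.card Q' = 4 := by rw [hy'2, hy2]; norm_num
    obtain ⟨c, hc⟩ : ∃ c : Q', c ≠ 1 := by
      haveI : Nontrivial Q' := Finite.one_lt_card_iff_nontrivial.mp (by omega)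
      exact exists_ne 1
    obtain ⟨d, hd⟩ : ∃ d : Q', P (c : Q) (d : Q) ≠ 1 := by
      by_contra hno
      push Not at hno
      exact hc (hnd' c hno)
    have hsq : ∀ q : Q, q ^ 2 = 1 := fun q => by rw [← hn2', hn]; exact Monoid.pow_exponent_eq_one q
    have hval : ∀ u v, P u v = 1 ∨ P u v = ζ := fun u v => by
      haveI : NeZero (2 : ℕ) := ⟨two_ne_zero⟩
      have hu := hpown u v
      rw [hn2'] at hu
      rw [hn2'] at hζ
      obtain ⟨i, hi2, hi⟩ := (IsPrimitiveRoot.coe_units_iff.mpr (IsPrimitiveRoot.iff_orderOf.mpr hζ)).eq_pow_of_pow_eq_one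
        (show ((P u v : Fˣ) : F) ^ 2 = 1 by rw [← Units.val_pow_eq_pow_val, hu, Units.val_one])
      interval_cases i
      · left; exact Units.ext (by simpa using hi.symm)
      · right; exact Units.ext (by simpa using hi.symm)
    have hζ2 : ζ⁻¹ = ζ := by
      rw [inv_eq_iff_mul_eq_one, ← sq, ← hn2', ← hζ, pow_orderOf_eq_one]
    have hζne : ζ ≠ 1 := fun h => by rw [h, orderOf_one] at hζ; omega
    have hcd : P (c : Q) (d : Q) = ζ := (hval _ _).resolve_left hd
    have hdc : P (d : Q) (c : Q) = ζ := by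
      rw [eq_inv_of_mul_eq_one_right (hcd ▸ halt2 (c : Q) d : ζ * P (d : Q) c = 1), hζ2]
    let pw : ZMod 2 → Q → Q := fun t q => q ^ t.val
    have hpw : ∀ q : Q, ∀ s t : ZMod 2, q ^ (s + t).val = q ^ s.val * q ^ t.val := fun q s t => by
      rw [← pow_add, ZMod.val_add, ← pow_eq_pow_mod _ (hsq q)]
    let e : (Fin 4 → ZMod 2) → Q := fun v =>
      a ^ (v 0).val * b ^ (v 1).val * (c : Q) ^ (v 2).val * (d : Q) ^ (v 3).val
    have headd : ∀ u v, e (u + v) = e u * e v := fun u v => by
      simp only [e, Pi.add_apply, hpw]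
      simp only [mul_comm, mul_left_comm, mul_assoc]
    have hca := (hQ'mem c).mp c.2
    have hda := (hQ'mem d).mp d.2
    have hac : P (c : Q) a = 1 := by have := halt2 a c; rwa [hca.1, one_mul] at this
    have hbc : P (c : Q) b = 1 := by have := halt2 b c; rwa [hca.2, one_mul] at this
    have had : P (d : Q) a = 1 := by have := halt2 a d; rwa [hda.1, one_mul] at this
    have hbd : P (d : Q) b = 1 := by have := halt2 b d; rwa [hda.2, one_mul] at this
    have heP : ∀ u v, P (e u) (e v) = ζ ^ (stdForm u v).val := by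
      intro u v
      have hz : ∀ s t : ZMod 2, ζ ^ (s + t).val = ζ ^ s.val * ζ ^ t.val := fun s t => by
        rw [← pow_add, ZMod.val_add, ← pow_eq_pow_mod _]
        rw [← hn2', ← hζ, pow_orderOf_eq_one]
      have hm : ∀ s t : ZMod 2, ζ ^ (s * t).val = (ζ ^ s.val) ^ t.val := fun s t => by
        rw [← pow_mul, ZMod.val_mul, ← pow_eq_pow_mod _]
        rw [← hn2', ← hζ, pow_orderOf_eq_one]
      simp only [e, stdForm, hz, hm, map_mul, map_pow, MonoidHom.mul_apply, MonoidHom.pow_apply,
        halt, hb, hba, hζ2, hca, hda, hac, hbc, had, hbd, hcd, hdc, one_pow, mul_one, one_mul]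
      simp only [← pow_mul, mul_comm, mul_left_comm, mul_assoc]
    have hne : ∀ u : Fin 4 → ZMod 2, u ≠ 0 → ∃ v, stdForm u v ≠ 0 := by decide
    have heinj : Function.Injective e := by
      intro u v huv
      by_contra hne'
      obtain ⟨w, hw⟩ := hne (u + v) fun h => hne' (CharTwo.add_eq_zero.mp (by
        exact _root_.funext fun i => congrFun h i) )
      have h1 : e (u + v) = 1 := by rw [headd, huv, ← sq, hsq]
      have h2 := heP (u + v) w
      rw [h1, map_one, MonoidHom.one_apply] at h2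
      have h3 : orderOf ζ ∣ (stdForm (u + v) w).val := orderOf_dvd_of_pow_eq_one h2.symm
      rw [hζ, hn2'] at h3
      exact hw ((ZMod.val_eq_zero _).mp (Nat.eq_zero_of_dvd_of_lt h3 (ZMod.val_lt _)))
    have hebij : Function.Bijective e := by
      refine (Nat.bijective_iff_injective_and_card e).mpr ⟨heinj, ?_⟩
      rw [hx, hxy, h4, Nat.card_fun, Nat.card_zmod, Nat.card_fin]
      norm_num
    let E := Equiv.ofBijective e hebij
    let act : A →* Equiv.Perm (Fin 4 → ZMod 2) :=
      MonoidHom.mk' (fun g => (E.trans (φ g).toEquiv).trans E.symm) fun g h => Equiv.ext fun v => by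
        simp [map_mul, MulAut.mul_apply]
    have hact : ∀ g v, e (act g v) = φ g (e v) := fun g v => E.apply_symm_apply _
    have h81 := card_sp4_two_le act (by
        rw [injective_iff_map_eq_one]
        intro g hg
        refine hφ (MulEquiv.ext fun q => ?_)
        obtain ⟨v, rfl⟩ := hebij.2 q
        rw [← hact, hg, Equiv.Perm.one_apply, map_one, MulAut.one_apply])
      (fun g u v => heinj (by rw [hact, headd, headd, map_mul, hact, hact]))
      fun g u v => by
        have h1 := heP (act g u) (act g v)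
        rw [hact, hact, hinv, heP] at h1
        have h2 := (pow_inj_mod).mp h1
        rw [hζ, hn2', Nat.mod_eq_of_lt (ZMod.val_lt _), Nat.mod_eq_of_lt (ZMod.val_lt _)] at h2
        exact (ZMod.val_injective 2 h2).symm
    rw [h4]
    exact h81
  · have hstep := symBound_step (y := y' * n) (n := n) (Nat.one_le_iff_ne_zero.mpr (by positivity))
      hn2 (dvd_mul_left _ _) hrad hsp
    rw [Nat.mul_div_cancel _ (by omega : 0 < n), ← hxy] at hstep
    rw [hAcard]
    refine le_trans ?_ hstep
    rw [mul_assoc]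
    exact Nat.mul_le_mul horb1 (Nat.mul_le_mul horb2 hy'A)

end Cfsg.Agent.Lib.ClassLowerSolv
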