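import Mathlib
import Cfsg.Agent.Lib.ClassLowerSolv.Weights

/-!
# Semisimple representations given by their socle
-/

set_option autoImplicit false
set_option linter.style.haveILetI false

namespace Cfsg.Agent.Lib.ClassLowerSolv

open Module
open scoped Matrix

section Defs

variable {C F W : Type*} [Group C] [Field F] [AddCommGroup W] [Module F W]

/-- A submodule invariant under a representation. -/
def InvSub (ρ : C →* Module.End F W) (X : Submodule F W) : Prop :=
  ∀ c : C, ∀ w ∈ X, ρ c w ∈ X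

/-- A simple invariant submodule. -/
def SimpleSub (ρ : C →* Module.End F W) (X : Submodule F W) : Prop :=
  InvSub ρ X ∧ X ≠ ⊥ ∧ ∀ Y, InvSub ρ Y → Y ≤ X → Y = ⊥ ∨ Y = X

/-- The sum of the simple invariant submodules is everything. -/
def SocTop (ρ : C →* Module.End F W) : Prop :=
  sSup {X | SimpleSub ρ X} = ⊤

/-- The hypothesis that is inherited by the linear groups of smaller degree. -/
def GoodRep (p : ℕ) (ρ : C →* Module.End F W) : Prop :=
  ¬ p ∣ Nat.card C ∨ (SocTop ρ ∧ ¬ p ^ 2 ∣ Nat.card C)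

theorem invSub_sSup {ρ : C →* Module.End F W} {S : Set (Submodule F W)}
    (h : ∀ X ∈ S, InvSub ρ X) : InvSub ρ (sSup S) := by
  intro c w hw
  have : sSup S ≤ (sSup S).comap (ρ c) :=
    sSup_le fun X hX x hx => Submodule.mem_sSup_of_mem hX (h X hX c x hx)
  exact this hw

theorem rho_inv_cancel (ρ : C →* Module.End F W) (c : C) (w : W) : ρ c (ρ c⁻¹ w) = w := by
  rw [← rho_mul_apply, mul_inv_cancel, map_one, Module.End.one_apply]

theorem exists_simple_le [FiniteDimensional F W] {ρ : C →* Module.End F W} {X : Submodule F W}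
    (hX : InvSub ρ X) (h0 : X ≠ ⊥) : ∃ Y ≤ X, SimpleSub ρ Y := by
  classical
  induction hn : finrank F X using Nat.strong_induction_on generalizing X with
  | _ n ih =>
    by_cases hs : ∀ Y, InvSub ρ Y → Y ≤ X → Y = ⊥ ∨ Y = X
    · exact ⟨X, le_rfl, hX, h0, hs⟩
    push Not at hs
    obtain ⟨Y, hYi, hYX, hY0, hYne⟩ := hs
    obtain ⟨Z, hZ, hZs⟩ := ih (finrank F Y)
      (hn ▸ Submodule.finrank_lt_finrank_of_lt (lt_of_le_of_ne hYX hYne)) hYi hY0 rfl
    exact ⟨Z, hZ.trans hYX, hZs⟩

theorem socTop_of_comp {C' : Type*} [Group C'] {ρ : C' →* Module.End F W} (f : C →* C')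
    (hf : Function.Surjective f) (h : SocTop (ρ.comp f)) : SocTop ρ := by
  have hinv : ∀ X, InvSub (ρ.comp f) X ↔ InvSub ρ X := fun X =>
    ⟨fun hX c w hw => by obtain ⟨d, rfl⟩ := hf c; exact hX d w hw, fun hX c => hX (f c)⟩
  unfold SocTop SimpleSub at h ⊢
  simpa only [hinv] using h

theorem socTop_normal [FiniteDimensional F W] {ρ : C →* Module.End F W} (N : Subgroup C) [N.Normal]
    (h : SocTop ρ) : SocTop (ρ.comp N.subtype) := by
  set T := sSup {X | SimpleSub (ρ.comp N.subtype) X} with hT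
  have hTinv : InvSub ρ T := by
    intro g w hw
    suffices T ≤ T.comap (ρ g) from this hw
    refine sSup_le fun X hX x hx => Submodule.mem_sSup_of_mem (s := X.map (ρ g)) ?_ ⟨x, hx, rfl⟩
    have hmap : ∀ Y, InvSub (ρ.comp N.subtype) Y → ∀ g : C,
        InvSub (ρ.comp N.subtype) (Y.map (ρ g)) := by
      rintro Y hY g n _ ⟨y, hy, rfl⟩
      refine ⟨ρ (g⁻¹ * n * g) y, hY ⟨g⁻¹ * n * g, ?_⟩ y hy, ?_⟩
      · simpa using (inferInstance : N.Normal).conj_mem n n.2 g⁻¹
      · show _ = ρ (n : C) (ρ g y)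
        rw [← rho_mul_apply, ← rho_mul_apply]
        group
    have hback : ∀ Y : Submodule F W, ∀ g : C, (Y.map (ρ g⁻¹)).map (ρ g) = Y := by
      intro Y g
      rw [← Submodule.map_comp, ← Module.End.mul_eq_comp, ← map_mul, mul_inv_cancel, map_one,
        Module.End.one_eq_id, Submodule.map_id]
    refine ⟨hmap X hX.1 g, fun h0 => hX.2.1 ?_, fun Y hY hYX => ?_⟩
    · rw [← hback X g⁻¹, inv_inv, h0, Submodule.map_bot]
    · have hle : Y.map (ρ g⁻¹) ≤ X := by
        refine (Submodule.map_mono hYX).trans ?_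
        have := hback X g⁻¹
        rw [inv_inv] at this
        rw [this]
      rcases hX.2.2 _ (hmap Y hY g⁻¹) hle with h1 | h1
      · left; rw [← hback Y g, h1, Submodule.map_bot]
      · right; rw [← hback Y g, h1]
  rw [SocTop, ← hT, eq_top_iff, ← h]
  refine sSup_le fun X hX => ?_
  obtain ⟨Y, hYX, hY⟩ := exists_simple_le (ρ := ρ.comp N.subtype) (X := X) (fun n => hX.1 n) hX.2.1
  have hne : X ⊓ T ≠ ⊥ := fun h0 => hY.2.1 (le_bot_iff.mp (h0 ▸ le_inf hYX (le_sSup hY)))
  rcases hX.2.2 (X ⊓ T) (fun c w hw => ⟨hX.1 c w hw.1, hTinv c w hw.2⟩) inf_le_left with h1 | h1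
  · exact absurd h1 hne
  · exact inf_eq_left.mp h1

theorem goodRep_normal [FiniteDimensional F W] [Finite C] {p : ℕ} {ρ : C →* Module.End F W}
    (N : Subgroup C) [N.Normal] (h : GoodRep p ρ) : GoodRep p (ρ.comp N.subtype) := by
  rcases h with h | ⟨h1, h2⟩
  · exact Or.inl fun hd => h (hd.trans N.card_subgroup_dvd_card)
  · exact Or.inr ⟨socTop_normal N h1, fun hd => h2 (hd.trans N.card_subgroup_dvd_card)⟩

/-- Abelian normal subgroups of a good faithful representation have order prime to `p`. -/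
theorem goodRep_core [FiniteDimensional F W] [Finite C] {p : ℕ} [hp : Fact p.Prime] [CharP F p]
    {ρ : C →* Module.End F W} (hρ : Function.Injective ρ) (h : GoodRep p ρ) (A : Subgroup C)
    [hAn : A.Normal] (hA : ∀ a ∈ A, ∀ b ∈ A, a * b = b * a) : (Nat.card A : F) ≠ 0 := by
  rw [Ne, CharP.cast_eq_zero_iff F p]
  intro hd
  rcases h with h | ⟨hsoc, hsq⟩
  · exact h (hd.trans A.card_subgroup_dvd_card)
  obtain ⟨a, ha⟩ := exists_prime_orderOf_dvd_card' p hd
  have hu : orderOf (a : C) = p := (orderOf_injective A.subtype A.subtype_injective a).trans ha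
  set u : C := (a : C) with hu'
  -- conjugates of `u` are powers of `u`
  have hconj : ∀ g : C, ∃ k : ℕ, g⁻¹ * u * g = u ^ k := by
    intro g
    by_contra hno
    push Not at hno
    have hgA : g⁻¹ * u * g ∈ A := by simpa using hAn.conj_mem u a.2 g⁻¹
    have hgp : (g⁻¹ * u * g) ^ p = 1 := by
      have : (g⁻¹ * u * g) ^ p = g⁻¹ * u ^ p * g := by
        simpa using (conj_pow (i := p) (a := g⁻¹) (b := u))
      rw [this, ← hu, pow_orderOf_eq_one]; group
    have hcom : Commute (g⁻¹ * u * g) u := hA _ hgA _ a.2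
    -- the subgroup generated by both has order `p ^ 2`
    set f : Multiplicative (ZMod p) × Multiplicative (ZMod p) → C := fun x =>
      u ^ x.1.toAdd.val * (g⁻¹ * u * g) ^ x.2.toAdd.val with hf
    have hadd : ∀ (v : C), v ^ p = 1 → ∀ i j : ZMod p, v ^ (i + j).val = v ^ i.val * v ^ j.val :=
      fun v hv i j => by rw [← pow_add, ZMod.val_add, ← pow_eq_pow_mod _ hv]
    let F2 : Multiplicative (ZMod p) × Multiplicative (ZMod p) →* C :=
      MonoidHom.mk' f fun x y => by
        have hup : u ^ p = 1 := hu ▸ pow_orderOf_eq_one u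
        simp only [hf, Prod.fst_mul, Prod.snd_mul, toAdd_mul, hadd u hup, hadd _ hgp]
        exact ((hcom.pow_pow _ _).symm).mul_mul_mul_comm _ _
    have hinj : Function.Injective F2 := by
      rw [injective_iff_map_eq_one]
      rintro ⟨i, j⟩ hij
      change u ^ i.toAdd.val * (g⁻¹ * u * g) ^ j.toAdd.val = 1 at hij
      have hj : j.toAdd = 0 := by
        by_contra hj
        obtain ⟨m, hm⟩ : ∃ m : ℕ, (j.toAdd.val * m) % p = 1 % p := by
          refine ⟨(j.toAdd⁻¹ : ZMod p).val, ?_⟩
          rw [← ZMod.val_mul, mul_inv_cancel₀ hj, ZMod.val_one, Nat.mod_eq_of_lt hp.out.one_lt]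
        have h1 : (g⁻¹ * u * g) = (u ^ i.toAdd.val)⁻¹ ^ m := by
          calc g⁻¹ * u * g = (g⁻¹ * u * g) ^ (j.toAdd.val * m) := by
                rw [pow_eq_pow_mod _ hgp, hm, Nat.mod_eq_of_lt hp.out.one_lt, pow_one]
            _ = _ := by rw [pow_mul, eq_inv_of_mul_eq_one_right hij]
        have h2 : (u ^ i.toAdd.val)⁻¹ ^ m ∈ Submonoid.powers u := by
          rw [mem_powers_iff_mem_zpowers]
          exact pow_mem (inv_mem (pow_mem (Subgroup.mem_zpowers u) _)) _
        obtain ⟨k, hk⟩ := h2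
        exact hno k (h1.trans hk.symm)
      rw [hj, ZMod.val_zero, pow_zero, mul_one] at hij
      have hi : i.toAdd = 0 := by
        have := orderOf_dvd_of_pow_eq_one hij
        rw [hu] at this
        exact (ZMod.val_eq_zero _).mp (Nat.eq_zero_of_dvd_of_lt this (ZMod.val_lt _))
      exact Prod.ext (Multiplicative.toAdd.injective hi) (Multiplicative.toAdd.injective hj)
    apply hsq
    have h3 : Nat.card F2.range = p ^ 2 := by
      rw [← Nat.card_congr (MonoidHom.ofInjective hinj).toEquiv, Nat.card_prod,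
        Nat.card_congr Multiplicative.toAdd, Nat.card_zmod, sq]
    exact h3 ▸ F2.range.card_subgroup_dvd_card
  -- `u` fixes every simple submodule
  have hfix : ∀ X, SimpleSub ρ X → ∀ x ∈ X, ρ u x = x := by
    intro X hX
    let Y : Submodule F W :=
      { carrier := {x | x ∈ X ∧ ρ u x = x}
        zero_mem' := ⟨X.zero_mem, map_zero _⟩
        add_mem' := fun {x y} hx hy => ⟨X.add_mem hx.1 hy.1, by rw [map_add, hx.2, hy.2]⟩
        smul_mem' := fun c x hx => ⟨X.smul_mem c hx.1, by rw [map_smul, hx.2]⟩ }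
    have hpow : ∀ k : ℕ, ∀ x, ρ u x = x → ρ (u ^ k) x = x := fun k x hx => by
      induction k with
      | zero => simp
      | succ k ih => rw [pow_succ, rho_mul_apply, hx, ih]
    have hY : InvSub ρ Y := by
      rintro g x ⟨hx, hux⟩
      refine ⟨hX.1 g x hx, ?_⟩
      obtain ⟨k, hk⟩ := hconj g
      rw [← rho_mul_apply, show u * g = g * (g⁻¹ * u * g) from by group, hk, rho_mul_apply,
        hpow k x hux]
    rcases hX.2.2 Y hY (fun x hx => hx.1) with h1 | h1
    · exfalso
      set T : Module.End F W := ρ u - 1 with hT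
      have hTp : T ^ p = 0 := by
        haveI : CharP (Module.End F W) p := by
          rcases subsingleton_or_nontrivial W with hW | hW
          · exact absurd (Subsingleton.elim X ⊥) hX.2.1
          · exact charP_of_injective_algebraMap (algebraMap F (Module.End F W)).injective p
        rw [hT, sub_pow_char_of_commute (p := p) (h := Commute.one_right _), one_pow, ← map_pow, ← hu,
          pow_orderOf_eq_one, map_one, sub_self]
      obtain ⟨x, hx, hx0⟩ := Submodule.exists_mem_ne_zero_of_ne_bot hX.2.1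
      have hTX : ∀ k : ℕ, (T ^ k) x ∈ X := fun k => by
        induction k with
        | zero => exact hx
        | succ k ih =>
          rw [pow_succ', Module.End.mul_apply, hT, LinearMap.sub_apply, Module.End.one_apply]
          exact X.sub_mem (hX.1 u _ ih) ih
      have hall : ∀ k : ℕ, (T ^ k) x ≠ 0 := fun k => by
        induction k with
        | zero => exact hx0
        | succ k ih =>
          intro h0
          rw [pow_succ', Module.End.mul_apply, hT, LinearMap.sub_apply, Module.End.one_apply,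
            sub_eq_zero] at h0
          exact ih ((Submodule.eq_bot_iff Y).mp h1 _ ⟨hTX k, h0⟩)
      exact hall p (by rw [hTp]; rfl)
    · intro x hx
      exact (h1.ge hx).2
  have h1 : ρ u = 1 := by
    refine LinearMap.ext fun w => ?_
    have hle : (⊤ : Submodule F W) ≤ LinearMap.eqLocus (ρ u) 1 := by
      rw [← hsoc]; exact sSup_le fun X hX x hx => hfix X hX x hx
    exact hle (Submodule.mem_top (x := w))
  have := hρ (h1.trans (map_one ρ).symm)
  rw [this, orderOf_one] at hu
  exact hp.out.one_lt.ne hu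

/-- Restriction to a weight space of a central subgroup. -/
theorem socTop_restrict [IsAlgClosed F] [FiniteDimensional F W] [Finite C]
    {ρ : C →* Module.End F W} {B : Subgroup C} (hcen : ∀ c : C, ∀ b ∈ B, b * c = c * b)
    (hB0 : (Nat.card B : F) ≠ 0) (h : SocTop ρ) (χ : B → F)
    (σ : C →* Module.End F (wsp ρ B χ)) (hσ : ∀ c w, ((σ c w : wsp ρ B χ) : W) = ρ c w) :
    SocTop σ := by
  classical
  have hA : ∀ a ∈ B, ∀ b ∈ B, a * b = b * a := fun a ha b _ => hcen b a ha
  have hpres : ∀ ψ : B → F, InvSub ρ (wsp ρ B ψ) := by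
    intro ψ c w hw
    rw [mem_wsp] at hw ⊢
    intro b
    rw [← rho_mul_apply, hcen c b b.2, rho_mul_apply, hw b, map_smul]
  -- every simple submodule lies in a weight space
  have hloc : ∀ X, SimpleSub ρ X → ∃ ψ : B → F, X ≤ wsp ρ B ψ := by
    intro X hX
    let τ : C →* Module.End F X :=
      { toFun := fun c => (ρ c).restrict (hX.1 c)
        map_one' := LinearMap.ext fun v => Subtype.ext (by simp [LinearMap.restrict_apply])
        map_mul' := fun c c' => LinearMap.ext fun v => Subtype.ext (by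
          simp [LinearMap.restrict_apply, Module.End.mul_apply]) }
    haveI : Nontrivial X := Submodule.nontrivial_iff_ne_bot.mpr hX.2.1
    obtain ⟨ψ, hψ⟩ : ∃ ψ : B → F, wsp τ B ψ ≠ ⊥ := by
      by_contra hc
      push Not at hc
      have := iSup_wsp (ρ := τ) hA hB0
      simp only [hc, iSup_bot] at this
      exact bot_ne_top this
    obtain ⟨v, hv, hv0⟩ := Submodule.exists_mem_ne_zero_of_ne_bot hψ
    have hmem : (v : W) ∈ wsp ρ B ψ := mem_wsp.mpr fun b =>
      congrArg Subtype.val (mem_wsp.mp hv b)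
    refine ⟨ψ, ?_⟩
    rcases hX.2.2 (X ⊓ wsp ρ B ψ) (fun c w hw => ⟨hX.1 c w hw.1, hpres ψ c w hw.2⟩) inf_le_left
      with h1 | h1
    · exact absurd (Subtype.ext ((Submodule.eq_bot_iff _).mp h1 v ⟨v.2, hmem⟩)) hv0
    · exact inf_eq_left.mp h1
  set S := fun ψ : B → F => sSup {X | SimpleSub ρ X ∧ X ≤ wsp ρ B ψ} with hS
  have hSle : ∀ ψ, S ψ ≤ wsp ρ B ψ := fun ψ => sSup_le fun X hX => hX.2
  have hcover : (⊤ : Submodule F W) ≤ S χ ⊔ ⨆ ψ, ⨆ (_ : ψ ≠ χ), wsp ρ B ψ := by
    rw [← h]
    refine sSup_le fun X hX => ?_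
    obtain ⟨ψ, hψ⟩ := hloc X hX
    by_cases he : ψ = χ
    · subst he; exact le_sup_of_le_left (le_sSup ⟨hX, hψ⟩)
    · exact le_sup_of_le_right (le_iSup_of_le ψ (le_iSup_of_le he hψ))
  have hwle : wsp ρ B χ ≤ S χ := by
    intro w hw
    obtain ⟨s, hs, r, hr, hsr⟩ := Submodule.mem_sup.mp (hcover (Submodule.mem_top (x := w)))
    have hrw : r ∈ wsp ρ B χ := by
      rw [show r = w - s from by rw [← hsr]; abel]
      exact sub_mem hw (hSle χ hs)
    rw [(Submodule.disjoint_def.mp ((indep_wsp (ρ := ρ) hA hB0) χ)) r hrw hr, add_zero] at hsr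
    exact hsr ▸ hs
  rw [SocTop, eq_top_iff]
  intro v _
  have hv : (v : W) ∈ (sSup {X | SimpleSub σ X}).map (wsp ρ B χ).subtype := by
    refine (sSup_le fun X hX => ?_ : S χ ≤ _) (hwle v.2)
    intro x hx
    refine ⟨⟨x, hX.2 hx⟩, Submodule.mem_sSup_of_mem (s := X.comap (wsp ρ B χ).subtype) ?_ hx, rfl⟩
    refine ⟨fun c w hw => ?_, fun h0 => hX.1.2.1 ?_, fun Y hY hYX => ?_⟩
    · show ((σ c w : wsp ρ B χ) : W) ∈ X
      rw [hσ]; exact hX.1.1 c w hw
    · rw [Submodule.eq_bot_iff] at h0 ⊢
      exact fun y hy => congrArg Subtype.val (h0 ⟨y, hX.2 hy⟩ hy)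
    · have hYm : InvSub ρ (Y.map (wsp ρ B χ).subtype) := by
        rintro c _ ⟨y, hy, rfl⟩
        exact ⟨σ c y, hY c y hy, hσ c y⟩
      rcases hX.1.2.2 _ hYm (Submodule.map_le_iff_le_comap.mpr hYX) with h1 | h1
      · left
        rw [Submodule.eq_bot_iff] at h1 ⊢
        exact fun y hy => Subtype.ext (h1 _ ⟨y, hy, rfl⟩)
      · right; rw [← h1, Submodule.comap_map_eq_of_injective (Submodule.injective_subtype _)]
  obtain ⟨y, hy, hyv⟩ := hv
  exact Subtype.ext hyv ▸ hy

end Defs

section BaseChange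

variable {H : Type*} [Group H] {p : ℕ} [hp : Fact p.Prime] {n : ℕ} {F : Type*} [Field F]
  [IsAlgClosed F] [Algebra (ZMod p) F] [CharP F p]

/-- An irreducible matrix group over the prime field stays semisimple over its closure. -/
theorem socTop_of_irreducible (M : H →* Matrix (Fin n) (Fin n) (ZMod p))
    (L : H →* Module.End F (Fin n → F))
    (hL : ∀ h v, L h v = (M h).map (algebraMap (ZMod p) F) *ᵥ v) (hn : 0 < n)
    (hirr : ∀ U : Submodule (ZMod p) (Fin n → ZMod p),
      (∀ h, ∀ u ∈ U, M h *ᵥ u ∈ U) → U ≠ ⊥ → U = ⊤) : SocTop L := by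
  classical
  let σ : F ≃+* F := RingEquiv.ofBijective (frobenius F p) (PerfectRing.bijective_frobenius (p := p))
  let φ : (Fin n → F) →ₛₗ[(σ : F →+* F)] (Fin n → F) :=
    { toFun := fun v i => σ (v i)
      map_add' := fun u v => _root_.funext fun i => map_add σ _ _
      map_smul' := fun c v => _root_.funext fun i => map_mul σ _ _ }
  let ψ : (Fin n → F) →ₛₗ[(σ.symm : F →+* F)] (Fin n → F) :=
    { toFun := fun v i => σ.symm (v i)
      map_add' := fun u v => _root_.funext fun i => map_add σ.symm _ _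
      map_smul' := fun c v => _root_.funext fun i => map_mul σ.symm _ _ }
  have hφψ : ∀ v, φ (ψ v) = v := fun v => _root_.funext fun i => σ.apply_symm_apply (v i)
  have hψφ : ∀ v, ψ (φ v) = v := fun v => _root_.funext fun i => σ.symm_apply_apply (v i)
  have hσalg : ∀ a : ZMod p, σ (algebraMap (ZMod p) F a) = algebraMap (ZMod p) F a := fun a => by
    show frobenius F p _ = _
    rw [frobenius_def, ← map_pow, ZMod.pow_card]
  have hφL : ∀ h v, φ (L h v) = L h (φ v) := by
    intro h v
    funext i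
    show σ (L h v i) = L h (φ v) i
    simp only [hL, Matrix.mulVec, dotProduct, Matrix.map_apply, map_sum, map_mul, hσalg]
    rfl
  have hψL : ∀ h v, ψ (L h v) = L h (ψ v) := fun h v => by
    rw [← hψφ (L h (ψ v)), hφL, hφψ]
  have hinvφ : ∀ X, InvSub L X → InvSub L (X.comap φ) := fun X hX h v hv => by
    show φ (L h v) ∈ X
    rw [hφL]; exact hX h _ hv
  have hinvψ : ∀ X, InvSub L X → InvSub L (X.comap ψ) := fun X hX h v hv => by
    show ψ (L h v) ∈ X
    rw [hψL]; exact hX h _ hv
  set S := sSup {X | SimpleSub L X} with hS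
  have hSinv : InvSub L S := invSub_sSup fun X hX => hX.1
  have hSφ : ∀ v ∈ S, φ v ∈ S := by
    suffices S ≤ S.comap φ from this
    refine sSup_le fun X hX x hx => Submodule.mem_sSup_of_mem (s := X.comap ψ) ?_ ?_
    · refine ⟨hinvψ X hX.1, fun h0 => hX.2.1 ?_, fun Y hY hYX => ?_⟩
      · rw [Submodule.eq_bot_iff] at h0 ⊢
        intro y hy
        have := h0 (φ y) (by show ψ (φ y) ∈ X; rwa [hψφ])
        rw [← hψφ y, this, map_zero]
      · rcases hX.2.2 (Y.comap φ) (hinvφ Y hY) (fun y hy => by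
          have := hYX hy
          show y ∈ X
          have h2 : ψ (φ y) ∈ X := this
          rwa [hψφ] at h2) with h1 | h1
        · left
          rw [Submodule.eq_bot_iff] at h1 ⊢
          intro y hy
          have := h1 (ψ y) (by show φ (ψ y) ∈ Y; rwa [hφψ])
          rw [← hφψ y, this, map_zero]
        · right
          refine le_antisymm hYX fun y hy => ?_
          have h2 : ψ y ∈ Y.comap φ := h1.ge hy
          have h3 : φ (ψ y) ∈ Y := h2
          rwa [hφψ] at h3
    · show ψ (φ x) ∈ X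
      rwa [hψφ]
  -- a rational vector in the socle
  have hS0 : S ≠ ⊥ := by
    haveI : Nonempty (Fin n) := ⟨⟨0, hn⟩⟩
    obtain ⟨Y, -, hY⟩ := exists_simple_le (ρ := L) (X := ⊤) (fun _ _ _ => Submodule.mem_top)
      top_ne_bot
    exact fun h0 => hY.2.1 (le_bot_iff.mp (h0 ▸ le_sSup hY))
  obtain ⟨x, ⟨hxS, hx0⟩, hxmin⟩ : ∃ x ∈ {x : Fin n → F | x ∈ S ∧ x ≠ 0}, ∀ y : Fin n → F,
      y ∈ S → y ≠ 0 → (Finset.univ.filter fun i => x i ≠ 0).card ≤
        (Finset.univ.filter fun i => y i ≠ 0).card := by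
    obtain ⟨x, hx, hx0⟩ := Submodule.exists_mem_ne_zero_of_ne_bot hS0
    have hex : ∃ k, ∃ y ∈ S, y ≠ 0 ∧ (Finset.univ.filter fun i => y i ≠ 0).card = k :=
      ⟨_, x, hx, hx0, rfl⟩
    obtain ⟨y, hy, hy0, hyk⟩ := Nat.find_spec hex
    exact ⟨y, ⟨hy, hy0⟩, fun z hz hz0 => hyk ▸ Nat.find_min' hex ⟨z, hz, hz0, rfl⟩⟩
  obtain ⟨i, hi⟩ := Function.ne_iff.mp hx0
  rw [Pi.zero_apply] at hi
  set y : Fin n → F := (x i)⁻¹ • x with hy
  have hyi : y i = 1 := inv_mul_cancel₀ hi
  have hyS : y ∈ S := S.smul_mem _ hxS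
  have hφy : φ y = y := by
    by_contra hne
    have hle := hxmin (φ y - y) (sub_mem (hSφ y hyS) hyS) (sub_ne_zero.mpr hne)
    have hlt : (Finset.univ.filter fun j => (φ y - y) j ≠ 0).card <
        (Finset.univ.filter fun j => x j ≠ 0).card := by
      refine Finset.card_lt_card (Finset.ssubset_iff_of_subset (fun j hj => ?_) |>.mpr ⟨i, ?_, ?_⟩)
      · simp only [Finset.mem_filter, Finset.mem_univ, true_and] at hj ⊢
        intro hxj
        apply hj
        have hyj : y j = 0 := by simp [hy, hxj]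
        show σ (y j) - y j = 0
        rw [hyj, map_zero, sub_zero]
      · simp [hi]
      · simp only [Finset.mem_filter, Finset.mem_univ, true_and, not_not]
        show σ (y i) - y i = 0
        rw [hyi, map_one, sub_self]
    omega
  have hrat : ∀ j, ∃ a : ZMod p, algebraMap (ZMod p) F a = y j := by
    intro j
    have hj : y j ^ p = y j := congrFun hφy j
    by_contra hno
    push Not at hno
    set P : Polynomial F := Polynomial.X ^ p - Polynomial.X
    have hP : P ≠ 0 := FiniteField.X_pow_card_sub_X_ne_zero F hp.out.one_lt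
    set R := insert (y j) (Finset.univ.image (algebraMap (ZMod p) F))
    have hR : R.card ≤ P.natDegree := Polynomial.card_le_degree_of_subset_roots fun r hr => by
      rw [Polynomial.mem_roots hP, Polynomial.IsRoot, Polynomial.eval_sub, Polynomial.eval_pow,
        Polynomial.eval_X, sub_eq_zero]
      rcases Finset.mem_insert.mp hr with rfl | hr
      · exact hj
      · obtain ⟨a, -, rfl⟩ := Finset.mem_image.mp hr
        rw [← map_pow, ZMod.pow_card]
    rw [Finset.card_insert_of_notMem (by simpa using fun a => hno a),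
      Finset.card_image_of_injective _ (algebraMap (ZMod p) F).injective, Finset.card_univ, ZMod.card,
      FiniteField.X_pow_card_sub_X_natDegree_eq F hp.out.one_lt] at hR
    omega
  choose v hv using hrat
  let ι : (Fin n → ZMod p) → (Fin n → F) := fun u j => algebraMap (ZMod p) F (u j)
  let U : Submodule (ZMod p) (Fin n → ZMod p) :=
    { carrier := {u | ι u ∈ S}
      zero_mem' := by
        show ι 0 ∈ S
        rw [show ι 0 = 0 from _root_.funext fun j => map_zero _]; exact S.zero_mem
      add_mem' := fun {a b} ha hb => by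
        show ι (a + b) ∈ S
        rw [show ι (a + b) = ι a + ι b from _root_.funext fun j => map_add _ _ _]
        exact S.add_mem ha hb
      smul_mem' := fun c a ha => by
        show ι (c • a) ∈ S
        rw [show ι (c • a) = algebraMap (ZMod p) F c • ι a from _root_.funext fun j => map_mul _ _ _]
        exact S.smul_mem _ ha }
  have hU : U = ⊤ := by
    refine hirr U (fun h u hu => ?_) fun h0 => ?_
    · show ι (M h *ᵥ u) ∈ S
      have : ι (M h *ᵥ u) = L h (ι u) := by
        rw [hL]
        funext j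
        simp only [ι, Matrix.mulVec, dotProduct, Matrix.map_apply, map_sum, map_mul]
      rw [this]; exact hSinv h _ hu
    · have hmem : v ∈ U := by
        show ι v ∈ S
        rwa [show ι v = y from _root_.funext hv]
      rw [h0, Submodule.mem_bot] at hmem
      have := hv i
      rw [hmem, Pi.zero_apply, map_zero, hyi] at this
      exact zero_ne_one this
  rw [SocTop, eq_top_iff]
  intro w _
  have hsum : w = ∑ j, w j • (Pi.single j (1 : F) : Fin n → F) := by
    funext k; simp [Finset.sum_apply, Pi.single_apply]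
  rw [hsum]
  refine Submodule.sum_mem _ fun j _ => Submodule.smul_mem _ _ ?_
  have : (Pi.single j (1 : ZMod p) : Fin n → ZMod p) ∈ U := hU ▸ Submodule.mem_top
  have h2 : ι (Pi.single j 1) = Pi.single j (1 : F) := by
    funext k
    by_cases hk : k = j
    · subst hk; simp [ι]
    · simp [ι, hk]
  exact h2 ▸ this

end BaseChange

end Cfsg.Agent.Lib.ClassLowerSolv
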