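import Mathlib
import Cfsg.Agent.Lib.ClassLowerSolv.Pairing
import Cfsg.Agent.Lib.ClassLowerSolv.Linear
import Cfsg.Agent.Lib.ClassLowerSolv.Count
import Cfsg.Agent.Lib.ClassLowerSolv.Semisimple

/-!
# Linear groups whose abelian normal subgroup is scalar
-/

set_option autoImplicit false
set_option linter.style.haveILetI false

namespace Cfsg.Agent.Lib.ClassLowerSolv

open Module

variable {K : Type*} [Group K] [Finite K] {F : Type*} [Field F] {W : Type*} [AddCommGroup W]
  [Module F W] [FiniteDimensional F W]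

/-- Scalars that are commutators are roots of unity of order dividing the degree. -/
theorem commutator_scalar_pow (σ : K →* Module.End F W) (g x : K) {c : F}
    (h : σ (g * x * g⁻¹ * x⁻¹) = c • 1) : c ^ finrank F W = 1 := by
  have h1 : LinearMap.det (σ (g * x * g⁻¹ * x⁻¹)) = 1 := by
    let D : K →* F := LinearMap.det.comp σ
    show D (g * x * g⁻¹ * x⁻¹) = 1
    rw [map_mul, map_mul, map_mul, mul_right_comm (D g), ← map_mul, mul_inv_cancel, map_one, one_mul,
      ← map_mul, mul_inv_cancel, map_one]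
  rwa [h, LinearMap.det_smul, map_one, mul_one] at h1

/-- The scalar by which a central element acts, as a homomorphism. -/
theorem exists_scalar_hom [Nontrivial W] (σ : K →* Module.End F W) (B : Subgroup K)
    (hscal : ∀ b ∈ B, ∃ c : F, σ b = c • 1) :
    ∃ χ : B →* Fˣ, ∀ b : B, σ b = (χ b : F) • 1 := by
  choose c hc using fun b : B => hscal b b.2
  have hinj : Function.Injective fun t : F => t • (1 : Module.End F W) :=
    smul_left_injective F one_ne_zero
  let f : B →* F :=
    { toFun := c
      map_one' := hinj (by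
        show c 1 • (1 : Module.End F W) = (1 : F) • 1
        rw [← hc, Subgroup.coe_one, map_one, one_smul])
      map_mul' := fun a b => hinj (by
        show c (a * b) • (1 : Module.End F W) = (c a * c b) • 1
        rw [← hc, Subgroup.coe_mul, map_mul, hc, hc, smul_mul_smul_comm, mul_one]) }
  refine ⟨f.toHomUnits, fun b => ?_⟩
  rw [MonoidHom.coe_toHomUnits]
  exact hc b

omit [FiniteDimensional F W] in
theorem scalar_central {σ : K →* Module.End F W} (hσ : Function.Injective σ) {B : Subgroup K}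
    (hscal : ∀ b ∈ B, ∃ c : F, σ b = c • 1) : ∀ g : K, ∀ b ∈ B, g * b = b * g := by
  intro g b hb
  obtain ⟨c, hc⟩ := hscal b hb
  apply hσ
  rw [map_mul, map_mul, hc]
  simp

/-- Classes lying over a quotient by a central subgroup. -/
theorem classes_central_ge (N : Subgroup K) [N.Normal] (hN : ∀ g : K, ∀ n ∈ N, g * n = n * g)
    (R : ℕ)
    (hR : {n : N | ∃ g x : K, g * x * g⁻¹ * x⁻¹ = n}.ncard ≤ R) :
    Nat.card N * (R + Nat.card (ConjClasses (K ⧸ N))) ≤
      R * Nat.card (ConjClasses K) + Nat.card N := by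
  classical
  haveI := Fintype.ofFinite K
  haveI := Fintype.ofFinite (ConjClasses K)
  haveI := Fintype.ofFinite (ConjClasses (K ⧸ N))
  set π := ConjClasses.map (QuotientGroup.mk' N) with hπ
  set z := Nat.card N with hz
  have hfib : ∀ d : ConjClasses (K ⧸ N),
      z ≤ R * (Finset.univ.filter fun c => π c = d).card := by
    intro d
    obtain ⟨d', rfl⟩ := ConjClasses.mk_surjective d
    obtain ⟨x, rfl⟩ := QuotientGroup.mk_surjective d'
    let f : N → ConjClasses K := fun n => ConjClasses.mk (x * n)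
    have h := Finset.card_le_mul_card_image (f := f) (Finset.univ : Finset N) R fun c hc => by
      obtain ⟨n₀, -, rfl⟩ := Finset.mem_image.mp hc
      refine le_trans ?_ hR
      rw [← Set.ncard_coe_finset]
      refine Set.ncard_le_ncard_of_injOn (fun n : N => n * n₀⁻¹) (fun n hn => ?_)
        (fun a _ b _ hab => mul_right_cancel hab) (Set.toFinite _)
      simp only [Finset.coe_filter, Finset.mem_univ, true_and, Set.mem_setOf_eq, f] at hn
      obtain ⟨g, hg⟩ := isConj_iff.mp (ConjClasses.mk_eq_mk_iff_isConj.mp hn).symm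
      refine ⟨g, x * n₀, ?_⟩
      rw [hg, Subgroup.coe_mul, Subgroup.coe_inv, mul_inv_rev, mul_assoc x, ← mul_assoc (n : K),
        ← hN x⁻¹ _ (mul_mem n.2 (inv_mem n₀.2)), ← mul_assoc, mul_inv_cancel, one_mul]
    rw [Finset.card_univ, ← Nat.card_eq_fintype_card, ← hz] at h
    refine h.trans (Nat.mul_le_mul_left _ (Finset.card_le_card fun c hc => ?_))
    obtain ⟨n, -, rfl⟩ := Finset.mem_image.mp hc
    refine Finset.mem_filter.mpr ⟨Finset.mem_univ _, ?_⟩
    show ConjClasses.mk (QuotientGroup.mk' N (x * n)) = ConjClasses.mk (x : K ⧸ N)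
    rw [QuotientGroup.mk'_apply, QuotientGroup.mk_mul_of_mem x n.2]
  have hone : z ≤ (Finset.univ.filter fun c => π c = 1).card := by
    rw [hz, Nat.card_eq_fintype_card, ← Finset.card_univ]
    refine Finset.card_le_card_of_injOn (fun n : N => ConjClasses.mk (n : K)) (fun n _ => ?_)
      fun a _ b _ hab => ?_
    · refine Finset.mem_filter.mpr ⟨Finset.mem_univ _, ?_⟩
      show ConjClasses.mk (QuotientGroup.mk' N (n : K)) = ConjClasses.mk 1
      rw [QuotientGroup.mk'_apply, (QuotientGroup.eq_one_iff (n : K)).mpr n.2]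
    · obtain ⟨g, hg⟩ := isConj_iff.mp (ConjClasses.mk_eq_mk_iff_isConj.mp hab)
      rw [hN g _ a.2, mul_inv_cancel_right] at hg
      exact Subtype.ext hg
  have htot : Nat.card (ConjClasses K) =
      ∑ d, (Finset.univ.filter fun c => π c = d).card := by
    rw [Nat.card_eq_fintype_card, ← Finset.card_univ]
    exact Finset.card_eq_sum_card_fiberwise fun c _ => Finset.mem_univ _
  rw [htot, ← Finset.add_sum_erase _ _ (Finset.mem_univ (1 : ConjClasses (K ⧸ N))), mul_add R,
    Finset.mul_sum, Nat.card_eq_fintype_card, ← Finset.card_univ,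
    ← Finset.card_erase_add_one (Finset.mem_univ (1 : ConjClasses (K ⧸ N))), mul_add, mul_add, mul_one]
  have h1 : z * R ≤ R * (Finset.univ.filter fun c => π c = 1).card := by
    rw [mul_comm]; exact Nat.mul_le_mul_left _ hone
  have h2 : z * (Finset.univ.erase (1 : ConjClasses (K ⧸ N))).card ≤
      ∑ d ∈ Finset.univ.erase (1 : ConjClasses (K ⧸ N)),
        R * (Finset.univ.filter fun c => π c = d).card := by
    rw [mul_comm, ← smul_eq_mul, ← Finset.sum_const]
    exact Finset.sum_le_sum fun d _ => hfib d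
  omega

/-- Class number bound over a scalar subgroup. -/
theorem scalar_classes [Nontrivial W] {σ : K →* Module.End F W} (hσ : Function.Injective σ)
    (B : Subgroup K) [B.Normal] (hscal : ∀ b ∈ B, ∃ c : F, σ b = c • 1) :
    Nat.card B * (Nat.gcd (Nat.card B) (finrank F W) + Nat.card (ConjClasses (K ⧸ B))) ≤
      Nat.gcd (Nat.card B) (finrank F W) * Nat.card (ConjClasses K) + Nat.card B := by
  classical
  refine classes_central_ge B (scalar_central hσ hscal) _ ?_
  obtain ⟨χ, hχ⟩ := exists_scalar_hom σ B hscal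
  have hχinj : Function.Injective χ := fun a b h => Subtype.ext (hσ (by rw [hχ, hχ, h]))
  set R := Nat.gcd (Nat.card B) (finrank F W)
  have hR0 : 0 < R := Nat.gcd_pos_of_pos_left _ Nat.card_pos
  refine le_trans ?_ (Polynomial.card_nthRoots R (1 : F))
  refine le_trans ?_ (Multiset.toFinset_card_le _)
  rw [← Set.ncard_coe_finset]
  refine Set.ncard_le_ncard_of_injOn (fun n : B => ((χ n : Fˣ) : F)) (fun n hn => ?_)
    (fun a _ b _ hab => hχinj (Units.ext hab)) (Set.toFinite _)
  obtain ⟨g, x, hgx⟩ := hn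
  rw [Finset.mem_coe, Multiset.mem_toFinset, Polynomial.mem_nthRoots hR0]
  refine pow_gcd_eq_one.mpr ⟨?_, commutator_scalar_pow σ g x (by rw [hgx]; exact hχ n)⟩
  rw [← Units.val_pow_eq_pow_val, ← map_pow, pow_card_eq_one', map_one, Units.val_one]

section Layer

variable [IsAlgClosed F] [Nontrivial W] [Group.IsSolvable K]

/-- The layer over a maximal scalar abelian normal subgroup. -/
theorem exists_scalar_layer {σ : K →* Module.End F W} (hσ : Function.Injective σ)
    (B : Subgroup K) [B.Normal] (hscal : ∀ b ∈ B, ∃ c : F, σ b = c • 1)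
    (hBmax : ∀ D : Subgroup K, D.Normal → (∀ a ∈ D, ∀ b ∈ D, a * b = b * a) → B ≤ D → D = B) :
    ∃ E : Subgroup K, ∃ hEn : E.Normal, ∃ y : ℕ, B ≤ E ∧
      (∀ e ∈ E, ∀ f ∈ E, e * f * e⁻¹ * f⁻¹ ∈ B) ∧
      (∀ k : K, (∀ e ∈ E, k * e * k⁻¹ * e⁻¹ ∈ B) → k ∈ E) ∧
      (∀ k : K, (∀ e ∈ E, k * e = e * k) → k ∈ B) ∧
      1 ≤ y ∧ y ≤ finrank F W ∧ (∀ q : ℕ, q.Prime → q ∣ y → q ∣ finrank F W) ∧
      Nat.card E = Nat.card B * y ^ 2 ∧ E.index ≤ symBound y := by
  classical
  have hcentral := scalar_central hσ hscal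
  have hA : ∀ a ∈ B, ∀ b ∈ B, a * b = b * a := fun a _ b hb => hcentral a b hb
  have hK : ∀ k : K, k ∈ Subgroup.centralizer (B : Set K) := fun k =>
    Subgroup.mem_centralizer_iff.mpr fun b hb => (hcentral k b hb).symm
  obtain ⟨E, hEn, hBE, -, hEc, hcen, hTE⟩ := exists_layer B hA hBmax
  obtain ⟨χ, hχ⟩ := exists_scalar_hom σ B hscal
  have hχinj : Function.Injective χ := fun a b h => Subtype.ext (hσ (by rw [hχ, hχ, h]))
  haveI := hEn
  set BE := B.subgroupOf E with hBEdef
  let cm : E → E → B := fun e f => ⟨(e : K) * f * (e : K)⁻¹ * (f : K)⁻¹, hEc e e.2 f f.2⟩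
  have cm_mul : ∀ e e' f : E, cm (e * e') f = cm e' f * cm e f := by
    intro e e' f
    refine Subtype.ext ?_
    show ((e : K) * e') * f * ((e : K) * e')⁻¹ * (f : K)⁻¹ =
      ((e' : K) * f * (e' : K)⁻¹ * (f : K)⁻¹) * ((e : K) * f * (e : K)⁻¹ * (f : K)⁻¹)
    have hc := hcentral e _ (hEc e' e'.2 f f.2)
    rw [show ((e : K) * e') * f * ((e : K) * e')⁻¹ * (f : K)⁻¹ =
      e * ((e' : K) * f * (e' : K)⁻¹ * (f : K)⁻¹) * ((f : K) * (e : K)⁻¹ * (f : K)⁻¹) from by group,
      hc]
    group
  have cm_inv : ∀ e f : E, cm f e = (cm e f)⁻¹ := fun e f => Subtype.ext (by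
    show (f : K) * e * (f : K)⁻¹ * (e : K)⁻¹ = ((e : K) * f * (e : K)⁻¹ * (f : K)⁻¹)⁻¹
    group)
  have cm_one : ∀ e f : E, (f : K) ∈ B → cm e f = 1 := fun e f hf => Subtype.ext (by
    show (e : K) * f * (e : K)⁻¹ * (f : K)⁻¹ = 1
    rw [hcentral e _ hf, mul_inv_cancel_right, mul_inv_cancel])
  have hmulr : ∀ e f f' : E, χ (cm e (f * f')) = χ (cm e f) * χ (cm e f') := fun e f f' => by
    rw [cm_inv (f * f') e, cm_mul, mul_inv_rev, map_mul, ← cm_inv f e, ← cm_inv f' e]
  haveI hBEn : BE.Normal := inferInstance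
  haveI hcomm : IsMulCommutative (E ⧸ BE) := ⟨⟨fun u v => by
    obtain ⟨e, rfl⟩ := QuotientGroup.mk_surjective u
    obtain ⟨f, rfl⟩ := QuotientGroup.mk_surjective v
    rw [← QuotientGroup.mk_mul, ← QuotientGroup.mk_mul, QuotientGroup.eq,
      Subgroup.mem_subgroupOf]
    have h := hEc _ (inv_mem f.2) _ (inv_mem e.2)
    simpa [mul_assoc] using h⟩⟩
  letI : CommGroup (E ⧸ BE) :=
    { (inferInstance : Group (E ⧸ BE)) with mul_comm := hcomm.is_comm.comm }
  -- the pairing
  let P0 : E →* (E ⧸ BE) →* Fˣ := MonoidHom.mk'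
    (fun e => QuotientGroup.lift BE (MonoidHom.mk' (fun f => χ (cm e f)) (hmulr e)) fun f hf => by
      show χ (cm e f) = 1
      rw [cm_one e f hf, map_one])
    fun e e' => by
      refine MonoidHom.ext fun q => ?_
      obtain ⟨f, rfl⟩ := QuotientGroup.mk_surjective q
      show χ (cm (e * e') f) = χ (cm e f) * χ (cm e' f)
      rw [cm_mul, map_mul, mul_comm]
  let P : (E ⧸ BE) →* (E ⧸ BE) →* Fˣ := QuotientGroup.lift BE P0 fun e he => MonoidHom.ext fun q => by
    obtain ⟨f, rfl⟩ := QuotientGroup.mk_surjective q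
    show χ (cm e f) = 1
    rw [cm_inv f e, cm_one f e he, inv_one, map_one]
  have hP : ∀ e f : E, P e f = χ (cm e f) := fun e f => rfl
  have hmap : ∀ k : K,
      Subgroup.map (MulAut.conjNormal (H := E) k : E ≃* E).toMonoidHom BE = BE := by
    intro k
    ext e
    rw [Subgroup.mem_map, Subgroup.mem_subgroupOf]
    constructor
    · rintro ⟨f, hf, rfl⟩
      show ((MulAut.conjNormal k f : E) : K) ∈ B
      rw [MulAut.conjNormal_apply]
      exact (inferInstance : B.Normal).conj_mem _ hf k
    · intro he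
      refine ⟨(MulAut.conjNormal k).symm e, ?_, MulEquiv.apply_symm_apply _ _⟩
      rw [Subgroup.mem_subgroupOf, MulAut.conjNormal_symm_apply]
      have := (inferInstance : B.Normal).conj_mem _ he k⁻¹
      simpa using this
  let Ψ : K →* MulAut (E ⧸ BE) :=
    { toFun := fun k => QuotientGroup.congr _ _ (MulAut.conjNormal (H := E) k) (hmap k)
      map_one' := MulEquiv.ext fun q => by
        obtain ⟨e, rfl⟩ := QuotientGroup.mk_surjective q
        show QuotientGroup.mk (MulAut.conjNormal (1 : K) e) = QuotientGroup.mk e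
        simp
      map_mul' := fun k l => MulEquiv.ext fun q => by
        obtain ⟨e, rfl⟩ := QuotientGroup.mk_surjective q
        show QuotientGroup.mk (MulAut.conjNormal (k * l) e) =
          QuotientGroup.mk (MulAut.conjNormal k (MulAut.conjNormal l e))
        rw [map_mul, MulAut.mul_apply] }
  have hinv : ∀ k u v, P (Ψ k u) (Ψ k v) = P u v := by
    intro k u v
    obtain ⟨e, rfl⟩ := QuotientGroup.mk_surjective u
    obtain ⟨f, rfl⟩ := QuotientGroup.mk_surjective v
    show χ (cm (MulAut.conjNormal k e) (MulAut.conjNormal k f)) = χ (cm e f)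
    refine congrArg χ (Subtype.ext ?_)
    simp only [cm, MulAut.conjNormal_apply]
    calc k * e * k⁻¹ * (k * f * k⁻¹) * (k * e * k⁻¹)⁻¹ * (k * f * k⁻¹)⁻¹
        = k * ((e : K) * f * (e : K)⁻¹ * (f : K)⁻¹) * k⁻¹ := by group
      _ = _ := by rw [hcentral k _ (hEc e e.2 f f.2), mul_inv_cancel_right]
  haveI : Group.IsSolvable Ψ.range := Group.isSolvable_of_surjective Ψ.rangeRestrict_surjective
  have halt : ∀ u, P u u = 1 := fun u => by
    obtain ⟨e, rfl⟩ := QuotientGroup.mk_surjective u
    rw [hP, show cm e e = 1 from Subtype.ext (by simp [cm]), map_one]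
  have hnd : ∀ u, (∀ v, P u v = 1) → u = 1 := by
    intro u hu
    obtain ⟨e, rfl⟩ := QuotientGroup.mk_surjective u
    rw [QuotientGroup.eq_one_iff, Subgroup.mem_subgroupOf]
    refine hcen e (hK _) fun f hf => ?_
    have h1 : cm e ⟨f, hf⟩ = 1 := hχinj (by rw [map_one]; exact hu (⟨f, hf⟩ : E))
    have h2 : (e : K) * f * (e : K)⁻¹ * f⁻¹ = 1 := congrArg Subtype.val h1
    rwa [mul_inv_eq_one, mul_inv_eq_iff_eq_mul] at h2
  obtain ⟨y, -, hy2, hyx, hyA⟩ := card_pairing_le (Nat.card (E ⧸ BE)) P Ψ.range.subtype rfl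
    Subtype.val_injective halt hnd (by rintro ⟨_, k, rfl⟩ u v; exact hinv k u v)
  -- `|E : B| ≤ m ^ 2`
  have hxm : Nat.card (E ⧸ BE) ≤ finrank F W ^ 2 := by
    letI : Fintype (E ⧸ BE) := Fintype.ofFinite _
    let T : E → Module.End F W := fun e => σ e
    let ψ : E ⧸ BE → (E →* F) := fun q =>
      (Units.coeHom F).comp (((P.flip q).comp (QuotientGroup.mk' BE)))
    have hψ : Function.Injective ψ := by
      intro q q' hq
      rw [← mul_inv_eq_one]
      refine hnd _ fun v => ?_
      obtain ⟨f, rfl⟩ := QuotientGroup.mk_surjective v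
      have h1 : P f q = P f q' := Units.ext (DFunLike.congr_fun hq f)
      have hflip : ∀ a b, P a b = (P b a)⁻¹ := fun a b => by
        have := halt (a * b)
        simp only [map_mul, MonoidHom.mul_apply, halt, one_mul, mul_one] at this
        exact eq_inv_of_mul_eq_one_right this
      rw [map_mul, map_inv, MonoidHom.mul_apply, MonoidHom.inv_apply, hflip q, hflip q', h1,
        mul_inv_cancel]
    have hconj : ∀ f e : E, ∀ w : W, T f (T e w) = (χ (cm f e) : F) • T e (T f w) := by
      intro f e w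
      show σ f (σ e w) = _
      rw [← rho_mul_apply, show (f : K) * e = ((cm f e : B) : K) * (e * f) from by
        show _ = (f : K) * e * (f : K)⁻¹ * (e : K)⁻¹ * (e * f)
        group, rho_mul_apply, hχ, LinearMap.smul_apply, Module.End.one_apply, rho_mul_apply]
    have hli : LinearIndependent F (fun q : E ⧸ BE => T q.out) := by
      rw [Fintype.linearIndependent_iff]
      intro c hc q0
      have hzero : ∀ (f : E) (w : W), ∑ q, (c q * ψ q f) • T q.out w = 0 := by
        intro f w
        have h0 := congrArg (fun L : Module.End F W => L (T f⁻¹ w)) hc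
        simp only [LinearMap.sum_apply, LinearMap.smul_apply, LinearMap.zero_apply] at h0
        have h1 := congrArg (T f) h0
        rw [map_sum, map_zero] at h1
        rw [← h1]
        refine Finset.sum_congr rfl fun q _ => ?_
        rw [map_smul, hconj f q.out, smul_smul]
        show _ = (c q * (χ (cm f q.out) : F)) • σ (q.out : K) (σ (f : K) (σ ((f⁻¹ : E) : K) w))
        rw [Subgroup.coe_inv, rho_inv_cancel, ← hP, QuotientGroup.out_eq']
        rfl
      obtain ⟨w, hw⟩ := exists_ne (0 : W)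
      have hTw : T q0.out w ≠ 0 := fun h => hw (by
        have h2 : σ (q0.out : K)⁻¹ (σ (q0.out : K) w) = 0 := by rw [show σ (q0.out : K) w = 0 from h, map_zero]
        rwa [← rho_mul_apply, inv_mul_cancel, map_one, Module.End.one_apply] at h2)
      obtain ⟨L, hL⟩ : ∃ L : W →ₗ[F] F, L (T q0.out w) ≠ 0 := by
        by_contra hcon
        push Not at hcon
        exact hTw ((Module.forall_dual_apply_eq_zero_iff F _).mp hcon)
      have hind := (linearIndependent_monoidHom E F).comp ψ hψ
      rw [Fintype.linearIndependent_iff] at hind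
      have := hind (fun q => c q * L (T q.out w)) (_root_.funext fun f => by
        have h2 := congrArg L (hzero f w)
        rw [map_sum, map_zero] at h2
        rw [Finset.sum_apply, Pi.zero_apply, ← h2]
        refine Finset.sum_congr rfl fun q _ => ?_
        simp only [Pi.smul_apply, Function.comp_apply, smul_eq_mul, map_smul]
        ring) q0
      exact (mul_eq_zero.mp this).resolve_right hL
    have h := hli.fintype_card_le_finrank
    rw [← Nat.card_eq_fintype_card, Module.finrank_linearMap, ← sq] at h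
    exact h
  have hy1 : 1 ≤ y := by
    rcases Nat.eq_zero_or_pos y with h | h
    · rw [h] at hyx; exact absurd hyx (by simp [Nat.card_pos.ne'])
    · exact h
  refine ⟨E, hEn, y, hBE, hEc, fun k => hTE k (hK k), fun k => hcen k (hK k), hy1,
    Nat.pow_le_pow_iff_left (show (2 : ℕ) ≠ 0 by norm_num) |>.mp (hyx ▸ hxm), ?_, ?_, ?_⟩
  · -- exponent divides the degree
    intro q hq hqy
    refine (hy2 q hq hqy).trans (Monoid.exponent_dvd_of_forall_pow_eq_one fun u => hnd _ fun v => ?_)
    obtain ⟨e, rfl⟩ := QuotientGroup.mk_surjective u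
    obtain ⟨f, rfl⟩ := QuotientGroup.mk_surjective v
    rw [map_pow, MonoidHom.pow_apply, hP]
    refine Units.ext ?_
    rw [Units.val_pow_eq_pow_val, Units.val_one]
    exact commutator_scalar_pow σ (e : K) f (hχ (cm e f))
  · rw [← BE.card_mul_index, Nat.card_congr (Subgroup.subgroupOfEquivOfLe hBE).toEquiv]
    exact congrArg _ hyx
  · refine le_trans ?_ hyA
    rw [← Subgroup.index_ker]
    refine Nat.le_of_dvd (Nat.pos_of_ne_zero Subgroup.index_ne_zero_of_finite)
      (Subgroup.index_dvd_of_le fun k hk => hTE k (hK k) fun e he => ?_)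
    have h1 : QuotientGroup.mk (MulAut.conjNormal k ⟨e, he⟩) = (QuotientGroup.mk ⟨e, he⟩ : E ⧸ BE) :=
      DFunLike.congr_fun (show Ψ k = 1 from hk) (QuotientGroup.mk (⟨e, he⟩ : E) : E ⧸ BE)
    rw [eq_comm, QuotientGroup.eq, Subgroup.mem_subgroupOf] at h1
    have h2 := (inferInstance : B.Normal).mem_comm h1
    simpa [MulAut.conjNormal_apply] using h2

end Layer

end Cfsg.Agent.Lib.ClassLowerSolv
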