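import Mathlib
import Cfsg.Agent.Lib.ClassLowerSolv.ScalarBase

/-!
# Order against class number when the maximal abelian normal subgroup is scalar
-/

set_option autoImplicit false
set_option linter.style.haveILetI false

namespace Cfsg.Agent.Lib.ClassLowerSolv

open Module

variable {K : Type*} [Group K] [Finite K] [Group.IsSolvable K] {F : Type*} [Field F]
  [IsAlgClosed F] {W : Type*} [AddCommGroup W] [Module F W] [FiniteDimensional F W] [Nontrivial W]

/-- The order bound over the scalars. -/
theorem scalar_order {σ : K →* Module.End F W} (hσ : Function.Injective σ)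
    (B : Subgroup K) [B.Normal] (hscal : ∀ b ∈ B, ∃ c : F, σ b = c • 1)
    (hBmax : ∀ D : Subgroup K, D.Normal → (∀ a ∈ D, ∀ b ∈ D, a * b = b * a) → B ≤ D → D = B) :
    ∃ y : ℕ, 1 ≤ y ∧ y ≤ finrank F W ∧ (∀ q : ℕ, q.Prime → q ∣ y → q ∣ finrank F W) ∧
      Nat.card K ≤ Nat.card B * (y ^ 2 * symBound y) := by
  obtain ⟨E, hEn, y, -, -, -, -, h1, h2, h3, h4, h5⟩ := exists_scalar_layer hσ B hscal hBmax
  refine ⟨y, h1, h2, h3, ?_⟩
  rw [← E.card_mul_index, h4, mul_assoc]
  exact Nat.mul_le_mul_left _ (Nat.mul_le_mul_left _ h5)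

/-- The sum of the centraliser orders. -/
theorem sum_card_commute [Fintype K] :
    ∑ x : K, Nat.card {g : K // Commute x g} = Nat.card (ConjClasses K) * Nat.card K := by
  rw [← card_comm_eq_card_conjClasses_mul_card,
    Nat.card_congr (Equiv.subtypeProdEquivSigmaSubtype fun x g : K => Commute x g), Nat.card_sigma]

/-- Over the scalars a two-dimensional group is one of three types. -/
theorem two_dim {σ : K →* Module.End F W} (hσ : Function.Injective σ)
    (B : Subgroup K) [B.Normal] (hscal : ∀ b ∈ B, ∃ c : F, σ b = c • 1)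
    (hBmax : ∀ D : Subgroup K, D.Normal → (∀ a ∈ D, ∀ b ∈ D, a * b = b * a) → B ≤ D → D = B)
    (hm : finrank F W = 2) :
    (Nat.card K = Nat.card B ∧ Nat.card B ≤ Nat.card (ConjClasses K)) ∨
      (Nat.card K ≤ 12 * Nat.card B ∧ 2 * Nat.card B ≤ Nat.card (ConjClasses K)) ∨
      (Nat.card K ≤ 24 * Nat.card B ∧ 4 * Nat.card B ≤ Nat.card (ConjClasses K)) := by
  classical
  haveI := Fintype.ofFinite K
  have hcentral := scalar_central hσ hscal
  obtain ⟨E, hEn, y, hBE, hEc, hTE, hcen, hy1, hy2, -, hEcard, hEidx⟩ :=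
    exists_scalar_layer hσ B hscal hBmax
  haveI := hEn
  rw [hm] at hy2
  set z := Nat.card B with hz
  have hz0 : 0 < z := Nat.card_pos
  interval_cases y
  · left
    have hE1 : E.index = 1 := by
      have : 0 < E.index := Nat.pos_of_ne_zero Subgroup.index_ne_zero_of_finite
      have : E.index ≤ 1 := hEidx
      omega
    have hKB : Nat.card K = z := by rw [← E.card_mul_index, hEcard, hE1]; ring
    refine ⟨hKB, ?_⟩
    have h1 := scalar_classes hσ B hscal
    rw [hm, ← hz] at h1
    have hq : Nat.card (ConjClasses (K ⧸ B)) = 1 := by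
      have hi : B.index = 1 := by
        have := B.card_mul_index
        rw [hKB, ← hz] at this
        exact Nat.eq_of_mul_eq_mul_left hz0 (this.trans (mul_one z).symm)
      haveI : Subsingleton (K ⧸ B) := (Nat.card_eq_one_iff_unique.mp hi).1
      haveI : Subsingleton (ConjClasses (K ⧸ B)) := ConjClasses.mk_surjective.subsingleton
      exact Nat.card_of_subsingleton 1
    rw [hq] at h1
    have hR : 0 < Nat.gcd z 2 := Nat.gcd_pos_of_pos_left _ hz0
    refine Nat.le_of_mul_le_mul_left ?_ hR
    rw [mul_add, mul_one] at h1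
    rw [mul_comm]
    omega
  right
  -- the quotient by the scalars
  set π := QuotientGroup.mk' B with hπ
  set Eb := E.map π with hEb
  haveI hEbn : Eb.Normal := hEn.map π (QuotientGroup.mk'_surjective B)
  have hmem : ∀ g : K, π g ∈ Eb ↔ g ∈ E := fun g => by
    rw [hEb, ← Subgroup.mem_comap, Subgroup.comap_map_eq, QuotientGroup.ker_mk', sup_eq_left.mpr hBE]
  have hidx : Eb.index = E.index := by
    rw [hEb, Subgroup.index_map_eq _ (QuotientGroup.mk'_surjective B) (by rwa [QuotientGroup.ker_mk'])]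
  have hBidx : z * B.index = Nat.card K := B.card_mul_index
  have hEb4 : Nat.card Eb = 4 := by
    have h1 := Eb.card_mul_index
    rw [hidx] at h1
    have h2 : z * (Nat.card Eb * E.index) = z * (4 * E.index) := by
      rw [h1, ← Subgroup.index_eq_card, hBidx, ← E.card_mul_index, hEcard]; ring
    exact Nat.eq_of_mul_eq_mul_right (Nat.pos_of_ne_zero Subgroup.index_ne_zero_of_finite)
      (Nat.eq_of_mul_eq_mul_left hz0 h2)
  -- elements of `Eb` are involutions, commuting with each other
  obtain ⟨χ, hχ⟩ := exists_scalar_hom σ B hscal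
  have hχinj : Function.Injective χ := fun a b h => Subtype.ext (hσ (by rw [hχ, hχ, h]))
  have hsq : ∀ u ∈ Eb, u * u = 1 := by
    rintro _ ⟨e, he, rfl⟩
    rw [← map_mul, hπ, QuotientGroup.mk'_apply, QuotientGroup.eq_one_iff]
    refine hcen _ fun f hf => ?_
    have hc := hEc e he f hf
    have h2 : ((χ ⟨_, hc⟩ : Fˣ) : F) ^ 2 = 1 := hm ▸ commutator_scalar_pow σ e f (hχ ⟨_, hc⟩)
    have h3 : (⟨_, hc⟩ : B) * ⟨_, hc⟩ = 1 := hχinj (by
      rw [map_mul, map_one, ← sq]; exact Units.ext (by rw [Units.val_pow_eq_pow_val, h2, Units.val_one]))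
    have h4 : (e * f * e⁻¹ * f⁻¹) * (e * f * e⁻¹ * f⁻¹) = 1 := congrArg Subtype.val h3
    calc e * e * f = (e * (e * f * e⁻¹ * f⁻¹) * e⁻¹) * ((e * f * e⁻¹ * f⁻¹) * (f * (e * e))) := by group
      _ = (e * f * e⁻¹ * f⁻¹) * ((e * f * e⁻¹ * f⁻¹) * (f * (e * e))) := by
          rw [hcentral e _ hc, mul_inv_cancel_right]
      _ = f * (e * e) := by rw [← mul_assoc, h4, one_mul]
  have hcomm : ∀ u ∈ Eb, ∀ v ∈ Eb, u * v = v * u := fun u hu v hv => by
    have h := hsq _ (mul_mem hu hv)
    calc u * v = u⁻¹ * v⁻¹ * ((v * u) * (u * v)) * 1 := by group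
      _ = v * u := by
          rw [inv_eq_of_mul_eq_one_right (hsq u hu), inv_eq_of_mul_eq_one_right (hsq v hv)]
          have h' := hsq _ (mul_mem hv hu)
          calc u * v * (v * u * (u * v)) * 1 = u * (v * v) * u * (u * v) := by group
            _ = u * v := by rw [hsq v hv, mul_one, hsq u hu, one_mul]
            _ = v * u := by
                rw [← inv_eq_of_mul_eq_one_right h, mul_inv_rev, inv_eq_of_mul_eq_one_right (hsq u hu),
                  inv_eq_of_mul_eq_one_right (hsq v hv)]
  have houtmove : ∀ w : K ⧸ B, w ∉ Eb → ∃ u ∈ Eb, w * u ≠ u * w := by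
    intro w hw
    by_contra hno
    push Not at hno
    obtain ⟨g, rfl⟩ := QuotientGroup.mk'_surjective B w
    refine hw ((hmem g).mpr (hTE g fun e he => ?_))
    rw [← QuotientGroup.eq_one_iff, ← QuotientGroup.mk'_apply, map_mul, map_mul, map_mul,
      hno _ ⟨e, he, rfl⟩, mul_assoc (π e), ← map_mul π g, mul_inv_cancel, map_one, mul_one,
      ← map_mul, mul_inv_cancel, map_one]
  -- `E.index` divides six
  letI actX : MulAction (K ⧸ B) {u : Eb // u ≠ 1} :=
    { smul := fun w u => ⟨MulAut.conjNormal w u.1, fun h => u.2 ((MulAut.conjNormal w).injective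
        (h.trans (map_one _).symm))⟩
      one_smul := fun u => Subtype.ext (by show MulAut.conjNormal (1 : K ⧸ B) u.1 = u.1; simp)
      mul_smul := fun v w u => Subtype.ext (by
        show MulAut.conjNormal (v * w) u.1 = MulAut.conjNormal v (MulAut.conjNormal w u.1)
        rw [map_mul, MulAut.mul_apply]) }
  have hX3 : Nat.card {u : Eb // u ≠ 1} = 3 := by
    haveI := Fintype.ofFinite Eb
    rw [Nat.card_eq_fintype_card, Fintype.card_subtype_compl, Fintype.card_subtype_eq,
      ← Nat.card_eq_fintype_card, hEb4]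
  have hdvd : E.index ∣ 6 := by
    have hker : (MulAction.toPermHom (K ⧸ B) {u : Eb // u ≠ 1}).ker = Eb := by
      refine le_antisymm (fun w hw => ?_) fun w hw => ?_
      · by_contra hnot
        obtain ⟨u, hu, hne⟩ := houtmove w hnot
        have hu1 : (⟨u, hu⟩ : Eb) ≠ 1 := fun h => hne (by
          rw [show u = 1 from congrArg Subtype.val h, mul_one, one_mul])
        have h1 := congrArg (fun s : Equiv.Perm {u : Eb // u ≠ 1} =>
          (((s ⟨_, hu1⟩ : {u : Eb // u ≠ 1}) : Eb) : K ⧸ B)) (MonoidHom.mem_ker.mp hw)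
        have h2 : w * u * w⁻¹ = u := h1
        exact hne (mul_inv_eq_iff_eq_mul.mp h2)
      · rw [MonoidHom.mem_ker]
        refine Equiv.ext fun u => Subtype.ext (Subtype.ext ?_)
        show w * ((u : Eb) : K ⧸ B) * w⁻¹ = _
        rw [hcomm w hw _ (u : Eb).2, mul_inv_cancel_right]
        rfl
    rw [← hidx, ← hker, Subgroup.index_ker]
    refine (Subgroup.card_subgroup_dvd_card _).trans ?_
    rw [Nat.card_perm, hX3]
    rfl
  have h6 : E.index ≤ 6 := Nat.le_of_dvd (by norm_num) hdvd
  have hKcard : Nat.card K = z * 4 * E.index := by rw [← E.card_mul_index, hEcard]; ring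
  -- three classes in the quotient
  have hk3 : 3 ≤ Nat.card (ConjClasses (K ⧸ B)) := by
    obtain ⟨⟨u, hu⟩, hu1⟩ : ∃ u : Eb, u ≠ 1 := by
      haveI : Nontrivial Eb := Finite.one_lt_card_iff_nontrivial.mp (by omega)
      exact exists_ne 1
    by_cases hall : ∀ w : K ⧸ B, w ∈ Eb
    · haveI : IsMulCommutative (K ⧸ B) := ⟨⟨fun a b => hcomm a (hall a) b (hall b)⟩⟩
      refine le_trans ?_ (Nat.card_le_card_of_injective (ConjClasses.mk (α := K ⧸ B)) fun a b h => ?_)
      · exact le_trans (by omega : 3 ≤ Nat.card Eb) (Subgroup.card_le_card_group _)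
      · obtain ⟨c, hc⟩ := isConj_iff.mp (ConjClasses.mk_eq_mk_iff_isConj.mp h)
        rw [hcomm c (hall c) a (hall a), mul_inv_cancel_right] at hc
        exact hc
    · push Not at hall
      obtain ⟨w, hw⟩ := hall
      have hu1' : u ≠ 1 := fun h => hu1 (Subtype.ext h)
      have e1 : ConjClasses.mk u ≠ ConjClasses.mk (1 : K ⧸ B) := fun h =>
        hu1' (isConj_one_left.mp (ConjClasses.mk_eq_mk_iff_isConj.mp h))
      have hconjE : ∀ v, IsConj v w → v ∉ Eb := fun v hv hvE => by
        obtain ⟨c, rfl⟩ := isConj_iff.mp hv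
        exact hw (hEbn.conj_mem v hvE c)
      have e2 : ConjClasses.mk u ≠ ConjClasses.mk w := fun h =>
        hconjE u (ConjClasses.mk_eq_mk_iff_isConj.mp h) hu
      have e3 : ConjClasses.mk (1 : K ⧸ B) ≠ ConjClasses.mk w := fun h =>
        hconjE 1 (ConjClasses.mk_eq_mk_iff_isConj.mp h) (one_mem _)
      haveI := Fintype.ofFinite (ConjClasses (K ⧸ B))
      rw [Nat.card_eq_fintype_card, ← Finset.card_univ]
      refine le_trans (le_of_eq ?_) (Finset.card_le_univ
        {ConjClasses.mk u, ConjClasses.mk (1 : K ⧸ B), ConjClasses.mk w})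
      rw [Finset.card_insert_of_notMem (by simp [e1, e2]), Finset.card_pair e3]
  have hk2 : 2 * z ≤ Nat.card (ConjClasses K) := by
    have h := scalar_classes hσ B hscal
    rw [hm, ← hz] at h
    have hR2 : Nat.gcd z 2 ≤ 2 := Nat.le_of_dvd (by norm_num) (Nat.gcd_dvd_right _ _)
    have hR1 : 0 < Nat.gcd z 2 := Nat.gcd_pos_of_pos_left _ hz0
    have := Nat.mul_le_mul_left z hk3
    generalize Nat.gcd z 2 = R at h hR1 hR2
    rw [mul_add] at h
    interval_cases R <;> omega
  by_cases hi : E.index ≤ 3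
  · refine Or.inl ⟨?_, hk2⟩
    rw [hKcard]
    calc z * 4 * E.index ≤ z * 4 * 3 := Nat.mul_le_mul_left _ hi
      _ = 12 * z := by ring
  right
  have hi6 : E.index = 6 := by
    push Not at hi
    have h4 : E.index ≠ 4 := fun h => absurd (h ▸ hdvd) (by decide)
    have h5 : E.index ≠ 5 := fun h => absurd (h ▸ hdvd) (by decide)
    omega
  have hK24 : Nat.card K = 24 * z := by rw [hKcard, hi6]; ring
  refine ⟨hK24.le, ?_⟩
  haveI := Fintype.ofFinite (K ⧸ B)
  have hQ24 : Nat.card (K ⧸ B) = 24 := by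
    rw [← Eb.card_mul_index, hEb4, hidx, hi6]
  -- a lower bound for the centralisers
  let f : K ⧸ B → ℕ := fun w => if w = 1 then 24 else if w ∈ Eb then 4 else orderOf w
  have hlow : ∀ x : K, z * f (π x) ≤ Nat.card {g : K // Commute x g} := by
    intro x
    have hC : Nat.card {g : K // Commute x g} = Nat.card (Subgroup.centralizer ({x} : Set K)) :=
      Nat.card_congr (Equiv.subtypeEquivRight fun g =>
        Subgroup.mem_centralizer_singleton_iff.trans eq_comm |>.symm)
    have hcomap : ∀ S : Subgroup (K ⧸ B), Nat.card (S.comap π) = z * Nat.card S := fun S => by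
      refine Nat.eq_of_mul_eq_mul_right (Nat.pos_of_ne_zero (Subgroup.index_ne_zero_of_finite (H := S))) ?_
      conv_lhs => rw [← Subgroup.index_comap_of_surjective S (QuotientGroup.mk'_surjective B)]
      rw [Subgroup.card_mul_index, mul_assoc, Subgroup.card_mul_index, ← Subgroup.index_eq_card, hBidx]
    rw [hC]
    show z * (if π x = 1 then 24 else if π x ∈ Eb then 4 else orderOf (π x)) ≤ _
    split_ifs with h1 h2
    · have hxB : x ∈ B := (QuotientGroup.eq_one_iff x).mp h1
      have htop : Subgroup.centralizer ({x} : Set K) = ⊤ := eq_top_iff.mpr fun g _ =>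
        Subgroup.mem_centralizer_singleton_iff.mpr (hcentral g x hxB)
      rw [htop, Nat.card_congr Subgroup.topEquiv.toEquiv, hK24, mul_comm]
    · -- index at most two in the preimage of the centraliser of `π x`
      set Cb := Subgroup.centralizer ({π x} : Set (K ⧸ B))
      have hCb : 8 ≤ Nat.card Cb := by
        have hi3 : Cb.index ≤ 3 := by
          rw [Subgroup.index_eq_card]
          let g : (K ⧸ B) ⧸ Cb → {u : Eb // u ≠ 1} := fun q =>
            ⟨MulAut.conjNormal q.out ⟨π x, h2⟩, fun h =>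
              h1 (congrArg Subtype.val ((MulAut.conjNormal q.out).injective (h.trans (map_one _).symm)))⟩
          rw [← hX3]
          refine Nat.card_le_card_of_injective g fun q q' h => ?_
          have h' : q.out * π x * q.out⁻¹ = q'.out * π x * q'.out⁻¹ :=
            congrArg (fun t : {u : Eb // u ≠ 1} => ((t : Eb) : K ⧸ B)) h
          rw [← q.out_eq', ← q'.out_eq', QuotientGroup.eq, Subgroup.mem_centralizer_singleton_iff]
          calc q.out⁻¹ * q'.out * π x = q.out⁻¹ * (q'.out * π x * q'.out⁻¹) * q'.out := by group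
            _ = π x * (q.out⁻¹ * q'.out) := by rw [← h']; group
        have hmul := Cb.card_mul_index
        rw [hQ24] at hmul
        nlinarith
      set S := Cb.comap π
      have hSmem : ∀ g ∈ S, g * x * g⁻¹ * x⁻¹ ∈ B := fun g hg => by
        rw [← QuotientGroup.eq_one_iff, ← QuotientGroup.mk'_apply, map_mul, map_mul, map_mul,
          Subgroup.mem_centralizer_singleton_iff.mp hg, mul_assoc (π x), ← map_mul π g,
          mul_inv_cancel, map_one, mul_one, ← map_mul, mul_inv_cancel, map_one]
      let φ : S →* Fˣ := MonoidHom.mk' (fun g => χ ⟨_, hSmem g g.2⟩) fun g g' => by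
        rw [← map_mul]
        refine congrArg χ (Subtype.ext ?_)
        show (g : K) * g' * x * ((g : K) * g')⁻¹ * x⁻¹ =
          ((g : K) * x * (g : K)⁻¹ * x⁻¹) * ((g' : K) * x * (g' : K)⁻¹ * x⁻¹)
        calc (g : K) * g' * x * ((g : K) * g')⁻¹ * x⁻¹
            = ((g : K) * ((g' : K) * x * (g' : K)⁻¹ * x⁻¹)) * x * (g : K)⁻¹ * x⁻¹ := by group
          _ = ((g' : K) * x * (g' : K)⁻¹ * x⁻¹) * ((g : K) * x * (g : K)⁻¹ * x⁻¹) := by
              rw [hcentral g _ (hSmem g' g'.2)]; group
          _ = _ := (hcentral _ _ (hSmem g' g'.2)).symm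
      have hker : Nat.card φ.ker ≤ Nat.card (Subgroup.centralizer ({x} : Set K)) := by
        refine Nat.card_le_card_of_injective (fun g => ⟨((g : S) : K), ?_⟩) fun a b h =>
          Subtype.ext (Subtype.ext (congrArg (fun t : Subgroup.centralizer ({x} : Set K) => (t : K)) h))
        have h3 : (⟨_, hSmem _ (g : S).2⟩ : B) = 1 := hχinj ((map_one χ).symm ▸ g.2)
        have h4 : ((g : S) : K) * x * ((g : S) : K)⁻¹ * x⁻¹ = 1 := congrArg Subtype.val h3
        rw [Subgroup.mem_centralizer_singleton_iff]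
        rwa [mul_inv_eq_one, mul_inv_eq_iff_eq_mul] at h4
      have hrange : Nat.card φ.range ≤ 2 := by
        haveI : NeZero (2 : ℕ) := ⟨two_ne_zero⟩
        refine le_trans (Nat.card_le_card_of_injective
          (fun t : φ.range => (⟨((t : Fˣ) : F), ?_⟩ : ↥(Polynomial.nthRoots 2 (1 : F)).toFinset))
          fun a b h => Subtype.ext (Units.ext (congrArg Subtype.val h))) ?_
        · rw [Multiset.mem_toFinset, Polynomial.mem_nthRoots (by norm_num)]
          obtain ⟨g, hg⟩ := t.2
          rw [← hg]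
          exact hm ▸ commutator_scalar_pow σ ((g : S) : K) x (hχ ⟨_, hSmem g g.2⟩)
        · rw [Nat.card_eq_finsetCard]
          exact (Multiset.toFinset_card_le _).trans (Polynomial.card_nthRoots _ _)
      have hmul : Nat.card φ.range * Nat.card φ.ker = Nat.card S := by
        rw [← Subgroup.index_ker, φ.ker.index_mul_card]
      have h8 : z * 8 ≤ 2 * Nat.card (Subgroup.centralizer ({x} : Set K)) := by
        calc z * 8 ≤ Nat.card S := by rw [hcomap]; exact Nat.mul_le_mul_left _ hCb
          _ = Nat.card φ.range * Nat.card φ.ker := hmul.symm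
          _ ≤ _ := Nat.mul_le_mul hrange hker
      omega
    · rw [← Nat.card_zpowers, ← hcomap]
      refine Subgroup.card_le_of_le fun g hg => ?_
      obtain ⟨i, hi⟩ := hg
      have hb : (x ^ i)⁻¹ * g ∈ B := by
        rw [← QuotientGroup.eq_one_iff, ← QuotientGroup.mk'_apply, map_mul, map_inv, map_zpow]
        show ((π x) ^ i)⁻¹ * π g = 1
        rw [inv_mul_eq_one]; exact hi
      rw [Subgroup.mem_centralizer_singleton_iff, show g = x ^ i * ((x ^ i)⁻¹ * g) from by group,
        mul_assoc, ← hcentral x _ hb, ← mul_assoc, ← zpow_add_one, add_comm i, zpow_one_add, mul_assoc]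
  -- averaging over `w ↦ w * u`
  have hpick : ∀ q : (K ⧸ B) ⧸ Eb, ∃ u ∈ Eb, q ≠ 1 → q.out * u ≠ u * q.out := by
    intro q
    by_cases hq : q = 1
    · exact ⟨1, one_mem _, fun h => absurd hq h⟩
    · obtain ⟨u, hu, hne⟩ := houtmove q.out fun h => hq (by
        rw [← q.out_eq']; exact (QuotientGroup.eq_one_iff _).mpr h)
      exact ⟨u, hu, fun _ => hne⟩
  choose e heE hemove using hpick
  have hecoset : ∀ w : K ⧸ B, w ∉ Eb →
      w * e (QuotientGroup.mk w) ≠ e (QuotientGroup.mk w) * w := by
    intro w hw h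
    set q : (K ⧸ B) ⧸ Eb := QuotientGroup.mk w with hq
    refine hemove q (fun h1 => hw ((QuotientGroup.eq_one_iff _).mp h1)) ?_
    obtain ⟨⟨v, hv⟩, hout⟩ := QuotientGroup.mk_out_eq_mul Eb w
    rw [hq, hout, mul_assoc, hcomm v hv _ (heE _), ← mul_assoc, h, mul_assoc]
  set O := Finset.univ.filter fun w : K ⧸ B => w ∉ Eb with hO
  have hcoset : ∀ w : K ⧸ B, (QuotientGroup.mk (w * e (QuotientGroup.mk w)) : (K ⧸ B) ⧸ Eb) =
      QuotientGroup.mk w := fun w => QuotientGroup.mk_mul_of_mem w (heE _)
  have hpair : ∀ w ∈ O, 6 ≤ orderOf w + orderOf (w * e (QuotientGroup.mk w)) := by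
    intro w hw
    rw [hO, Finset.mem_filter] at hw
    have hw' : w * e (QuotientGroup.mk w) ∉ Eb := fun h =>
      hw.2 ((mul_mem_cancel_right (heE _)).mp h)
    have key : ∀ v : K ⧸ B, ∀ u ∈ Eb, v * u ≠ u * v → v ∉ Eb → orderOf v = 2 →
        4 ≤ orderOf (v * u) := by
      intro v u hu hne hv h2
      have hv2 : v * v = 1 := by rw [← sq, ← h2, pow_orderOf_eq_one]
      have hvu : (v * u) * (v * u) ≠ 1 := fun h => hne (by
        calc v * u = (v * u)⁻¹ := eq_inv_of_mul_eq_one_left h
          _ = u * v := by rw [mul_inv_rev, inv_eq_of_mul_eq_one_right hv2,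
              inv_eq_of_mul_eq_one_right (hsq u hu)])
      have himg : (QuotientGroup.mk (v * u) : (K ⧸ B) ⧸ Eb) = QuotientGroup.mk v :=
        QuotientGroup.mk_mul_of_mem v hu
      have hord : orderOf (QuotientGroup.mk v : (K ⧸ B) ⧸ Eb) = 2 :=
        orderOf_eq_prime (by rw [← QuotientGroup.mk_pow, sq, hv2, QuotientGroup.mk_one])
          (fun h => hv ((QuotientGroup.eq_one_iff _).mp h))
      have hdiv : 2 ∣ orderOf (v * u) := by
        rw [← hord, ← himg]
        exact orderOf_map_dvd (QuotientGroup.mk' Eb) (v * u)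
      have hne2 : orderOf (v * u) ≠ 2 := fun h => hvu (by rw [← sq, ← h, pow_orderOf_eq_one])
      have hpos := orderOf_pos (v * u)
      omega
    have h2 : ∀ v : K ⧸ B, v ∉ Eb → 2 ≤ orderOf v := fun v hv => by
      have := orderOf_pos v
      have : orderOf v ≠ 1 := fun h => hv (by rw [orderOf_eq_one_iff.mp h]; exact one_mem _)
      omega
    have a1 := h2 _ hw.2
    have a2 := h2 _ hw'
    by_cases b1 : orderOf w = 2
    · have := key w _ (heE _) (hecoset w hw.2) hw.2 b1; omega
    by_cases b2 : orderOf (w * e (QuotientGroup.mk w)) = 2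
    · have := key _ _ (heE _) (fun h => hecoset _ hw' (by rw [hcoset]; exact h)) hw' b2
      rw [mul_assoc, hsq _ (heE _), mul_one] at this
      omega
    omega
  have hsum_eq : ∑ w ∈ O, orderOf (w * e (QuotientGroup.mk w)) = ∑ w ∈ O, orderOf w := by
    refine Finset.sum_nbij' (fun w => w * e (QuotientGroup.mk w)) (fun w => w * e (QuotientGroup.mk w))
      (fun w hw => ?_) (fun w hw => ?_) (fun w hw => ?_) (fun w hw => ?_) fun w hw => rfl
    · simpa [hO, mul_mem_cancel_right (heE (QuotientGroup.mk w))] using hw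
    · simpa [hO, mul_mem_cancel_right (heE (QuotientGroup.mk w))] using hw
    · show w * e _ * e (QuotientGroup.mk (w * e _)) = w
      rw [hcoset, mul_assoc, hsq _ (heE _), mul_one]
    · show w * e _ * e (QuotientGroup.mk (w * e _)) = w
      rw [hcoset, mul_assoc, hsq _ (heE _), mul_one]
  set I := Finset.univ.filter fun w : K ⧸ B => w ∈ Eb with hI
  have hIcard : I.card = 4 := by
    rw [← hEb4, Nat.card_eq_fintype_card, hI, ← Fintype.card_subtype]
  have hIO : I.card + O.card = 24 := by
    rw [hI, hO, Finset.card_filter_add_card_filter_not, Finset.card_univ, ← Nat.card_eq_fintype_card,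
      hQ24]
  have hOsum : 60 ≤ ∑ w ∈ O, orderOf w := by
    have := Finset.sum_le_sum hpair
    rw [Finset.sum_const, smul_eq_mul, Finset.sum_add_distrib, hsum_eq] at this
    omega
  have hIsum : 36 ≤ ∑ w ∈ I, f w := by
    have h1I : (1 : K ⧸ B) ∈ I := by simp [hI]
    rw [← Finset.add_sum_erase _ _ h1I, show f 1 = 24 from if_pos rfl]
    have : ∑ w ∈ I.erase 1, f w = ∑ w ∈ I.erase 1, 4 := Finset.sum_congr rfl fun w hw => by
      rw [Finset.mem_erase, hI, Finset.mem_filter] at hw
      exact (if_neg hw.1).trans (if_pos hw.2.2)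
    rw [this, Finset.sum_const, Finset.card_erase_of_mem h1I, hIcard]
    norm_num
  have htot : 96 ≤ ∑ w : K ⧸ B, f w := by
    rw [← Finset.sum_filter_add_sum_filter_not Finset.univ (fun w : K ⧸ B => w ∈ Eb) f, ← hI, ← hO]
    have : ∑ w ∈ O, f w = ∑ w ∈ O, orderOf w := Finset.sum_congr rfl fun w hw => by
      rw [hO, Finset.mem_filter] at hw
      exact (if_neg fun h => hw.2 (by rw [h]; exact one_mem _)).trans (if_neg hw.2)
    omega
  have hfib : ∀ q : K ⧸ B, (Finset.univ.filter fun x : K => π x = q).card = z := by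
    intro q
    obtain ⟨g, rfl⟩ := QuotientGroup.mk'_surjective B q
    rw [hz, Nat.card_eq_fintype_card, ← Finset.card_univ]
    refine (Finset.card_nbij (fun b : B => g * b) (fun b _ => ?_) (fun a _ b _ h =>
      Subtype.ext (mul_left_cancel h)) (fun x hx => ?_)).symm
    · simp only [Finset.coe_filter, Finset.mem_univ, true_and, Set.mem_setOf_eq, Finset.mem_filter]
      exact QuotientGroup.mk_mul_of_mem g b.2
    · simp only [Finset.coe_filter, Finset.mem_univ, true_and, Set.mem_setOf_eq] at hx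
      refine ⟨⟨g⁻¹ * x, ?_⟩, Finset.mem_coe.mpr (Finset.mem_univ _), mul_inv_cancel_left _ _⟩
      exact QuotientGroup.eq.mp hx.symm
  have hmain : z * (z * 96) ≤ Nat.card (ConjClasses K) * (24 * z) := by
    rw [← hK24, ← sum_card_commute]
    refine le_trans ?_ (Finset.sum_le_sum fun x _ => hlow x)
    rw [← Finset.mul_sum, ← Finset.sum_fiberwise Finset.univ π (fun x => f (π x))]
    refine Nat.mul_le_mul_left _ (le_trans (Nat.mul_le_mul_left _ htot) ?_)
    rw [Finset.mul_sum]
    refine Finset.sum_le_sum fun q _ => le_of_eq ?_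
    rw [Finset.sum_congr rfl (g := fun _ => f q) (fun x hx => by rw [(Finset.mem_filter.mp hx).2]),
      Finset.sum_const, smul_eq_mul, hfib]
  refine Nat.le_of_mul_le_mul_right ?_ (by positivity : 0 < 24 * z)
  calc 4 * z * (24 * z) = z * (z * 96) := by ring
    _ ≤ _ := hmain

end Cfsg.Agent.Lib.ClassLowerSolv
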