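import Mathlib
import Cfsg.Agent.Lib.ClassLowerSolv.CommRatio
import Cfsg.Agent.Lib.ClassLowerSolv.Primitive
import Cfsg.Agent.Lib.ClassLowerSolv.Index

/-!
# `|K| ≤ 11 ^ (m-1) * k(K)` for solvable linear groups of degree `m`
-/

set_option autoImplicit false
set_option linter.style.haveILetI false

namespace Cfsg.Agent.Lib.ClassLowerSolv

open Module

theorem pow_six_le : ∀ y : ℕ, 16 ≤ y → y ^ 6 ≤ 12 * 11 ^ (y - 2 - y / 2) := by
  intro y hy
  induction y using Nat.strong_induction_on with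
  | _ y ih =>
    rcases Nat.lt_or_ge y 18 with h | h
    · interval_cases y <;> norm_num
    · obtain ⟨z, rfl⟩ := Nat.exists_eq_add_of_le' (show 2 ≤ y by omega)
      have h1 := ih z (by omega) (by omega)
      rw [show z + 2 - 2 - (z + 2) / 2 = (z - 2 - z / 2) + 1 from by omega, pow_succ' 11]
      have h2 : 8 * (z + 2) ≤ 9 * z := by omega
      have h3 : 262144 * (z + 2) ^ 6 ≤ 531441 * z ^ 6 := by
        have := Nat.pow_le_pow_left h2 6
        rw [mul_pow, mul_pow] at this
        norm_num at this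
        exact this
      generalize (z + 2) ^ 6 = a at h3 ⊢
      generalize z ^ 6 = b at h1 h3 ⊢
      omega

theorem layer_numeric {m y : ℕ} (hm : 5 ≤ m) (hy : y ≤ m)
    (hrad : ∀ q : ℕ, q.Prime → q ∣ y → q ∣ m) : y ^ 2 * symBound y ≤ 6 * 11 ^ (m - 2) := by
  rcases Nat.lt_or_ge y 16 with h | h
  · rcases Nat.lt_or_ge m 10 with h' | h'
    · have h2 := hrad 2 Nat.prime_two
      have h3 := hrad 3 Nat.prime_three
      interval_cases m <;> interval_cases y <;>
        first
        | decide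
        | (exfalso; revert h2 h3; decide)
    · refine le_trans ?_ (Nat.mul_le_mul_left _ (Nat.pow_le_pow_right (by norm_num) (by omega :
        8 ≤ m - 2)))
      interval_cases y <;> decide
  · refine le_trans ?_ (Nat.mul_le_mul_left _ (Nat.pow_le_pow_right (by norm_num) (by omega :
      y - 2 ≤ m - 2)))
    rw [symBound_big h]
    have h6 := pow_six_le y h
    calc y ^ 2 * (y ^ 4 / 2 * 11 ^ (y / 2)) ≤ (y ^ 6 / 2) * 11 ^ (y / 2) := by
          rw [← mul_assoc]
          refine Nat.mul_le_mul_right _ ?_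
          exact (Nat.mul_div_le_mul_div_assoc _ _ _).trans (by rw [← pow_add])
      _ ≤ (6 * 11 ^ (y - 2 - y / 2)) * 11 ^ (y / 2) := Nat.mul_le_mul_right _ (by omega)
      _ = 6 * 11 ^ (y - 2) := by rw [mul_assoc, ← pow_add]; congr 2; omega

variable {K : Type*} [Group K] [Finite K] [Group.IsSolvable K] {F : Type*} [Field F]
  [IsAlgClosed F]

section Scalar

variable {W : Type*} [AddCommGroup W] [Module F W] [FiniteDimensional F W] [Nontrivial W]
  {σ : K →* Module.End F W}

theorem scalar_card_le_classes (hσ : Function.Injective σ) (B : Subgroup K)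
    (hscal : ∀ b ∈ B, ∃ c : F, σ b = c • 1) : Nat.card B ≤ Nat.card (ConjClasses K) := by
  have h := card_le_classNumber_mul B ⊤ fun x hx k _ => scalar_central hσ hscal k x hx
  rwa [Subgroup.index_top, mul_one] at h

theorem scalar_two_le (hσ : Function.Injective σ) (B : Subgroup K) [B.Normal]
    (hscal : ∀ b ∈ B, ∃ c : F, σ b = c • 1) (hm : finrank F W ≤ 4)
    (hbig : 42 * Nat.card B < Nat.card K) : 2 * Nat.card B ≤ Nat.card (ConjClasses K) := by
  have h := scalar_classes hσ B hscal
  have hR : Nat.gcd (Nat.card B) (finrank F W) ≤ 4 :=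
    (Nat.le_of_dvd Module.finrank_pos (Nat.gcd_dvd_right _ _)).trans hm
  have hR0 : 0 < Nat.gcd (Nat.card B) (finrank F W) := Nat.gcd_pos_of_pos_left _ Nat.card_pos
  have hk : 5 ≤ Nat.card (ConjClasses (K ⧸ B)) := by
    by_contra hk
    have h42 := card_le_of_classes_le_four (G := K ⧸ B) (by omega)
    have e : Nat.card B * Nat.card (K ⧸ B) = Nat.card K := B.card_mul_index
    have := Nat.mul_le_mul_left (Nat.card B) h42
    linarith
  have := Nat.mul_le_mul_left (Nat.card B) hk
  generalize Nat.gcd (Nat.card B) (finrank F W) = R at h hR hR0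
  rw [mul_add] at h
  interval_cases R <;> omega

theorem scalar_ratio (hσ : Function.Injective σ) (B : Subgroup K) [B.Normal]
    (hscal : ∀ b ∈ B, ∃ c : F, σ b = c • 1)
    (hBmax : ∀ D : Subgroup K, D.Normal → (∀ a ∈ D, ∀ b ∈ D, a * b = b * a) → B ≤ D → D = B) :
    Nat.card K ≤ 11 ^ (finrank F W - 1) * Nat.card (ConjClasses K) := by
  have hk := scalar_card_le_classes hσ B hscal
  have hm0 : 0 < finrank F W := Module.finrank_pos
  by_cases h2 : finrank F W = 2
  · rw [h2]
    rcases two_dim hσ B hscal hBmax h2 with ⟨h, h'⟩ | ⟨h, h'⟩ | ⟨h, h'⟩ <;> omega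
  obtain ⟨y, hy1, hy2, hy3, hy⟩ := scalar_order hσ B hscal hBmax
  set m := finrank F W with hm
  by_cases h5 : 5 ≤ m
  · refine hy.trans ?_
    rw [mul_comm]
    refine Nat.mul_le_mul ((layer_numeric h5 hy2 hy3).trans ?_) hk
    rw [show m - 1 = (m - 2) + 1 from by omega, pow_succ']
    exact Nat.mul_le_mul_right _ (by norm_num)
  · have h2' := hy3 2 Nat.prime_two
    have h3' := hy3 3 Nat.prime_three
    have hcase : m = 1 ∨ m = 3 ∨ m = 4 := by omega
    rcases hcase with e | e | e
    · rw [e] at hy2 ⊢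
      interval_cases y
      simp only [symBound] at hy
      omega
    · rw [e] at hy2 h2' h3' ⊢
      by_cases hbig : 42 * Nat.card B < Nat.card K
      · have := scalar_two_le hσ B hscal (by omega) hbig
        interval_cases y <;> simp only [symBound] at hy <;> omega
      · omega
    · rw [e] at hy2 h2' h3' ⊢
      interval_cases y <;> simp only [symBound] at hy <;> omega

end Scalar

/-- Either the abelian normal subgroup is scalar, or the degree splits. -/
theorem split_or_scalar {p : ℕ} [Fact p.Prime] [CharP F p]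
    {W : Type*} [AddCommGroup W] [Module F W] [FiniteDimensional F W] [Nontrivial W]
    {σ : K →* Module.End F W} (hσ : Function.Injective σ) (hgood : GoodRep p σ)
    (ih : ∀ (C : Subgroup K) (U : Submodule F W) (τ : C →* Module.End F U), U ≠ ⊥ →
      finrank F U < finrank F W → GoodRep p τ →
      Nat.card (C ⧸ τ.ker) ≤ 11 ^ (finrank F U - 1) * Nat.card (ConjClasses (C ⧸ τ.ker))) :
    (∃ B : Subgroup K, B.Normal ∧ (∀ b ∈ B, ∃ c : F, σ b = c • 1) ∧
      ∀ D : Subgroup K, D.Normal → (∀ a ∈ D, ∀ b ∈ D, a * b = b * a) → B ≤ D → D = B) ∨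
    ∃ s : ℕ, 2 ≤ s ∧ s ≤ finrank F W ∧
      Nat.card K ≤ permBound s ^ 2 * 11 ^ (finrank F W - s) * Nat.card (ConjClasses K) := by
  classical
  obtain ⟨B, hBn, hA, hBmax⟩ := exists_maximal_abelian (C := K)
  haveI := hBn
  have hB0 : (Nat.card B : F) ≠ 0 := goodRep_core hσ hgood B hA
  haveI : Finite (Wts σ B) := finite_wts hA hB0
  letI : Fintype (Wts σ B) := Fintype.ofFinite _
  by_cases hsub : Subsingleton (Wts σ B)
  · refine Or.inl ⟨B, hBn, fun b hb => ?_, hBmax⟩
    obtain ⟨χ₀, hχ₀⟩ : ∃ χ : B → F, wsp σ B χ ≠ ⊥ := by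
      by_contra hc
      push Not at hc
      have := iSup_wsp (ρ := σ) hA hB0
      simp only [hc, iSup_bot] at this
      exact bot_ne_top this
    refine ⟨χ₀ ⟨b, hb⟩, ext_on_wsp (ρ := σ) hA hB0 fun χ hχ w hw => ?_⟩
    have : χ = χ₀ := congrArg Subtype.val (Subsingleton.elim (α := Wts σ B) ⟨χ, hχ⟩ ⟨χ₀, hχ₀⟩)
    subst this
    rw [LinearMap.smul_apply, Module.End.one_apply]
    exact mem_wsp.mp hw ⟨b, hb⟩
  haveI : Nontrivial (Wts σ B) := not_subsingleton_iff_nontrivial.mp hsub
  right
  set s := Fintype.card (Wts σ B) with hs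
  have hs2 : 2 ≤ s := Fintype.one_lt_card
  set C := Subgroup.centralizer (B : Set K) with hC
  haveI hCn : C.Normal := by rw [hC]; infer_instance
  have hBC : B ≤ C := fun a ha => Subgroup.mem_centralizer_iff.mpr fun b hb => hA b hb a ha
  set m : Wts σ B → ℕ := fun χ => finrank F (wsp σ B χ.1) with hm
  have hm1 : ∀ χ, 1 ≤ m χ := fun χ => Submodule.one_le_finrank_iff.mpr χ.2
  have hsum : ∑ χ, m χ = finrank F W := sum_finrank_wts hA hB0
  have hsm : ∑ χ, (m χ - 1) = finrank F W - s := by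
    have h1 : ∑ χ : Wts σ B, m χ = (∑ χ, (m χ - 1)) + s := by
      rw [hs, ← Finset.card_univ, Finset.card_eq_sum_ones, ← Finset.sum_add_distrib]
      exact Finset.sum_congr rfl fun χ _ => by have := hm1 χ; omega
    omega
  have hsW : s ≤ finrank F W := by
    rw [← hsum, hs, ← Finset.card_univ, Finset.card_eq_sum_ones]
    exact Finset.sum_le_sum fun χ _ => hm1 χ
  refine ⟨s, hs2, hsW, ?_⟩
  -- the permutation part
  letI actΩ : MulAction K (Wts σ B) :=
    { smul := fun g χ => ⟨fun b => χ.1 (MulAut.conjNormal g⁻¹ b), by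
        obtain ⟨w, hw, hw0⟩ := Submodule.exists_mem_ne_zero_of_ne_bot χ.2
        refine fun hbot => hw0 ?_
        have h := mapsTo_wsp g χ.1 hw
        rw [hbot, Submodule.mem_bot] at h
        have h2 := congrArg (σ g⁻¹) h
        rwa [map_zero, ← rho_mul_apply, inv_mul_cancel, map_one, Module.End.one_apply] at h2⟩
      one_smul := fun χ => Subtype.ext (_root_.funext fun b => congrArg χ.1 (Subtype.ext (by simp)))
      mul_smul := fun g h χ => Subtype.ext (_root_.funext fun b => congrArg χ.1 (Subtype.ext (by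
        simp [mul_assoc]))) }
  set φ := MulAction.toPermHom K (Wts σ B) with hφ
  have hker : φ.ker ≤ C := by
    intro g hg
    rw [hC, Subgroup.mem_centralizer_iff]
    intro b hb
    have hfix : ∀ χ : Wts σ B, χ.1 (MulAut.conjNormal g⁻¹ (MulAut.conjNormal g ⟨b, hb⟩)) =
        χ.1 (MulAut.conjNormal g ⟨b, hb⟩) := fun χ => by
      have h1 : φ g χ = χ := by rw [MonoidHom.mem_ker.mp hg]; rfl
      exact congrFun (congrArg Subtype.val h1) _
    have heq : σ (g * b * g⁻¹) = σ b := ext_on_wsp hA hB0 fun χ hχ w hw => by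
      rw [mem_wsp] at hw
      have e1 := hw (MulAut.conjNormal g ⟨b, hb⟩)
      rw [MulAut.conjNormal_apply] at e1
      rw [e1, hw ⟨b, hb⟩]
      congr 1
      have h2 := hfix ⟨χ, hχ⟩
      rw [map_inv, MulAut.inv_apply_self] at h2
      exact h2.symm
    have := hσ heq
    rw [mul_inv_eq_iff_eq_mul] at this
    exact this.symm
  have hj : C.index ≤ permBound s := by
    have h1 := card_range_le_permBound φ
    rw [Nat.card_eq_fintype_card (α := Wts σ B), ← hs] at h1
    refine le_trans ?_ h1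
    rw [← Subgroup.index_ker]
    exact Nat.le_of_dvd (Nat.pos_of_ne_zero Subgroup.index_ne_zero_of_finite)
      (Subgroup.index_dvd_of_le hker)
  -- the components
  set ρ := σ.comp C.subtype with hρ
  set B' := B.subgroupOf C with hB'
  have hB'0 : (Nat.card B' : F) ≠ 0 := by
    rwa [Nat.card_congr (Subgroup.subgroupOfEquivOfLe hBC).toEquiv]
  have hcen : ∀ c : C, ∀ b ∈ B', b * c = c * b := fun c b hb => Subtype.ext
    (Subgroup.mem_centralizer_iff.mp c.2 b hb)
  have hpres : ∀ χ : Wts σ B, InvSub ρ (wsp σ B χ.1) := by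
    intro χ c w hw
    rw [mem_wsp] at hw ⊢
    intro b
    show σ b (σ c w) = _
    rw [← rho_mul_apply, Subgroup.mem_centralizer_iff.mp c.2 b b.2, rho_mul_apply, hw b, map_smul]
    rfl
  let τ : ∀ χ : Wts σ B, C →* Module.End F (wsp σ B χ.1) := fun χ =>
    { toFun := fun c => (ρ c).restrict (hpres χ c)
      map_one' := LinearMap.ext fun v => Subtype.ext (by simp [LinearMap.restrict_apply])
      map_mul' := fun c c' => LinearMap.ext fun v => Subtype.ext (by
        simp [LinearMap.restrict_apply, Module.End.mul_apply]) }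
  have hwsp : ∀ χ : Wts σ B,
      wsp ρ B' (fun b => χ.1 ⟨((b : C) : K), b.2⟩) = wsp σ B χ.1 := by
    intro χ
    ext w
    rw [mem_wsp, mem_wsp]
    exact ⟨fun h b => h ⟨⟨b, hBC b.2⟩, b.2⟩, fun h b => h ⟨_, b.2⟩⟩
  have hτgood : ∀ χ, GoodRep p (τ χ) := by
    intro χ
    rcases goodRep_normal C hgood with h | ⟨h1, h2⟩
    · exact Or.inl h
    refine Or.inr ⟨?_, h2⟩
    have key : ∀ (U : Submodule F W) (hU : wsp ρ B' (fun b => χ.1 ⟨((b : C) : K), b.2⟩) = U)
        (ν : C →* Module.End F U), (∀ c w, ((ν c w : U) : W) = ρ c w) → SocTop ν := by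
      intro U hU
      subst hU
      intro ν hν
      exact socTop_restrict hcen hB'0 h1 _ ν hν
    exact key _ (hwsp χ) (τ χ) fun c w => rfl
  have hlt : ∀ χ : Wts σ B, finrank F (wsp σ B χ.1) < finrank F W := by
    intro χ
    obtain ⟨ψ, hψ⟩ := exists_ne χ
    have h2 := Finset.add_sum_erase Finset.univ m (Finset.mem_univ χ)
    have h3 : m ψ ≤ ∑ ω ∈ Finset.univ.erase χ, m ω :=
      Finset.single_le_sum (fun _ _ => Nat.zero_le _) (Finset.mem_erase.mpr ⟨hψ, Finset.mem_univ _⟩)
    have := hm1 ψ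
    show m χ < _
    omega
  let Φ : C →* ∀ χ : Wts σ B, C ⧸ (τ χ).ker :=
    MonoidHom.mk' (fun c χ => (c : C ⧸ (τ χ).ker)) fun a b =>
      _root_.funext fun χ => QuotientGroup.mk_mul _ a b
  have hΦ : Function.Injective Φ := by
    rw [injective_iff_map_eq_one]
    intro c hc
    refine Subtype.ext (hσ (ext_on_wsp (ρ := σ) hA hB0 fun χ hχ w hw => ?_))
    rw [Subgroup.coe_one, map_one, Module.End.one_apply]
    have h1 : τ ⟨χ, hχ⟩ c = 1 := (QuotientGroup.eq_one_iff _).mp (congrFun hc ⟨χ, hχ⟩)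
    exact congrArg Subtype.val (DFunLike.congr_fun h1 ⟨w, hw⟩)
  have hCb : Nat.card C ≤ (∏ χ : Wts σ B, 11 ^ (m χ - 1)) * Nat.card (ConjClasses C) :=
    card_le_prod_mul_classes Φ hΦ (fun χ => 11 ^ (m χ - 1)) fun χ => ih C _ (τ χ) χ.2 (hlt χ) (hτgood χ)
  rw [Finset.prod_pow_eq_pow_sum, hsm] at hCb
  refine (card_le_of_subgroup C hCb).trans ?_
  exact Nat.mul_le_mul_right _ (Nat.mul_le_mul_right _ (Nat.pow_le_pow_left hj 2))

/-- The quotient by the kernel inherits the property. -/
theorem goodRep_kerLift {p : ℕ} {C : Type*} [Group C] [Finite C] {W : Type*} [AddCommGroup W]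
    [Module F W] (τ : C →* Module.End F W) (h : GoodRep p τ) :
    GoodRep p (QuotientGroup.lift τ.ker τ fun _ hx => hx) := by
  have hd : Nat.card (C ⧸ τ.ker) ∣ Nat.card C := Subgroup.card_quotient_dvd_card _
  rcases h with h | ⟨h1, h2⟩
  · exact Or.inl fun hp => h (hp.trans hd)
  · exact Or.inr ⟨socTop_of_comp (QuotientGroup.mk' τ.ker) (QuotientGroup.mk'_surjective _) h1,
      fun hp => h2 (hp.trans hd)⟩

omit [Group K] [Finite K] in
theorem kerLift_injective {C : Type*} [Group C] {W : Type*} [AddCommGroup W] [Module F W]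
    (τ : C →* Module.End F W) :
    Function.Injective (QuotientGroup.lift τ.ker τ fun _ hx => hx) := by
  rw [injective_iff_map_eq_one]
  intro q hq
  obtain ⟨c, rfl⟩ := QuotientGroup.mk_surjective q
  exact (QuotientGroup.eq_one_iff _).mpr hq

universe u v

theorem nine_pow_le : ∀ s : ℕ, 5 ≤ s → 9 ^ (s - 1) ≤ 6 * 11 ^ (s - 2) := by
  intro s hs
  induction s, hs using Nat.le_induction with
  | base => norm_num
  | succ s hs ih =>
    rw [show s + 1 - 1 = (s - 1) + 1 from by omega, show s + 1 - 2 = (s - 2) + 1 from by omega,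
      pow_succ, pow_succ]
    generalize 9 ^ (s - 1) = a at ih ⊢
    generalize 11 ^ (s - 2) = b at ih ⊢
    omega

theorem permBound_sq_le {s : ℕ} (hs : 2 ≤ s) : permBound s ^ 2 ≤ 6 * 11 ^ (s - 2) := by
  rcases Nat.lt_or_ge s 5 with h | h
  · interval_cases s <;> decide
  · calc permBound s ^ 2 ≤ (3 ^ (s - 1)) ^ 2 :=
          Nat.pow_le_pow_left (permBound_le_three_pow (by omega)) 2
      _ = 9 ^ (s - 1) := by rw [← pow_mul, mul_comm, pow_mul]; norm_num
      _ ≤ _ := nine_pow_le s h

theorem split_numeric {m s : ℕ} (hs : 2 ≤ s) (hsm : s ≤ m) :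
    permBound s ^ 2 * 11 ^ (m - s) ≤ 6 * 11 ^ (m - 2) := by
  refine (Nat.mul_le_mul_right _ (permBound_sq_le hs)).trans (le_of_eq ?_)
  rw [mul_assoc, ← pow_add]; congr 2; omega

/-- `|K| ≤ 11 ^ (m-1) * k(K)`. -/
theorem card_le_classes_of_degree {F : Type v} [Field F] [IsAlgClosed F] {p : ℕ} [Fact p.Prime]
    [CharP F p] : ∀ (n : ℕ) (K : Type u) [Group K] [Finite K] [Group.IsSolvable K]
    (W : Type v) [AddCommGroup W] [Module F W] [FiniteDimensional F W] [Nontrivial W]
    (σ : K →* Module.End F W), finrank F W = n → Function.Injective σ → GoodRep p σ →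
    Nat.card K ≤ 11 ^ (n - 1) * Nat.card (ConjClasses K) := by
  intro n
  induction n using Nat.strong_induction_on with
  | _ n ih => ?_
  intro K _ _ _ W _ _ _ _ σ hn hσ hgood
  subst hn
  have key := split_or_scalar hσ hgood fun C U τ hU hlt hg => by
    haveI : Nontrivial U := Submodule.nontrivial_iff_ne_bot.mpr hU
    haveI : Group.IsSolvable (C ⧸ τ.ker) :=
      Group.isSolvable_of_surjective (QuotientGroup.mk'_surjective _)
    exact ih _ hlt (C ⧸ τ.ker) U _ rfl (kerLift_injective τ) (goodRep_kerLift τ hg)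
  rcases key with ⟨B, hBn, hscal, hmax⟩ | ⟨s, h2, hsm, h⟩
  · haveI := hBn
    exact scalar_ratio hσ B hscal hmax
  · refine h.trans (Nat.mul_le_mul_right _ ((split_numeric h2 hsm).trans ?_))
    rw [show finrank F W - 1 = (finrank F W - 2) + 1 from by omega, pow_succ']
    exact Nat.mul_le_mul_right _ (by norm_num)

end Cfsg.Agent.Lib.ClassLowerSolv
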