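import Mathlib
import Cfsg.Agent.Lib.ClassLowerSolv.Ratio
import Cfsg.Agent.Lib.ClassLowerSolv.Count
import Cfsg.Agent.Lib.Supersolvable.MinNormal

/-!
# Classes of `H` plus orbits of `H` on its module
-/

set_option autoImplicit false
set_option linter.style.haveILetI false

namespace Cfsg.Agent.Lib.ClassLowerSolv

open Module

theorem ratio_numeric {p a n k Y : ℕ} (hp : 11 ≤ p) (ha : 2 ≤ a)
    (hn : 10 * n ≤ 59 * p ^ (a - 2) * k) (hY : p ^ a ≤ Y * n + 1) : 49 * p ≤ 60 * (k + Y) := by
  obtain ⟨b, rfl⟩ := Nat.exists_eq_add_of_le' ha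
  simp only [Nat.add_sub_cancel] at hn
  have hq : 1 ≤ p ^ b := Nat.one_le_pow _ _ (by omega)
  have h1 : p ^ b * (10 * (p * p)) ≤ p ^ b * (59 * (k * Y) + 10) := by
    calc p ^ b * (10 * (p * p)) = 10 * p ^ (b + 2) := by ring
      _ ≤ 10 * (Y * n + 1) := Nat.mul_le_mul_left _ hY
      _ = Y * (10 * n) + 10 := by ring
      _ ≤ Y * (59 * p ^ b * k) + 10 * p ^ b :=
          Nat.add_le_add (Nat.mul_le_mul_left _ hn) (Nat.le_mul_of_pos_right _ hq)
      _ = _ := by ring
  have h2 := Nat.le_of_mul_le_mul_left h1 hq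
  have h3 : 4 * (k * Y) ≤ (k + Y) * (k + Y) := by nlinarith [mul_self_nonneg ((k : ℤ) - Y)]
  by_contra hc
  push Not at hc
  have h4 : (60 * (k + Y) + 1) * (60 * (k + Y) + 1) ≤ (49 * p) * (49 * p) := Nat.mul_self_le_mul_self hc
  nlinarith [Nat.mul_le_mul hp hp]

theorem type_two_numeric {p z k Y : ℕ} (hp : 5 ≤ p) (hz : z ∣ p - 1) (hz2 : 2 ≤ z)
    (hk : 2 * z ≤ k) (hY : p ^ 2 ≤ 12 * z * Y + 1) : 49 * p ≤ 60 * (k + Y) := by
  obtain ⟨t, ht⟩ := hz
  obtain ⟨q, rfl⟩ := Nat.exists_eq_add_of_le' (show 1 ≤ p by omega)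
  simp only [Nat.add_sub_cancel] at ht
  subst ht
  have h1 : t * (z * t + 2) ≤ 12 * Y := by
    refine Nat.le_of_mul_le_mul_left (c := z) ?_ (by omega : 0 < z)
    calc z * (t * (z * t + 2)) = (z * t + 1) ^ 2 - 1 := by
          rw [show (z * t + 1) ^ 2 = z * (t * (z * t + 2)) + 1 from by ring, Nat.add_sub_cancel]
      _ ≤ 12 * z * Y := by omega
      _ = z * (12 * Y) := by ring
  rcases Nat.lt_or_ge t 6 with h | h
  · interval_cases t <;> omega
  · have h2 : 49 * t ≤ 5 * (t * t) + 120 := by nlinarith [mul_self_nonneg ((t : ℤ) - 5)]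
    have h3 := Nat.mul_le_mul_left z h2
    nlinarith [Nat.mul_le_mul h h]

theorem type_three_numeric {p z k Y : ℕ} (hp : 5 ≤ p) (hz : z ∣ p - 1) (hz2 : 2 ≤ z)
    (hk : 4 * z ≤ k) (hY : p ^ 2 ≤ 24 * z * Y + 1) : 49 * p ≤ 60 * (k + Y) := by
  obtain ⟨t, ht⟩ := hz
  obtain ⟨q, rfl⟩ := Nat.exists_eq_add_of_le' (show 1 ≤ p by omega)
  simp only [Nat.add_sub_cancel] at ht
  subst ht
  have h1 : t * (z * t + 2) ≤ 24 * Y := by
    refine Nat.le_of_mul_le_mul_left (c := z) ?_ (by omega : 0 < z)
    calc z * (t * (z * t + 2)) = (z * t + 1) ^ 2 - 1 := by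
          rw [show (z * t + 1) ^ 2 = z * (t * (z * t + 2)) + 1 from by ring, Nat.add_sub_cancel]
      _ ≤ 24 * z * Y := by omega
      _ = z * (24 * Y) := by ring
  rcases Nat.lt_or_ge t 10 with h | h
  · interval_cases t <;> omega
  · have h2 : 98 * t ≤ 5 * (t * t) + 480 := by nlinarith [mul_self_nonneg ((t : ℤ) - 10)]
    have h3 := Nat.mul_le_mul_left z h2
    nlinarith [Nat.mul_le_mul h h]

theorem type_two_numeric_aux {p n z k Y : ℕ} (hp : 5 ≤ p) (hn : n = z) (hY : p ^ 2 ≤ Y * n + 1)
    (hk : z ≤ k) (hk2 : 2 * z ≤ k) : 49 * p ≤ 60 * (k + Y) := by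
  subst hn
  by_contra hc
  push Not at hc
  have h4 : 4 * (k * Y) ≤ (k + Y) * (k + Y) := by nlinarith [mul_self_nonneg ((k : ℤ) - Y)]
  have h5 : Y * n ≤ k * Y := by rw [mul_comm k]; exact Nat.mul_le_mul_left _ hk
  have h6 : (60 * (k + Y) + 1) * (60 * (k + Y) + 1) ≤ (49 * p) * (49 * p) := Nat.mul_self_le_mul_self hc
  nlinarith [Nat.mul_le_mul hp hp]

theorem prime_five_seven {p : ℕ} (hp : p.Prime) (h5 : 5 ≤ p) (h11 : p < 11) : p = 5 ∨ p = 7 := by
  interval_cases p <;> first | omega | exact absurd hp (by norm_num)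

theorem small_dim_two {p n k Y : ℕ} (hp : p.Prime) (h5 : 5 ≤ p) (h11 : p < 11)
    (hY : p ^ 2 ≤ Y * n + 1) (hn : n ≤ 4 * k) : 49 * p ≤ 60 * (k + Y) := by
  have h4 : Y * n ≤ Y * (4 * k) := Nat.mul_le_mul_left _ hn
  by_contra hc
  push Not at hc
  rcases prime_five_seven hp h5 h11 with rfl | rfl <;>
    (have hk : k ≤ 5 := by omega
     interval_cases k <;> omega)

universe u

/-- `k(H) + Y ≥ 49 p / 60`. -/
theorem classes_add_orbits {H : Type u} [Group H] [Finite H] [Group.IsSolvable H] {p : ℕ}
    [hp : Fact p.Prime] {a : ℕ} (ha : 2 ≤ a) (M : H →* Matrix (Fin a) (Fin a) (ZMod p))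
    (hM : Function.Injective M) (L : H →* Module.End (AlgebraicClosure (ZMod p))
      (Fin a → AlgebraicClosure (ZMod p)))
    (hL : ∀ h, L h = Matrix.toLin' ((M h).map (algebraMap (ZMod p) (AlgebraicClosure (ZMod p)))))
    (hgood : GoodRep p L) (hp5 : 5 ≤ p) {Y : ℕ} (hY : p ^ a ≤ Y * Nat.card H + 1) :
    49 * p ≤ 60 * (Nat.card (ConjClasses H) + Y) := by
  classical
  set F := AlgebraicClosure (ZMod p)
  haveI : CharP F p := charP_of_injective_algebraMap (algebraMap (ZMod p) F).injective p
  have hLinj : Function.Injective L := fun g h hgh => hM (by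
    rw [hL, hL] at hgh
    ext i j
    exact (algebraMap (ZMod p) F).injective
      (congrFun (congrFun (Matrix.toLin'.injective hgh) i) j))
  haveI : Nonempty (Fin a) := ⟨⟨0, by omega⟩⟩
  have hfin : finrank F (Fin a → F) = a := Module.finrank_fin_fun F
  set k := Nat.card (ConjClasses H) with hk
  -- the small primes
  by_cases hsmall : p < 11 ∧ 3 ≤ a
  · obtain ⟨hp11, ha3⟩ := hsmall
    have hk1 : 1 ≤ k := Nat.card_pos
    have hpow : p ^ 3 ≤ p ^ a := Nat.pow_le_pow_right (by omega) ha3
    by_cases hk4 : k ≤ 4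
    · have h42 := card_le_of_classes_le_four (G := H) hk4
      have h := Nat.mul_le_mul_left Y h42
      have hone : k = 1 → Nat.card H = 1 := fun h1 => by
        by_contra hne
        haveI : Nontrivial H := Finite.one_lt_card_iff_nontrivial.mp (by
          have : 0 < Nat.card H := Nat.card_pos
          omega)
        have := two_le_classes (G := H)
        omega
      by_cases hk1' : k = 1
      · rw [hone hk1', mul_one] at hY
        rcases prime_five_seven hp.out hp5 hp11 with rfl | rfl <;> norm_num at hpow ⊢ <;> omega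
      rcases prime_five_seven hp.out hp5 hp11 with rfl | rfl <;> norm_num at hpow ⊢ <;> omega
    · have hY1 : 1 ≤ Y := by
        rcases Nat.eq_zero_or_pos Y with h | h
        · rw [h, zero_mul, zero_add] at hY
          have : 2 ≤ p ^ 3 := le_trans (by omega : 2 ≤ p) (Nat.le_self_pow (by norm_num) p)
          omega
        · exact h
      rcases prime_five_seven hp.out hp5 hp11 with rfl | rfl <;> omega
  -- the dichotomy
  have key := split_or_scalar hLinj hgood fun C U τ hU hlt hg => by
    haveI : Nontrivial U := Submodule.nontrivial_iff_ne_bot.mpr hU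
    haveI : Group.IsSolvable (C ⧸ τ.ker) :=
      Group.isSolvable_of_surjective (QuotientGroup.mk'_surjective _)
    exact card_le_classes_of_degree _ (C ⧸ τ.ker) U _ rfl (kerLift_injective τ) (goodRep_kerLift τ hg)
  rw [hfin] at key
  rcases key with ⟨B, hBn, hscal, hmax⟩ | ⟨s, hs2, hsa, hs⟩
  swap
  · rcases Nat.lt_or_ge p 11 with hp11 | hp11
    · have ha2 : a = 2 := by omega
      subst ha2
      obtain rfl : s = 2 := by omega
      have hs' : Nat.card H ≤ 4 * k := by
        simpa [permBound, Nat.factorial] using hs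
      have h4 : Y * Nat.card H ≤ Y * (4 * k) := Nat.mul_le_mul_left _ hs'
      exact small_dim_two hp.out hp5 hp11 hY hs'
    · refine ratio_numeric hp11 ha ?_ hY
      have h1 : 10 * permBound s ^ 2 ≤ 59 * 11 ^ (s - 2) := by
        rcases Nat.lt_or_ge s 5 with h | h
        · interval_cases s <;> decide
        · calc 10 * permBound s ^ 2 ≤ 10 * (3 ^ (s - 1)) ^ 2 := Nat.mul_le_mul_left _
                (Nat.pow_le_pow_left (permBound_le_three_pow (by omega)) 2)
            _ = 10 * 9 ^ (s - 1) := by rw [← pow_mul, mul_comm (s - 1) 2, pow_mul]; norm_num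
            _ ≤ _ := by
              clear hs hsa
              induction s, h using Nat.le_induction with
              | base => norm_num
              | succ s h ih =>
                have ih' := ih (by omega)
                rw [show s + 1 - 1 = (s - 1) + 1 from by omega,
                  show s + 1 - 2 = (s - 2) + 1 from by omega, pow_succ, pow_succ]
                generalize 9 ^ (s - 1) = u at ih' ⊢
                generalize 11 ^ (s - 2) = v at ih' ⊢
                omega
      calc 10 * Nat.card H ≤ 10 * (permBound s ^ 2 * 11 ^ (a - s) * k) := Nat.mul_le_mul_left _ hs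
        _ = 10 * permBound s ^ 2 * (11 ^ (a - s) * k) := by ring
        _ ≤ 59 * 11 ^ (s - 2) * (11 ^ (a - s) * k) := Nat.mul_le_mul_right _ h1
        _ = 59 * 11 ^ (a - 2) * k := by
            rw [show a - 2 = (s - 2) + (a - s) from by omega, pow_add]; ring
        _ ≤ _ := Nat.mul_le_mul_right _ (Nat.mul_le_mul_left _ (Nat.pow_le_pow_left hp11 _))
  haveI := hBn
  -- the scalars lie in the prime field
  have hzp : Nat.card B ∣ p - 1 := by
    have hc : ∀ b : B, ∃ c : (ZMod p), (M b) = c • (1 : Matrix (Fin a) (Fin a) (ZMod p)) := by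
      intro b
      obtain ⟨c, hc⟩ := hscal b b.2
      rw [hL] at hc
      have hmat : (M b).map (algebraMap (ZMod p) F) = c • 1 := by
        apply Matrix.toLin'.injective
        rw [hc, map_smul, Matrix.toLin'_one]
        rfl
      refine ⟨M b ⟨0, by omega⟩ ⟨0, by omega⟩, ?_⟩
      ext i j
      apply (algebraMap (ZMod p) F).injective
      have h1 := congrFun (congrFun hmat i) j
      have h2 := congrFun (congrFun hmat ⟨0, by omega⟩) ⟨0, by omega⟩
      rw [Matrix.map_apply] at h1 h2
      rw [h1]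
      by_cases hij : i = j
      · subst hij; simp [h2]
      · simp [Matrix.one_apply_ne hij]
    choose c hc using hc
    have hinj : Function.Injective fun t : ZMod p => t • (1 : Matrix (Fin a) (Fin a) (ZMod p)) :=
      fun t t' h => by simpa using congrFun (congrFun h ⟨0, by omega⟩) ⟨0, by omega⟩
    let f : B →* ZMod p :=
      { toFun := c
        map_one' := hinj (by
          show c 1 • (1 : Matrix (Fin a) (Fin a) (ZMod p)) = (1 : ZMod p) • 1
          rw [← hc, Subgroup.coe_one, map_one, one_smul])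
        map_mul' := fun x y => hinj (by
          show c (x * y) • (1 : Matrix (Fin a) (Fin a) (ZMod p)) = (c x * c y) • 1
          rw [← hc, Subgroup.coe_mul, map_mul, hc, hc, smul_mul_smul_comm, mul_one]) }
    have hf : Function.Injective f.toHomUnits := fun x y h => by
      have h2 : c x = c y := congrArg Units.val h
      exact Subtype.ext (hM (by rw [hc, hc, h2]))
    have := Subgroup.card_dvd_of_injective f.toHomUnits hf
    rwa [Nat.card_eq_fintype_card (α := (ZMod p)ˣ), ZMod.card_units] at this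
  have hkz : Nat.card B ≤ k := scalar_card_le_classes hLinj B hscal
  set z := Nat.card B with hz
  have hz0 : 0 < z := Nat.card_pos
  by_cases ha2 : a = 2
  · subst ha2
    have h2 := two_dim hLinj B hscal hmax hfin
    have hz2 : Nat.card H ≠ z → 2 ≤ z := by
      intro hne
      by_contra hlt
      have hz1 : z = 1 := by omega
      haveI : Nontrivial H := by
        rw [← Finite.one_lt_card_iff_nontrivial]
        have : 0 < Nat.card H := Nat.card_pos
        omega
      obtain ⟨N, hNn, hN, hNc, -, -⟩ := Supersolvable.exists_minimal_normal_solvable H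
      have hB : B = ⊥ := Subgroup.card_eq_one.mp hz1
      have := hmax N hNn (fun x hx y hy => by
        have := hNc
        exact congrArg Subtype.val (mul_comm' (⟨x, hx⟩ : N) ⟨y, hy⟩)) (hB ▸ bot_le)
      exact hN (this.trans hB)
    rcases h2 with ⟨h, h'⟩ | ⟨h, h'⟩ | ⟨h, h'⟩
    · rcases Nat.lt_or_ge p 11 with hp11 | hp11
      · rw [h] at hY
        have h3 := Nat.mul_le_mul_left Y h'
        exact small_dim_two hp.out hp5 hp11 (Nat.le_trans hY le_rfl) (le_trans h' (by omega))
      · exact ratio_numeric hp11 le_rfl (by simp; omega) hY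
    · by_cases hne : Nat.card H = z
      · exact type_two_numeric_aux hp5 hne hY (le_trans (by omega) h') h'
      · refine type_two_numeric hp5 hzp (hz2 hne) h' (hY.trans ?_)
        have := Nat.mul_le_mul_left Y h
        linarith
    · by_cases hne : Nat.card H = z
      · exact type_two_numeric_aux hp5 hne hY (le_trans (by omega) h') (le_trans (by omega) h')
      · refine type_three_numeric hp5 hzp (hz2 hne) h' (hY.trans ?_)
        have := Nat.mul_le_mul_left Y h
        linarith
  have ha3 : 3 ≤ a := by omega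
  have hp11 : 11 ≤ p := by
    by_contra hc
    exact hsmall ⟨by omega, ha3⟩
  obtain ⟨y, hy1, hy2, hy3, hy⟩ := scalar_order hLinj B hscal hmax
  rw [hfin] at hy2 hy3
  rw [← hz] at hy
  by_cases ha5 : 5 ≤ a
  · have hM6 : Nat.card H ≤ z * (6 * 11 ^ (a - 2)) :=
      hy.trans (Nat.mul_le_mul_left _ (layer_numeric ha5 hy2 hy3))
    rcases Nat.lt_or_ge p 13 with hp13 | hp13
    · have hp' : p = 11 := by
        by_contra hne
        obtain rfl : p = 12 := by omega
        exact absurd hp.out (by norm_num)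
      subst hp'
      by_contra hc
      push Not at hc
      have h1 := Nat.mul_le_mul_left Y hM6
      have hq : 121 ≤ 11 ^ (a - 2) := by
        calc (121 : ℕ) = 11 ^ 2 := by norm_num
          _ ≤ _ := Nat.pow_le_pow_right (by norm_num) (by omega)
      have h2 : 11 ^ a = 121 * 11 ^ (a - 2) := by
        rw [show a = 2 + (a - 2) from by omega, pow_add]; norm_num
      have h3 : z * Y ≤ 20 := by
        have hz5 : z ≤ 5 := by
          have := Nat.le_of_dvd (by norm_num) hzp
          interval_cases z <;> omega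
        interval_cases z <;> omega
      have h4 : Y * (z * (6 * 11 ^ (a - 2))) ≤ 120 * 11 ^ (a - 2) := by
        calc Y * (z * (6 * 11 ^ (a - 2))) = (z * Y) * 6 * 11 ^ (a - 2) := by ring
          _ ≤ 20 * 6 * 11 ^ (a - 2) := Nat.mul_le_mul_right _ (Nat.mul_le_mul_right _ h3)
      omega
    · refine ratio_numeric hp11 ha ?_ hY
      calc 10 * Nat.card H ≤ 10 * (k * (6 * 11 ^ (a - 2))) :=
            Nat.mul_le_mul_left _ (hM6.trans (Nat.mul_le_mul_right _ hkz))
        _ = 60 * 11 ^ (a - 2) * k := by ring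
        _ ≤ _ := Nat.mul_le_mul_right _ (by
            rw [show a - 2 = (a - 3) + 1 from by omega, pow_succ, pow_succ]
            have h7 := Nat.pow_le_pow_left (show 11 ≤ p by omega) (a - 3)
            have h8 := Nat.mul_le_mul h7 hp13
            generalize 11 ^ (a - 3) = u at h8 ⊢
            generalize p ^ (a - 3) * p = v at h8 ⊢
            omega)
  by_cases hsm : Nat.card H ≤ 42 * z
  · refine ratio_numeric hp11 ha ?_ hY
    calc 10 * Nat.card H ≤ 10 * (42 * k) :=
          Nat.mul_le_mul_left _ (hsm.trans (Nat.mul_le_mul_left _ hkz))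
      _ = 420 * k := by ring
      _ ≤ _ := Nat.mul_le_mul_right _ (by
          have h1 : p ≤ p ^ (a - 2) := Nat.le_self_pow (by omega) p
          omega)
  have h2z := scalar_two_le hLinj B hscal (by rw [hfin]; omega) (not_le.mp hsm)
  rw [← hk, ← hz] at h2z
  have hcase : a = 3 ∨ a = 4 := by omega
  have hy2' := hy3 2 Nat.prime_two
  have hy3' := hy3 3 Nat.prime_three
  rcases hcase with rfl | rfl
  swap
  · refine ratio_numeric hp11 ha ?_ hY
    have hM4 : Nat.card H ≤ z * 1296 := hy.trans (Nat.mul_le_mul_left _ (by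
      interval_cases y <;> decide))
    calc 10 * Nat.card H ≤ 59 * 121 * k := by omega
      _ ≤ _ := Nat.mul_le_mul_right _ (Nat.mul_le_mul_left _ (by
          simpa using Nat.pow_le_pow_left hp11 2))
  have hM3 : Nat.card H ≤ z * 216 := hy.trans (Nat.mul_le_mul_left _ (by
    interval_cases y <;> first | decide | omega))
  have hcl := scalar_classes hLinj B hscal
  rw [hfin, ← hk, ← hz] at hcl
  have hk5 : 5 ≤ Nat.card (ConjClasses (H ⧸ B)) := by
    by_contra hc
    have h42 := card_le_of_classes_le_four (G := H ⧸ B) (by omega)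
    have e : Nat.card B * Nat.card (H ⧸ B) = Nat.card H := B.card_mul_index
    have := Nat.mul_le_mul_left z h42
    rw [← hz] at e
    have := not_le.mp hsm
    linarith
  have hzk := Nat.mul_le_mul_left z hk5
  have hR : Nat.gcd z 3 = 1 ∨ Nat.gcd z 3 = 3 := (Nat.dvd_prime Nat.prime_three).mp (Nat.gcd_dvd_right _ _)
  rw [mul_add] at hcl
  rcases hR with hR | hR <;> rw [hR] at hcl
  · refine ratio_numeric hp11 ha ?_ hY
    simp only [show (3 : ℕ) - 2 = 1 from rfl, pow_one]
    calc 10 * Nat.card H ≤ 59 * 11 * k := by omega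
      _ ≤ _ := Nat.mul_le_mul_right _ (Nat.mul_le_mul_left _ hp11)
  · have h3 : 3 ∣ p - 1 := (hR ▸ Nat.gcd_dvd_left z 3).trans hzp
    rcases Nat.lt_or_ge p 17 with hp17 | hp17
    · have hp' : p = 13 := by
        by_contra hne
        obtain rfl : p = 16 := by omega
        exact absurd hp.out (by norm_num)
      subst hp'
      by_contra hc
      push Not at hc
      have hz4 : z = 3 := by
        have h3z : 3 ∣ z := hR ▸ Nat.gcd_dvd_left z 3
        obtain ⟨w, hw⟩ := h3z
        omega
      have := Nat.mul_le_mul_left Y hM3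
      rw [hz4] at this
      omega
    · refine ratio_numeric hp11 ha ?_ hY
      simp only [show (3 : ℕ) - 2 = 1 from rfl, pow_one]
      calc 10 * Nat.card H ≤ 59 * 17 * k := by omega
        _ ≤ _ := Nat.mul_le_mul_right _ (Nat.mul_le_mul_left _ hp17)

end Cfsg.Agent.Lib.ClassLowerSolv
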